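import Cfsg.Agent.Lib.Golay.Trans
import Cfsg.Prelude.Def_Spor_Mathieu

/-!
Orders and simplicity of the Mathieu groups of `Cfsg.Spor` (and of the three-point stabiliser).
-/

set_option autoImplicit false

namespace Cfsg.Agent.Golay24

noncomputable section

open Cfsg
open scoped Pointwise

/-- The stabiliser in a subgroup, seen inside the ambient group. -/
def stabInfEquiv {G β : Type*} [Group G] [MulAction G β] (K : Subgroup G) (x : β) :
    MulAction.stabilizer K x ≃* ↥(K ⊓ MulAction.stabilizer G x) where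
  toFun g := ⟨((g : K) : G), (g : K).2, g.2⟩
  invFun g := ⟨⟨g.1, g.2.1⟩, g.2.2⟩
  left_inv _ := rfl
  right_inv _ := rfl
  map_mul' _ _ := rfl

theorem card_inf_stabilizer {G β : Type*} [Group G] [MulAction G β] (K : Subgroup G) (x : β)
    {S : Set β} {n m : ℕ} (hx : x ∈ S) (hmaps : ∀ g ∈ K, ∀ y ∈ S, g • y ∈ S)
    (hreach : ∀ y ∈ S, ∃ g ∈ K, g • x = y) (hS : S.ncard = n) (hK : Nat.card K = n * m)
    (hn0 : n ≠ 0) : Nat.card ↥(K ⊓ MulAction.stabilizer G x) = m := by
  rw [← Nat.card_congr (stabInfEquiv K x).toEquiv]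
  refine card_stabilizer_of_orbit ?_ hK hn0
  rw [← hS]
  refine congrArg Set.ncard (orbit_eq_of_reach hx (fun g y hy => hmaps g.1 g.2 y hy) ?_)
  intro y hy
  obtain ⟨g, hg, h⟩ := hreach y hy
  exact ⟨⟨g, hg⟩, h⟩

/-- The first positions of the chain of a certificate. -/
theorem GenCert.exists_map_one {c : GenCert} (h : c.ok = true) {K : Subgroup (Equiv.Perm GolayPt)}
    (hK : c.grp ≤ K) {Ω n : ℕ} (hc : coverOk Ω [] (c.chain.take n) = true) (hn : n ≤ c.chain.length)
    {m : ℕ} (hm : m ≤ n) (x y : Fin m ↪ GolayPt) (hx : ∀ i, x i ∈ setOf Ω)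
    (hy : ∀ i, y i ∈ setOf Ω) : ∃ σ ∈ K, σ • setOf Ω = setOf Ω ∧ ∀ i, σ (x i) = y i :=
  exists_embedding_map hc (fun _ hp _ ht => hK (c.chain_mem h (List.mem_of_mem_take hp) ht).2)
    (by rw [List.length_take]; omega) x y hx hy

theorem GenCert.exists_point_map {c : GenCert} (h : c.ok = true)
    {K : Subgroup (Equiv.Perm GolayPt)} (hK : c.grp ≤ K) {Ω n : ℕ}
    (hc : coverOk Ω [] (c.chain.take n) = true) (hn : n ≤ c.chain.length) (hn1 : 1 ≤ n)
    {x y : GolayPt} (hx : x ∈ setOf Ω) (hy : y ∈ setOf Ω) : ∃ σ ∈ K, σ • x = y := by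
  obtain ⟨σ, hσ, -, hh⟩ := c.exists_map_one h hK hc hn hn1
    ⟨fun _ : Fin 1 => x, fun a b _ => Subsingleton.elim a b⟩
    ⟨fun _ : Fin 1 => y, fun a b _ => Subsingleton.elim a b⟩ (fun _ => hx) (fun _ => hy)
  exact ⟨σ, hσ, hh 0⟩

/-- Every element of `K` maps the set to itself. -/
def KeepsSet (K : Subgroup (Equiv.Perm GolayPt)) (Ω : Finset GolayPt) : Prop :=
  ∀ g ∈ K, ∀ x ∈ Ω, g • x ∈ Ω

theorem GenCert.twoTrans {c : GenCert} (h : c.ok = true) {K : Subgroup (Equiv.Perm GolayPt)}
    (hK : c.grp ≤ K) {Ω n : ℕ} (hc : coverOk Ω [] (c.chain.take n) = true)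
    (hn : n ≤ c.chain.length) (hn2 : 2 ≤ n) (hkeep : KeepsSet K (setOf Ω))
    (hfaith : ∀ g ∈ K, (∀ x ∈ setOf Ω, g x = x) → g = 1) :
    TwoTransOn K (↑(setOf Ω) : Set GolayPt) where
  maps g x hx := hkeep g.1 g.2 x hx
  faithful g hg := Subtype.ext (hfaith g.1 g.2 fun x hx => hg x hx)
  pairs a ha b hb u hu v hv hab huv := by
    obtain ⟨σ, hσ, -, hh⟩ := c.exists_map_one h hK hc hn hn2
      ⟨![a, b], List.nodup_ofFn.1 (by simp [hab])⟩ ⟨![u, v], List.nodup_ofFn.1 (by simp [huv])⟩
      (Fin.forall_fin_two.2 ⟨ha, hb⟩) (Fin.forall_fin_two.2 ⟨hu, hv⟩)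
    exact ⟨⟨σ, hσ⟩, hh 0, hh 1⟩

/-- A group generated by the generators of a certificate, all of which have order dividing `p`. -/
theorem GenCert.closure_pow_eq_top {c : GenCert} {H : Subgroup (Equiv.Perm GolayPt)}
    (hc : c.grp = H) {p : ℕ} (hp : ∀ g ∈ c.gens, toPerm g ^ p = 1) :
    Subgroup.closure {g : H | g ^ p = 1} = ⊤ := by
  rw [eq_top_iff]
  rintro ⟨g, hg⟩ -
  have hle : c.grp ≤ (Subgroup.closure {g : H | g ^ p = 1}).map H.subtype := by
    rw [GenCert.grp, Subgroup.closure_le]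
    rintro _ ⟨u, hu, rfl⟩
    exact ⟨⟨toPerm u, hc ▸ c.gen_mem hu⟩, Subgroup.subset_closure (Subtype.ext (hp u hu)), rfl⟩
  obtain ⟨u, hu, hug⟩ := hle (hc.symm ▸ hg)
  exact (Subtype.ext hug : u = ⟨g, hg⟩) ▸ hu

/-- The code of the power of a packed permutation. -/
def powP (g : ℕ) : ℕ → ℕ
  | 0 => 0
  | 1 => g
  | n + 1 => compP g (powP g n)

theorem toPerm_powP {g : ℕ} (h : validP g = true) :
    ∀ n, validP (powP g (n + 1)) = true ∧ toPerm (powP g (n + 1)) = toPerm g ^ (n + 1)
  | 0 => ⟨h, (pow_one _).symm⟩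
  | n + 1 => by
    obtain ⟨h1, h2⟩ := toPerm_powP h n
    refine ⟨validP_compP h h1, ?_⟩
    show toPerm (compP g (powP g (n + 1))) = _
    rw [toPerm_compP h h1, h2, ← pow_succ']

/-- The packed permutation acts as the identity. -/
def isIdP (g : ℕ) : Bool := (List.range 24).all fun i => app g i == i

theorem toPerm_eq_one_of_isIdP {g : ℕ} (hv : validP g = true) (h : isIdP g = true) :
    toPerm g = 1 := by
  apply Equiv.ext
  intro x
  simp only [isIdP, List.all_eq_true, List.mem_range, beq_iff_eq] at h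
  exact idx_inj.1 (Fin.ext (by rw [idx_toPerm hv, h _ (idx x).isLt]; rfl))

theorem GenCert.gens_pow {c : GenCert} (h : c.ok = true) {p : ℕ}
    (hp : (c.gens.all fun g => isIdP (powP g (p + 1))) = true) :
    ∀ g ∈ c.gens, toPerm g ^ (p + 1) = 1 := by
  intro g hg
  obtain ⟨h1, h2⟩ := toPerm_powP (c.gen_valid h hg) p
  rw [← h2]
  exact toPerm_eq_one_of_isIdP h1 (List.all_eq_true.1 hp g hg)

theorem toPerm_mem_stabilizer {g b : ℕ} (hb : b < 24) (hv : validP g = true)
    (h : app g b = b) : toPerm g ∈ MulAction.stabilizer (Equiv.Perm GolayPt) (pt ⟨b, hb⟩) :=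
  idx_inj.1 (Fin.ext (by rw [Equiv.Perm.smul_def, idx_toPerm hv, idx_pt]; exact h))

theorem fix_of_mem_stab {σ : Equiv.Perm GolayPt} {x : GolayPt}
    (h : σ ∈ MulAction.stabilizer (Equiv.Perm GolayPt) x) : σ x = x := h

theorem pt23 : pt ⟨23, by norm_num⟩ = none := rfl

theorem keepsSet_compl {K : Subgroup (Equiv.Perm GolayPt)} {F Ω : ℕ}
    (hu : Nat.xor F Ω = 16777215) (hfix : ∀ g ∈ K, FixesMask g F) : KeepsSet K (setOf Ω) := by
  have e : ∀ x : GolayPt, x ∈ setOf Ω ↔ x ∉ setOf F := fun x => by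
    have hb := congrArg (fun m => Nat.testBit m (idx x)) hu
    have e : Nat.xor F Ω = F ^^^ Ω := rfl
    have hf : ∀ i : Fin 24, (16777215 : ℕ).testBit i = true := by decide
    simp only [e, Nat.testBit_xor, hf] at hb
    simp only [mem_setOf]
    revert hb
    cases F.testBit (idx x) <;> cases Ω.testBit (idx x) <;> simp
  intro g hg x hx
  rw [e] at hx ⊢
  intro hgx
  exact hx (by have := hfix g hg _ hgx; rwa [Equiv.Perm.smul_def, g.injective (hfix g hg _ hgx)] at hgx)

theorem faithful_compl {K : Subgroup (Equiv.Perm GolayPt)} {F Ω : ℕ}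
    (hu : Nat.lor F Ω = 16777215) (hfix : ∀ g ∈ K, FixesMask g F) :
    ∀ g ∈ K, (∀ x ∈ setOf Ω, g x = x) → g = 1 := by
  intro g hg h
  apply Equiv.ext
  intro x
  have : x ∈ setOf F ∪ setOf Ω := by
    rw [← setOf_lor, show F ||| Ω = 16777215 from hu, setOf_full]; exact Finset.mem_univ _
  rcases Finset.mem_union.1 this with hx | hx
  · exact hfix g hg x hx
  · exact h x hx

/-! ### M₂₃ -/

theorem m23Cert_ok : (m23Cert.ok && coverOk 8388607 [] (m23Cert.chain.take 4) &&
    m23Cert.gens.all (fun g => app g 23 == 23 && isIdP (powP g 23)) &&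
    (chainProd m23Cert.chain == 10200960) && (m23Cert.chain.length == 6)) = true := by
  decide +kernel

theorem setOf_erase_none : setOf 8388607 = {none}ᶜ := by decide +kernel

theorem m23_gens {g : ℕ} (hg : g ∈ m23Cert.gens) : toPerm g ∈ Spor.M23 := by
  have h := m23Cert_ok
  simp only [Bool.and_eq_true, List.all_eq_true, beq_iff_eq] at h
  refine ⟨m23Cert.grp_le_M24 h.1.1.1.1 (m23Cert.gen_mem hg), ?_⟩
  exact pt23 ▸ toPerm_mem_stabilizer (by norm_num) (m23Cert.gen_valid h.1.1.1.1 hg) (h.1.1.2 g hg).1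

theorem card_M23 : Nat.card Spor.M23 = 10200960 := by
  refine card_inf_stabilizer M24 none (n := 24) (S := Set.univ) (Set.mem_univ _) (fun _ _ _ _ => Set.mem_univ _)
    (fun y _ => ?_) (by simp [Set.ncard_univ, Nat.card_eq_fintype_card]) card_M24 (by norm_num)
  obtain ⟨σ, hσ, -, h⟩ := exists_embedding_map (K := M24) m24Cover_ok
    (fun p hp => chain_mem (fun _ hg => gen_mem_M24 hg) p (List.mem_of_mem_take hp))
    (show 1 ≤ (m24Chain.take 5).length by rw [List.length_take, m24Chain_len]; decide)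
    ⟨fun _ : Fin 1 => none, fun a b _ => Subsingleton.elim a b⟩
    ⟨fun _ : Fin 1 => y, fun a b _ => Subsingleton.elim a b⟩
    (fun i => by rw [setOf_full]; exact Finset.mem_univ _)
    (fun i => by rw [setOf_full]; exact Finset.mem_univ _)
  exact ⟨σ, hσ, h 0⟩

theorem m23_grp : m23Cert.grp = Spor.M23 := by
  have h := m23Cert_ok
  simp only [Bool.and_eq_true, beq_iff_eq] at h
  exact m23Cert.grp_eq h.1.1.1.1 (fun g hg => m23_gens hg) (by rw [card_M23, h.1.2])

theorem m23_fixes : ∀ g ∈ Spor.M23, FixesMask g 8388608 := by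
  intro g hg x hx
  have : setOf 8388608 = {none} := by decide +kernel
  rw [this, Finset.mem_singleton] at hx
  exact hx ▸ hg.2

theorem M23_twoTrans : TwoTransOn Spor.M23 (↑(setOf 8388607) : Set GolayPt) := by
  have h := m23Cert_ok
  simp only [Bool.and_eq_true, beq_iff_eq] at h
  exact m23Cert.twoTrans h.1.1.1.1 m23_grp.le h.1.1.1.2 (by rw [h.2]; norm_num) (by norm_num)
    (keepsSet_compl (F := 8388608) (by decide) m23_fixes)
    (faithful_compl (F := 8388608) (by decide) m23_fixes)

theorem nontrivial_of_card {G : Type*} [Group G] [Finite G] {n : ℕ} (h : Nat.card G = n)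
    (hn : 1 < n) : Nontrivial G := Finite.one_lt_card_iff_nontrivial.1 (h ▸ hn)

theorem M23_simple : IsSimpleGroup Spor.M23 := by
  have h := m23Cert_ok
  simp only [Bool.and_eq_true, beq_iff_eq, List.all_eq_true] at h
  haveI := nontrivial_of_card card_M23 (by norm_num)
  refine isSimple_of_prime_gen (p := 23) M23_twoTrans (a := some 0) (by decide +kernel) (by norm_num)
    ?_ (by rw [card_M23]; norm_num) ?_
  · rw [Set.ncard_coe_finset, card_setOf]; decide +kernel
  · refine m23Cert.closure_pow_eq_top m23_grp (m23Cert.gens_pow (p := 22) h.1.1.1.1 ?_)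
    exact List.all_eq_true.2 fun g hg => (h.1.1.2 g hg).2

/-! ### M₂₂ -/

theorem m22Cert_ok : (m22Cert.ok && coverOk 8388606 [] (m22Cert.chain.take 3) &&
    m22Cert.gens.all (fun g => app g 23 == 23 && (app g 0 == 0 && isIdP (powP g 11))) &&
    (chainProd m22Cert.chain == 443520) && (m22Cert.chain.length == 5)) = true := by
  decide +kernel

theorem m22_gens {g : ℕ} (hg : g ∈ m22Cert.gens) : toPerm g ∈ Spor.M22 := by
  have h := m22Cert_ok
  simp only [Bool.and_eq_true, List.all_eq_true, beq_iff_eq] at h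
  have hv := m22Cert.gen_valid h.1.1.1.1 hg
  refine ⟨⟨m22Cert.grp_le_M24 h.1.1.1.1 (m22Cert.gen_mem hg), ?_⟩, ?_⟩
  · exact pt23 ▸ toPerm_mem_stabilizer (by norm_num) hv (h.1.1.2 g hg).1
  · exact toPerm_mem_stabilizer (b := 0) (by norm_num) hv (h.1.1.2 g hg).2.1

theorem card_M22 : Nat.card Spor.M22 = 443520 := by
  have h := m23Cert_ok
  simp only [Bool.and_eq_true, beq_iff_eq] at h
  refine card_inf_stabilizer Spor.M23 (some 0) (n := 23) (S := ↑(setOf 8388607)) (by decide +kernel)
    (fun g hg y hy => keepsSet_compl (F := 8388608) (by decide) m23_fixes g hg y hy)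
    (fun y hy => m23Cert.exists_point_map h.1.1.1.1 m23_grp.le h.1.1.1.2 (by rw [h.2]; norm_num)
      (by norm_num) (by decide +kernel) hy) ?_ card_M23 (by norm_num)
  rw [Set.ncard_coe_finset, card_setOf]; decide +kernel

theorem m22_grp : m22Cert.grp = Spor.M22 := by
  have h := m22Cert_ok
  simp only [Bool.and_eq_true, beq_iff_eq] at h
  exact m22Cert.grp_eq h.1.1.1.1 (fun g hg => m22_gens hg) (by rw [card_M22, h.1.2])

theorem m22_fixes : ∀ g ∈ Spor.M22, FixesMask g 8388609 := by
  intro g hg x hx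
  have : setOf 8388609 = {none, some 0} := by decide +kernel
  rw [this, Finset.mem_insert, Finset.mem_singleton] at hx
  rcases hx with rfl | rfl
  · exact hg.1.2
  · exact hg.2

theorem M22_twoTrans : TwoTransOn Spor.M22 (↑(setOf 8388606) : Set GolayPt) := by
  have h := m22Cert_ok
  simp only [Bool.and_eq_true, beq_iff_eq] at h
  exact m22Cert.twoTrans h.1.1.1.1 m22_grp.le h.1.1.1.2 (by rw [h.2]; norm_num) (by norm_num)
    (keepsSet_compl (F := 8388609) (by decide) m22_fixes)
    (faithful_compl (F := 8388609) (by decide) m22_fixes)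

theorem M22_simple : IsSimpleGroup Spor.M22 := by
  have h := m22Cert_ok
  simp only [Bool.and_eq_true, beq_iff_eq, List.all_eq_true] at h
  have := nontrivial_of_card card_M22 (by norm_num)
  refine isSimple_of_prime_gen (p := 11) M22_twoTrans (a := some 1) (by decide +kernel) (by norm_num)
    ?_ (by rw [card_M22]; norm_num) ?_
  · rw [Set.ncard_coe_finset, card_setOf]; decide +kernel
  · refine m22Cert.closure_pow_eq_top m22_grp (m22Cert.gens_pow (p := 10) h.1.1.1.1 ?_)
    exact List.all_eq_true.2 fun g hg => (h.1.1.2 g hg).2.2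

/-! ### The stabiliser of three points -/

/-- The stabiliser of the points `none`, `0`, `1`. -/
def M21 : Subgroup (Equiv.Perm GolayPt) :=
  Spor.M22 ⊓ MulAction.stabilizer (Equiv.Perm GolayPt) (some 1 : GolayPt)

theorem m21Cert_ok : (m21Cert.ok && coverOk 8388604 [] (m21Cert.chain.take 2) &&
    m21Cert.gens.all (fun g => app g 23 == 23 && (app g 0 == 0 && (app g 1 == 1 &&
      isIdP (powP g 7)))) &&
    (chainProd m21Cert.chain == 20160) && (m21Cert.chain.length == 4)) = true := by
  decide +kernel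

theorem m21_gens {g : ℕ} (hg : g ∈ m21Cert.gens) : toPerm g ∈ M21 := by
  have h := m21Cert_ok
  simp only [Bool.and_eq_true, List.all_eq_true, beq_iff_eq] at h
  have hv := m21Cert.gen_valid h.1.1.1.1 hg
  refine ⟨⟨⟨m21Cert.grp_le_M24 h.1.1.1.1 (m21Cert.gen_mem hg), ?_⟩, ?_⟩, ?_⟩
  · exact pt23 ▸ toPerm_mem_stabilizer (by norm_num) hv (h.1.1.2 g hg).1
  · exact toPerm_mem_stabilizer (b := 0) (by norm_num) hv (h.1.1.2 g hg).2.1
  · exact toPerm_mem_stabilizer (b := 1) (by norm_num) hv (h.1.1.2 g hg).2.2.1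

theorem card_M21 : Nat.card M21 = 20160 := by
  have h := m22Cert_ok
  simp only [Bool.and_eq_true, beq_iff_eq] at h
  refine card_inf_stabilizer Spor.M22 (some 1) (n := 22) (S := ↑(setOf 8388606)) (by decide +kernel)
    (fun g hg y hy => keepsSet_compl (F := 8388609) (by decide) m22_fixes g hg y hy)
    (fun y hy => m22Cert.exists_point_map h.1.1.1.1 m22_grp.le h.1.1.1.2 (by rw [h.2]; norm_num)
      (by norm_num) (by decide +kernel) hy) ?_ card_M22 (by norm_num)
  rw [Set.ncard_coe_finset, card_setOf]; decide +kernel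

theorem m21_grp : m21Cert.grp = M21 := by
  have h := m21Cert_ok
  simp only [Bool.and_eq_true, beq_iff_eq] at h
  exact m21Cert.grp_eq h.1.1.1.1 (fun g hg => m21_gens hg) (by rw [card_M21, h.1.2])

theorem m21_fixes : ∀ g ∈ M21, FixesMask g 8388611 := by
  intro g hg x hx
  have : setOf 8388611 = {none, some 0, some 1} := by decide +kernel
  rw [this, Finset.mem_insert, Finset.mem_insert, Finset.mem_singleton] at hx
  rcases hx with rfl | rfl | rfl
  · exact hg.1.1.2
  · exact hg.1.2
  · exact hg.2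

theorem M21_twoTrans : TwoTransOn M21 (↑(setOf 8388604) : Set GolayPt) := by
  have h := m21Cert_ok
  simp only [Bool.and_eq_true, beq_iff_eq] at h
  exact m21Cert.twoTrans h.1.1.1.1 m21_grp.le h.1.1.1.2 (by rw [h.2]; norm_num) (by norm_num)
    (keepsSet_compl (F := 8388611) (by decide) m21_fixes)
    (faithful_compl (F := 8388611) (by decide) m21_fixes)

theorem M21_simple : IsSimpleGroup M21 := by
  have h := m21Cert_ok
  simp only [Bool.and_eq_true, beq_iff_eq, List.all_eq_true] at h
  have := nontrivial_of_card card_M21 (by norm_num)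
  refine isSimple_of_prime_gen (p := 7) M21_twoTrans (a := some 2) (by decide +kernel) (by norm_num)
    ?_ (by rw [card_M21]; norm_num) ?_
  · rw [Set.ncard_coe_finset, card_setOf]; decide +kernel
  · refine m21Cert.closure_pow_eq_top m21_grp (m21Cert.gens_pow (p := 6) h.1.1.1.1 ?_)
    exact List.all_eq_true.2 fun g hg => (h.1.1.2 g hg).2.2.2

/-! ### M₁₂ and M₁₁ -/

theorem setOf_sqDod : setOf sqDod = Spor.squareDodecad := by decide +kernel

theorem dodStages_ok : stagesOk sqDod dodStages = true := by decide +kernel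

theorem m12Cert_ok : (m12Cert.ok && coverOk sqDod [] m12Cert.chain &&
    m12Cert.gens.all (fun g => img g sqDod == sqDod) &&
    (chainProd m12Cert.chain == 95040) && (m12Cert.chain.length == 5)) = true := by
  decide +kernel

theorem m12Cert_cover : coverOk sqDod [] (m12Cert.chain.take 5) = true := by
  have h := m12Cert_ok
  simp only [Bool.and_eq_true, beq_iff_eq] at h
  rw [List.take_of_length_le (le_of_eq h.2)]
  exact h.1.1.1.2

theorem m12_gens {g : ℕ} (hg : g ∈ m12Cert.gens) : toPerm g ∈ Spor.M12 := by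
  have h := m12Cert_ok
  simp only [Bool.and_eq_true, List.all_eq_true, beq_iff_eq] at h
  refine ⟨m12Cert.grp_le_M24 h.1.1.1.1 (m12Cert.gen_mem hg), ?_⟩
  show toPerm g • Spor.squareDodecad = Spor.squareDodecad
  rw [← setOf_sqDod, smul_setOf (m12Cert.gen_valid h.1.1.1.1 hg), h.1.1.2 g hg]

theorem card_M12 : Nat.card Spor.M12 = 95040 := by
  refine card_inf_stabilizer M24 Spor.squareDodecad (n := 2576) (S := dodecads)
    (setOf_sqDod ▸ sqDod_mem) (fun g hg y hy => smul_mem_dodecads hg hy) (fun y hy => ?_)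
    dodecads_ncard card_M24 (by norm_num)
  exact setOf_sqDod ▸ exists_sqDod_map hy

theorem m12_grp : m12Cert.grp = Spor.M12 := by
  have h := m12Cert_ok
  simp only [Bool.and_eq_true, beq_iff_eq] at h
  exact m12Cert.grp_eq h.1.1.1.1 (fun g hg => m12_gens hg) (by rw [card_M12, h.1.2])

theorem m12_keeps : KeepsSet Spor.M12 (setOf sqDod) := fun g hg x hx => by
  have he : g • setOf sqDod = setOf sqDod := by rw [setOf_sqDod]; exact hg.2
  rw [← he]
  exact Finset.smul_mem_smul_finset hx

theorem M12_twoTrans : TwoTransOn Spor.M12 (↑(setOf sqDod) : Set GolayPt) := by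
  have h := m12Cert_ok
  simp only [Bool.and_eq_true, beq_iff_eq] at h
  exact m12Cert.twoTrans h.1.1.1.1 m12_grp.le m12Cert_cover (by rw [h.2]) (by norm_num)
    m12_keeps (fun g hg hf => eq_one_of_stages hg.1 _ _ dodStages_ok hf)

theorem m11Cert_ok : (m11Cert.ok && coverOk 340830 [] (m11Cert.chain.take 3) &&
    m11Cert.gens.all (fun g => img g sqDod == sqDod && (app g 0 == 0 && isIdP (powP g 11))) &&
    (chainProd m11Cert.chain == 7920) && (m11Cert.chain.length == 4)) = true := by
  decide +kernel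

theorem m11_gens {g : ℕ} (hg : g ∈ m11Cert.gens) : toPerm g ∈ Spor.M11 := by
  have h := m11Cert_ok
  simp only [Bool.and_eq_true, List.all_eq_true, beq_iff_eq] at h
  have hv := m11Cert.gen_valid h.1.1.1.1 hg
  refine ⟨⟨m11Cert.grp_le_M24 h.1.1.1.1 (m11Cert.gen_mem hg), ?_⟩, ?_⟩
  · show toPerm g • Spor.squareDodecad = Spor.squareDodecad
    rw [← setOf_sqDod, smul_setOf hv, (h.1.1.2 g hg).1]
  · exact toPerm_mem_stabilizer (b := 0) (by norm_num) hv (h.1.1.2 g hg).2.1

theorem card_M11 : Nat.card Spor.M11 = 7920 := by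
  have h := m12Cert_ok
  simp only [Bool.and_eq_true, beq_iff_eq] at h
  refine card_inf_stabilizer Spor.M12 (some 0) (n := 12) (S := ↑(setOf sqDod)) (by decide +kernel)
    (fun g hg y hy => m12_keeps g hg y hy)
    (fun y hy => m12Cert.exists_point_map h.1.1.1.1 m12_grp.le m12Cert_cover (by rw [h.2])
      (by norm_num) (by decide +kernel) hy) ?_ card_M12 (by norm_num)
  rw [Set.ncard_coe_finset, card_setOf]; decide +kernel

theorem m11_grp : m11Cert.grp = Spor.M11 := by
  have h := m11Cert_ok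
  simp only [Bool.and_eq_true, beq_iff_eq] at h
  exact m11Cert.grp_eq h.1.1.1.1 (fun g hg => m11_gens hg) (by rw [card_M11, h.1.2])

theorem setOf_sqDod_erase : setOf 340830 = (setOf sqDod).erase (some 0) := by decide +kernel

theorem m11_keeps : KeepsSet Spor.M11 (setOf 340830) := fun g hg x hx => by
  rw [setOf_sqDod_erase, Finset.mem_erase] at hx ⊢
  refine ⟨fun e => hx.1 (g.injective ?_), m12_keeps g hg.1 x hx.2⟩
  exact (show g x = some 0 from e).trans (fix_of_mem_stab hg.2).symm

theorem M11_twoTrans : TwoTransOn Spor.M11 (↑(setOf 340830) : Set GolayPt) := by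
  have h := m11Cert_ok
  simp only [Bool.and_eq_true, beq_iff_eq] at h
  refine m11Cert.twoTrans h.1.1.1.1 m11_grp.le h.1.1.1.2 (by rw [h.2]; norm_num) (by norm_num)
    m11_keeps (fun g hg hf => eq_one_of_stages hg.1.1 _ _ dodStages_ok ?_)
  intro x hx
  by_cases hx0 : x = some 0
  · exact hx0 ▸ hg.2
  · exact hf x (by rw [setOf_sqDod_erase, Finset.mem_erase]; exact ⟨hx0, hx⟩)

theorem M11_simple : IsSimpleGroup Spor.M11 := by
  have h := m11Cert_ok
  simp only [Bool.and_eq_true, beq_iff_eq, List.all_eq_true] at h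
  have := nontrivial_of_card card_M11 (by norm_num)
  refine isSimple_of_prime_gen (p := 11) M11_twoTrans (a := some 1) (by decide +kernel) (by norm_num)
    ?_ (by rw [card_M11]; norm_num) ?_
  · rw [Set.ncard_coe_finset, card_setOf]; decide +kernel
  · refine m11Cert.closure_pow_eq_top m11_grp (m11Cert.gens_pow (p := 10) h.1.1.1.1 ?_)
    exact List.all_eq_true.2 fun g hg => (h.1.1.2 g hg).2.2

theorem M12_simple : IsSimpleGroup Spor.M12 := by
  have := nontrivial_of_card card_M12 (by norm_num)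
  refine isSimple_of_simple_stabilizer M12_twoTrans (a := some 0) (by decide +kernel)
    ?_ (q := 2) (r := 3) (by norm_num) (by norm_num) (by norm_num) ?_ ?_
  · have e : Spor.M12 ⊓ MulAction.stabilizer (Equiv.Perm GolayPt) (some 0 : GolayPt) = Spor.M11 := rfl
    have := M11_simple
    exact (stabInfEquiv Spor.M12 (some 0 : GolayPt)).isSimpleGroup_congr.2 (e.symm ▸ this)
  all_goals rw [Set.ncard_coe_finset, card_setOf]; decide +kernel

/-! ### M₂₄ -/

theorem M24_twoTrans : TwoTransOn M24 (Set.univ : Set GolayPt) where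
  maps _ _ _ := Set.mem_univ _
  faithful g hg := Subtype.ext (Equiv.ext fun x => hg x (Set.mem_univ x))
  pairs a _ b _ u _ v _ hab huv := by
    obtain ⟨σ, hσ, -, hh⟩ := exists_embedding_map (K := M24) m24Cover_ok
      (fun p hp => chain_mem (fun _ hg => gen_mem_M24 hg) p (List.mem_of_mem_take hp))
      (show 2 ≤ (m24Chain.take 5).length by rw [List.length_take, m24Chain_len]; decide)
      ⟨![a, b], List.nodup_ofFn.1 (by simp [hab])⟩ ⟨![u, v], List.nodup_ofFn.1 (by simp [huv])⟩
      (fun i => by rw [setOf_full]; exact Finset.mem_univ _)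
      (fun i => by rw [setOf_full]; exact Finset.mem_univ _)
    exact ⟨⟨σ, hσ⟩, hh 0, hh 1⟩

theorem M24_simple : IsSimpleGroup M24 := by
  have := nontrivial_of_card card_M24 (by norm_num)
  refine isSimple_of_simple_stabilizer M24_twoTrans (a := none) (Set.mem_univ _)
    ?_ (q := 2) (r := 3) (by norm_num) (by norm_num) (by norm_num) ?_ ?_
  · have := M23_simple
    exact (stabInfEquiv M24 (none : GolayPt)).isSimpleGroup_congr.2 this
  all_goals simp [Set.ncard_univ, Nat.card_eq_fintype_card]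

end

end Cfsg.Agent.Golay24
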