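import Cfsg.Agent.Lib.Golay.Perm

/-!
Elements of prime order of M24 and M22 with certificates for the orders of their normalisers.
Produced outside the kernel; checked by `decide +kernel` where used.
-/

set_option autoImplicit false

namespace Cfsg.Agent.Golay24

/-- An element of order 5 with a certificate for its normaliser in the 22-point group. -/
def m22N5Y : ℕ := 964819745494106714895163299919632896
/-- Its first cycle. -/
def m22N5Top : List ℕ × List ℕ := ([1, 16, 17, 21, 8], [])
/-- Its further cycles with test octads. -/
def m22N5Lev : List (List ℕ × List ℕ) := [([2, 6, 19, 18, 15], []), ([3, 10, 12, 14, 9], [3031301]), ([4, 13, 5, 22, 7], [15515712])]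
/-- Octads determining the rest. -/
def m22N5St : List (List ℕ) := [[14919680]]
/-- Representatives of its cycles. -/
def m22N5Ws : List ℕ := [1, 2, 3, 4]

/-- An element of order 7 with a certificate for its normaliser in the 22-point group. -/
def m22N7Y : ℕ := 963947396000590298101940072910768160
/-- Its first cycle. -/
def m22N7Top : List ℕ × List ℕ := ([4, 22, 6, 17, 11, 16, 20], [5441617])
/-- Its further cycles with test octads. -/
def m22N7Lev : List (List ℕ × List ℕ) := [([5, 12, 7, 15, 21, 19, 13], [15864000])]
/-- Octads determining the rest. -/
def m22N7St : List (List ℕ) := [[11654144, 8077824, 2019456, 4038912, 7221256, 13938692]]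
/-- Representatives of its cycles. -/
def m22N7Ws : List ℕ := [2, 4, 5]

/-- An element of order 11 with a certificate for its normaliser in the 22-point group. -/
def m22N11Y : ℕ := 970090506194335466733857451656921632
/-- Its first cycle. -/
def m22N11Top : List ℕ × List ℕ := ([1, 17, 8, 5, 21, 10, 14, 20, 18, 6, 3], [])
/-- Its further cycles with test octads. -/
def m22N11Lev : List (List ℕ × List ℕ) := [([2, 16, 9, 12, 7, 4, 19, 15, 22, 11, 13], [16262146])]
/-- Octads determining the rest. -/
def m22N11St : List (List ℕ) := []
/-- Representatives of its cycles. -/
def m22N11Ws : List ℕ := [1, 2]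

/-- An element of order 5 with a certificate for its normaliser in the 24-point group. -/
def m24N5Y : ℕ := 670156934508299080602702410971023531
/-- Its first cycle. -/
def m24N5Top : List ℕ × List ℕ := ([0, 11, 23, 16, 9], [])
/-- Its further cycles with test octads. -/
def m24N5Lev : List (List ℕ × List ℕ) := [([1, 5, 3, 6, 10], []), ([4, 21, 8, 13, 22], [14747201])]
/-- Octads determining the rest. -/
def m24N5St : List (List ℕ) := [[12594948, 14919680, 6337856, 2702848, 14949408, 10832640, 7612992]]
/-- Representatives of its cycles. -/
def m24N5Ws : List ℕ := [0, 1, 4, 7]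

/-- An element of order 7 with a certificate for its normaliser in the 24-point group. -/
def m24N7Y : ℕ := 351341232399918579931141539279552556
/-- Its first cycle. -/
def m24N7Top : List ℕ × List ℕ := ([0, 12, 18, 19, 11, 17, 10], [])
/-- Its further cycles with test octads. -/
def m24N7Lev : List (List ℕ × List ℕ) := [([2, 16, 23, 8, 9, 6, 5], [9310308])]
/-- Octads determining the rest. -/
def m24N7St : List (List ℕ) := [[8919856, 987906, 13276672, 14551296, 504864, 2702848, 9204992, 11469952]]
/-- Representatives of its cycles. -/
def m24N7Ws : List ℕ := [0, 2, 3]

/-- An element of order 11 with a certificate for its normaliser in the 24-point group. -/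
def m24N11Y : ℕ := 888621078066521064211739658330052340
/-- Its first cycle. -/
def m24N11Top : List ℕ × List ℕ := ([0, 20, 6, 17, 10, 16, 2, 5, 7, 14, 3], [])
/-- Its further cycles with test octads. -/
def m24N11Lev : List (List ℕ × List ℕ) := [([1, 23, 21, 18, 22, 12, 9, 11, 15, 19, 13], [16262146])]
/-- Octads determining the rest. -/
def m24N11St : List (List ℕ) := [[4038912]]
/-- Representatives of its cycles. -/
def m24N11Ws : List ℕ := [0, 1]

/-- An element of order 23 with a certificate for its normaliser in the 24-point group. -/
def m24N23Y : ℕ := 103326518017277509648338894097882284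
/-- Its first cycle. -/
def m24N23Top : List ℕ × List ℕ := ([0, 12, 9, 10, 21, 19, 8, 23, 2, 7, 14, 3, 20, 6, 1, 5, 13, 4, 11, 22, 15, 16, 18], [16262146])
/-- Its further cycles with test octads. -/
def m24N23Lev : List (List ℕ × List ℕ) := [([17], [])]
/-- Octads determining the rest. -/
def m24N23St : List (List ℕ) := []
/-- Representatives of its cycles. -/
def m24N23Ws : List ℕ := [0]

end Cfsg.Agent.Golay24
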