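import Cfsg.Agent.Lib.Golay.NormBound
import Cfsg.Agent.Lib.Golay.NormData

/-!
Checks of the normaliser certificates for M22.
-/

set_option autoImplicit false
set_option Elab.async false

namespace Cfsg.Agent.Golay24

theorem m22N5_ok : (normOk m22N5Y m22N5St m22N5Top m22N5Lev m22N5Ws 8388609 955382621970408283649611324576497664 && isIdP (powP m22N5Y 5) && !isIdP m22N5Y) = true := by
  decide +kernel

theorem m22N5_total : normTotal m22N5Y 4 m22N5Top m22N5Lev m22N5Ws 8388609 955382621970408283649611324576497664 = 4 := by
  decide +kernel

theorem m22N7_ok : (normOk m22N7Y m22N7St m22N7Top m22N7Lev m22N7Ws 8388609 955382621970408283649611324576497664 && isIdP (powP m22N7Y 7) && !isIdP m22N7Y) = true := by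
  decide +kernel

theorem m22N7_total : normTotal m22N7Y 6 m22N7Top m22N7Lev m22N7Ws 8388609 955382621970408283649611324576497664 = 3 := by
  decide +kernel

theorem m22N11_ok : (normOk m22N11Y m22N11St m22N11Top m22N11Lev m22N11Ws 8388609 955382621970408283649611324576497664 && isIdP (powP m22N11Y 11) && !isIdP m22N11Y) = true := by
  decide +kernel

theorem m22N11_total : normTotal m22N11Y 10 m22N11Top m22N11Lev m22N11Ws 8388609 955382621970408283649611324576497664 = 5 := by
  decide +kernel

end Cfsg.Agent.Golay24
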