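import Mathlib.GroupTheory.Sylow
import Mathlib.GroupTheory.Index
import Cfsg.Prelude.Def_KGroupFacts

/-!
A finite group generated by `a, b, c`, with `a` of prime order `p` exactly dividing the order,
`b` normalising `⟨a⟩` and `c` normalising `⟨b⟩`: every automorphism is, up to an inner one,
determined by an exponent for `a` and an image for `c`.
-/

set_option autoImplicit false

namespace Cfsg.Agent.Golay24

open Cfsg

variable {G : Type*} [Group G]

theorem exists_conj_mem_zpowers [Finite G] {p : ℕ} [Fact p.Prime] {a y : G}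
    (hfac : (Nat.card G).factorization p = 1) (ha : orderOf a = p) (hy : orderOf y = p) :
    ∃ h : G, ∃ k, k < p ∧ h * y * h⁻¹ = a ^ k := by
  have hc : ∀ z : G, orderOf z = p →
      Nat.card (Subgroup.zpowers z) = p ^ (Nat.card G).factorization p := fun z hz => by
    rw [hfac, pow_one, Nat.card_zpowers, hz]
  obtain ⟨g, hg⟩ := MulAction.exists_smul_eq G (Sylow.ofCard _ (hc y hy)) (Sylow.ofCard _ (hc a ha))
  have hmem : g * y * g⁻¹ ∈ Subgroup.zpowers a := by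
    have h1 := congrArg (fun S : Sylow p G => (S : Subgroup G)) hg
    simp only [Sylow.coe_subgroup_smul, Sylow.coe_ofCard] at h1
    rw [← h1]
    exact ⟨y, Subgroup.mem_zpowers y, by simp⟩
  classical
  obtain ⟨k, hk⟩ := mem_zpowers_iff_mem_range_orderOf.1 hmem |> Finset.mem_image.1
  exact ⟨g, k, by simpa [ha] using hk.1, hk.2.symm⟩

theorem conj_pow_pow {a b : G} {r : ℕ} (hba : b * a = a ^ r * b) (k : ℕ) :
    ∀ i, b ^ i * a ^ k * (b ^ i)⁻¹ = a ^ (k * r ^ i)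
  | 0 => by simp
  | i + 1 => by
    have h1 : b * a * b⁻¹ = a ^ r := by rw [hba, mul_inv_cancel_right]
    calc b ^ (i + 1) * a ^ k * (b ^ (i + 1))⁻¹
        = b * (b ^ i * a ^ k * (b ^ i)⁻¹) * b⁻¹ := by rw [pow_succ']; group
      _ = b * a ^ (k * r ^ i) * b⁻¹ := by rw [conj_pow_pow hba k i]
      _ = (b * a * b⁻¹) ^ (k * r ^ i) := by rw [conj_pow]
      _ = a ^ (k * r ^ (i + 1)) := by rw [h1, ← pow_mul]; ring_nf

/-- Normal form of an automorphism. -/
theorem aut_normal_form [Finite G] {a b c : G} {p r s : ℕ} [Fact p.Prime] {ks : List ℕ} {L : List G}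
    (hfac : (Nat.card G).factorization p = 1) (ha : orderOf a = p)
    (hred : ∀ k, 0 < k → k < p → ∃ i, ∃ kk ∈ ks, k * r ^ i % p = kk % p)
    (hba : b * a = a ^ r * b) (hA : ∀ g : G, g * a = a ^ r * g → ∃ j : ℕ, a ^ j * g = b * a ^ j)
    (hcb : c * b = b ^ s * c) (hB : ∀ g : G, g * b = b ^ s * g → g ∈ L) (φ : MulAut G) :
    ∃ h : G, ∃ kk ∈ ks, ∃ g ∈ L, (MulAut.conj h * φ) a = a ^ kk ∧ (MulAut.conj h * φ) b = b ∧
      (MulAut.conj h * φ) c = g := by
  obtain ⟨h1, k, hk, hk'⟩ := exists_conj_mem_zpowers hfac ha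
    ((MulEquiv.orderOf_eq φ a).trans ha)
  have hk0 : 0 < k := by
    rcases Nat.eq_zero_or_pos k with rfl | h
    · exfalso
      rw [pow_zero, conj_eq_one_iff, MulEquiv.map_eq_one_iff] at hk'
      rw [hk', orderOf_one] at ha
      exact (Fact.out : p.Prime).one_lt.ne ha
    · exact h
  obtain ⟨i, kk, hkk, hmod⟩ := hred k hk0 hk
  set ψ : MulAut G := MulAut.conj (b ^ i * h1) * φ with hψdef
  have hψ : ψ a = a ^ kk := by
    show b ^ i * h1 * φ a * (b ^ i * h1)⁻¹ = _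
    rw [show b ^ i * h1 * φ a * (b ^ i * h1)⁻¹ = b ^ i * (h1 * φ a * h1⁻¹) * (b ^ i)⁻¹ by group, hk',
      conj_pow_pow hba, ← pow_mod_orderOf, ha, hmod, ← ha, pow_mod_orderOf]
  -- exponents prime to `p`
  have hkp : ¬ p ∣ kk := fun hd => by
    have : a ^ kk = 1 := by rw [← ha] at hd; exact orderOf_dvd_iff_pow_eq_one.1 hd
    rw [this, MulEquiv.map_eq_one_iff] at hψ
    rw [hψ, orderOf_one] at ha
    exact (Fact.out : p.Prime).one_lt.ne ha
  obtain ⟨e, -, he⟩ := Nat.exists_mul_mod_eq_one_of_coprime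
    (((Fact.out : p.Prime).coprime_iff_not_dvd.2 hkp).symm) (Fact.out : p.Prime).one_lt
  have hae : a ^ (kk * e) = a := by rw [← pow_mod_orderOf, ha, he, pow_one]
  have hb' : ψ b * a = a ^ r * ψ b := by
    have h2 : ψ b * a ^ kk * (ψ b)⁻¹ = (a ^ kk) ^ r := by
      rw [← hψ, ← map_pow, ← map_inv, ← map_mul, ← map_mul]
      congr 1
      rw [hba, mul_inv_cancel_right]
    have h3 : ψ b * a * (ψ b)⁻¹ = a ^ r := by
      calc ψ b * a * (ψ b)⁻¹ = ψ b * (a ^ kk) ^ e * (ψ b)⁻¹ := by rw [← pow_mul, hae]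
        _ = (ψ b * a ^ kk * (ψ b)⁻¹) ^ e := by rw [conj_pow]
        _ = a ^ r := by rw [h2, ← pow_mul, ← pow_mul, show kk * (r * e) = kk * e * r by ring,
            pow_mul, hae]
    exact mul_inv_eq_iff_eq_mul.1 h3
  obtain ⟨j, hj⟩ := hA _ hb'
  refine ⟨a ^ j * (b ^ i * h1), kk, hkk, _, hB _ ?_, ?_, ?_, rfl⟩
  all_goals
    have hb2 : (MulAut.conj (a ^ j * (b ^ i * h1)) * φ) b = b := by
      rw [map_mul, mul_assoc]
      show a ^ j * ψ b * (a ^ j)⁻¹ = b
      rw [hj, mul_inv_cancel_right]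
  · generalize hχ : MulAut.conj (a ^ j * (b ^ i * h1)) * φ = χ at hb2 ⊢
    have := congrArg χ hcb
    rwa [map_mul, map_mul, map_pow, hb2] at this
  · rw [map_mul, mul_assoc]
    show a ^ j * ψ a * (a ^ j)⁻¹ = a ^ kk
    rw [hψ, ← pow_add, add_comm, pow_add, mul_inv_cancel_right]
  · exact hb2

theorem aut_ext_gens {a b c : G} (hgen : Subgroup.closure {a, b, c} = ⊤) {φ ψ : MulAut G}
    (ha : φ a = ψ a) (hb : φ b = ψ b) (hc : φ c = ψ c) : φ = ψ := by
  have h := MonoidHom.eq_of_eqOn_dense hgen (f := φ.toMonoidHom) (g := ψ.toMonoidHom) (by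
    rintro x (rfl | rfl | rfl) <;> assumption)
  exact MulEquiv.ext fun x => DFunLike.congr_fun h x

theorem card_out_eq_one (h : ∀ φ : MulAut G, φ ∈ Inn G) : Nat.card (Out G) = 1 := by
  show (Inn G).index = 1
  exact Subgroup.index_eq_one.2 ((Subgroup.eq_top_iff' _).2 h)

theorem card_out_eq_two {φ₀ : MulAut G} (h₀ : φ₀ ∉ Inn G)
    (h : ∀ φ : MulAut G, φ ∈ Inn G ∨ φ₀⁻¹ * φ ∈ Inn G) : Nat.card (Out G) = 2 := by
  show (Inn G).index = 2
  rw [Subgroup.index_eq_two_iff']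
  refine ⟨φ₀⁻¹, fun b => ?_⟩
  by_cases hb : b ∈ Inn G
  · refine Or.inr ⟨hb, fun h1 => h₀ ?_⟩
    have := (Inn G).mul_mem h1 ((Inn G).inv_mem hb)
    rw [mul_inv_cancel_right] at this
    exact (Inn G).inv_mem_iff.1 this
  · exact Or.inl ⟨(h b).resolve_left hb, hb⟩

end Cfsg.Agent.Golay24
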