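import Cfsg.Agent.Lib.Golay.OutEq
import Cfsg.Agent.Lib.Golay.OutAbstract

/-!
Outer automorphism groups of Mathieu groups from certificates.
-/

set_option autoImplicit false

namespace Cfsg.Agent.Golay24

noncomputable section

open Cfsg
open scoped Pointwise

/-- The product along a word in packed permutations. -/
def wordP (G : List ℕ) : List ℕ → ℕ
  | [] => idP
  | i :: l => compP (G.getD i idP) (wordP G l)

/-- The data: `cA` lists the solutions of `g a = a^r g`, `cB` those of `g b = b^s g`. -/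
structure OutCert where
  p : ℕ
  q : ℕ
  r : ℕ
  s : ℕ
  a : ℕ
  b : ℕ
  c : ℕ
  cA : EqCert
  cB : EqCert
  jA : List ℕ
  ks : List ℕ
  red : List (ℕ × ℕ)
  words : List (List ℕ × ℕ)
  exc : ℕ × ℕ

/-- An image pair is harmless or refuted by a relation. -/
def OutCert.pairOk (d : OutCert) (kk g : ℕ) : Bool :=
  (kk == 1 && g == d.c) || (kk == d.exc.1 && g == d.exc.2) ||
    d.words.any fun w => !isIdP (powP (wordP [powP d.a kk, d.b, g] w.1) w.2)

/-- All checks that do not mention a membership test. -/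
def OutCert.ok (d : OutCert) : Bool :=
  validP d.a && validP d.b && validP d.c && Nat.blt 0 d.p && Nat.blt 0 d.r && Nat.blt 0 d.s &&
    isIdP (powP d.a d.p) && !isIdP d.a &&
    (compP d.b d.a == compP (powP d.a d.r) d.b) && (compP d.c d.b == compP (powP d.b d.s) d.c) &&
    (d.cA.a == d.a) && (d.cA.a' == powP d.a d.r) && (d.cB.a == d.b) && (d.cB.a' == powP d.b d.s) &&
    (List.range d.cA.sols.length).all (fun i => Nat.blt 0 (d.jA.getD i 0) &&
      (compP (powP d.a (d.jA.getD i 0)) (d.cA.sols.getD i 0) ==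
        compP d.b (powP d.a (d.jA.getD i 0)))) &&
    (List.range d.p).all (fun k => k == 0 || (d.ks.contains (d.red.getD k (0, 0)).2 &&
      (k * d.r ^ (d.red.getD k (0, 0)).1 % d.p == (d.red.getD k (0, 0)).2 % d.p))) &&
    d.ks.all (fun kk => Nat.blt 0 kk) &&
    d.words.all (fun w => w.1.all (fun i => Nat.blt i 3) && Nat.blt 0 w.2 &&
      isIdP (powP (wordP [d.a, d.b, d.c] w.1) w.2)) &&
    d.ks.all (fun kk => d.cB.sols.all fun g => d.pairOk kk g)

theorem validP_wordP {G : List ℕ} (hG : ∀ g ∈ G, validP g = true) :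
    ∀ l, validP (wordP G l) = true
  | [] => idP_spec.1
  | i :: l => by
    refine validP_compP ?_ (validP_wordP hG l)
    rcases Nat.lt_or_ge i G.length with h | h
    · rw [List.getD_eq_getElem _ _ h]; exact hG _ (List.getElem_mem h)
    · rw [List.getD_eq_default _ _ h]; exact idP_spec.1

theorem toPerm_powP' {g n : ℕ} (h : validP g = true) (hn : 0 < n) :
    validP (powP g n) = true ∧ toPerm (powP g n) = toPerm g ^ n := by
  obtain ⟨m, rfl⟩ := Nat.exists_eq_add_of_le hn
  rw [Nat.add_comm]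
  exact toPerm_powP h m

theorem not_one_of_not_isIdP {g : ℕ} (hv : validP g = true) (h : isIdP g = false) :
    toPerm g ≠ 1 := by
  intro he
  rw [Bool.eq_false_iff] at h
  apply h
  simp only [isIdP, List.all_eq_true, List.mem_range, beq_iff_eq]
  intro i hi
  have := idx_toPerm hv (ptN i)
  rw [he, Equiv.Perm.one_apply, idx_ptN hi] at this
  exact this.symm

theorem toPerm_word {H : Subgroup (Equiv.Perm GolayPt)} {G : List ℕ} {X : List H}
    (hv : ∀ g ∈ G, validP g = true)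
    (h : G.map toPerm = X.map Subtype.val) :
    ∀ l, toPerm (wordP G l) = ((l.map fun i => X.getD i 1).prod : H)
  | [] => by simp [wordP, toPerm_idP]
  | i :: l => by
    have hgi : validP (G.getD i idP) = true := by
      rcases Nat.lt_or_ge i G.length with hi | hi
      · rw [List.getD_eq_getElem _ _ hi]; exact hv _ (List.getElem_mem hi)
      · rw [List.getD_eq_default _ _ hi]; exact idP_spec.1
    have hlen : G.length = X.length := by simpa using congrArg List.length h
    have he : toPerm (G.getD i idP) = ((X.getD i 1 : H) : Equiv.Perm GolayPt) := by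
      rcases Nat.lt_or_ge i G.length with hi | hi
      · rw [List.getD_eq_getElem _ _ hi, List.getD_eq_getElem _ _ (hlen ▸ hi)]
        have := List.getElem_of_eq h (i := i) (by simpa using hi)
        simpa using this
      · rw [List.getD_eq_default _ _ hi, List.getD_eq_default _ _ (hlen ▸ hi), toPerm_idP]
        rfl
    rw [wordP, toPerm_compP hgi (validP_wordP hv l), toPerm_word hv h l, List.map_cons,
      List.prod_cons, Subgroup.coe_mul, he]

/-- What is needed about the group. -/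
structure OutHyp (d : OutCert) (H : Subgroup (Equiv.Perm GolayPt)) where
  inH : ℕ → Bool
  mem : ∀ g, inH g = true → toPerm g ∈ H
  le : H ≤ M24
  fix : List ℕ
  sets : List ℕ
  hfix : ∀ g ∈ H, FixesList g fix
  hsets : ∀ g ∈ H, ∀ s ∈ sets, g • setOf s = setOf s
  finA : ∀ g ∈ H, FixesList g (d.cA.srcs fix) → g = 1
  finB : ∀ g ∈ H, FixesList g (d.cB.srcs fix) → g = 1
  okA : d.cA.ok inH fix sets = true
  okB : d.cB.ok inH fix sets = true
  ok : d.ok = true
  prime : d.p.Prime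
  fac : (Nat.card H).factorization d.p = 1
  inH_a : inH d.a = true
  inH_b : inH d.b = true
  inH_c : inH d.c = true
  gen : H ≤ Subgroup.closure {toPerm d.a, toPerm d.b, toPerm d.c}

variable {d : OutCert} {H : Subgroup (Equiv.Perm GolayPt)}

/-- The first generator. -/
def OutHyp.A (h : OutHyp d H) : H := ⟨toPerm d.a, h.mem _ h.inH_a⟩

/-- The second generator. -/
def OutHyp.B (h : OutHyp d H) : H := ⟨toPerm d.b, h.mem _ h.inH_b⟩

/-- The third generator. -/
def OutHyp.C (h : OutHyp d H) : H := ⟨toPerm d.c, h.mem _ h.inH_c⟩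

theorem OutHyp.gen_top (h : OutHyp d H) : Subgroup.closure {h.A, h.B, h.C} = ⊤ := by
  apply Subgroup.map_injective H.subtype_injective
  rw [MonoidHom.map_closure, ← MonoidHom.range_eq_map, Subgroup.range_subtype]
  have e : H.subtype '' {h.A, h.B, h.C} = {toPerm d.a, toPerm d.b, toPerm d.c} := by
    simp only [Set.image_insert_eq, Set.image_singleton]; rfl
  rw [e]
  refine le_antisymm ?_ h.gen
  rw [Subgroup.closure_le]
  rintro x (rfl | rfl | rfl)
  exacts [h.mem _ h.inH_a, h.mem _ h.inH_b, h.mem _ h.inH_c]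

/-- Every automorphism is inner, or sends the generators to the exceptional images. -/
theorem OutHyp.aut_cases (h : OutHyp d H) (φ : MulAut H) :
    φ ∈ Inn H ∨ ∃ u : H, (MulAut.conj u * φ) h.A = h.A ^ d.exc.1 ∧
      (MulAut.conj u * φ) h.B = h.B ∧
      ((MulAut.conj u * φ) h.C : Equiv.Perm GolayPt) = toPerm d.exc.2 := by
  haveI := Fact.mk h.prime
  have hok := h.ok
  simp only [OutCert.ok, Bool.and_eq_true, List.all_eq_true, List.mem_range, beq_iff_eq,
    Nat.blt_eq, Bool.not_eq_true', Bool.or_eq_true, List.contains_iff_mem] at hok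
  obtain ⟨⟨⟨⟨⟨⟨⟨⟨⟨⟨⟨⟨⟨⟨⟨⟨⟨⟨hav, hbv⟩, hcv⟩, hp0⟩, hr0⟩, hs0⟩, hap⟩, hane⟩, hba⟩, hcb⟩,
    hAa⟩, hAa'⟩, hBa⟩, hBa'⟩, hjA⟩, hred⟩, hks⟩, hwords⟩, hpairs⟩ := hok
  have hA : orderOf h.A = d.p := by
    obtain ⟨h1, h2⟩ := toPerm_powP' hav hp0
    refine orderOf_eq_prime (Subtype.ext ?_) fun he =>
      not_one_of_not_isIdP hav hane (congrArg Subtype.val he)
    rw [Subgroup.coe_pow]
    exact h2.symm.trans (toPerm_eq_one_of_isIdP h1 hap)
  obtain ⟨hrv, hre⟩ := toPerm_powP' hav hr0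
  obtain ⟨hsv, hse⟩ := toPerm_powP' hbv hs0
  have eBA : h.B * h.A = h.A ^ d.r * h.B := by
    apply Subtype.ext
    show toPerm d.b * toPerm d.a = ((h.A ^ d.r : H) : Equiv.Perm GolayPt) * toPerm d.b
    rw [Subgroup.coe_pow, show (h.A : Equiv.Perm GolayPt) = toPerm d.a from rfl, ← hre]
    exact mul_eq_of_compP hbv hav hrv hbv hba
  have eCB : h.C * h.B = h.B ^ d.s * h.C := by
    apply Subtype.ext
    show toPerm d.c * toPerm d.b = ((h.B ^ d.s : H) : Equiv.Perm GolayPt) * toPerm d.c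
    rw [Subgroup.coe_pow, show (h.B : Equiv.Perm GolayPt) = toPerm d.b from rfl, ← hse]
    exact mul_eq_of_compP hcv hbv hsv hcv hcb
  have hvA : ∀ g ∈ d.cA.sols, validP g = true ∧ h.inH g = true := by
    have := h.okA
    simp only [EqCert.ok, Bool.and_eq_true, List.all_eq_true] at this
    exact this.1.2
  have hvB : ∀ g ∈ d.cB.sols, validP g = true ∧ h.inH g = true := by
    have := h.okB
    simp only [EqCert.ok, Bool.and_eq_true, List.all_eq_true] at this
    exact this.1.2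
  let L : List H := d.cB.sols.attach.map fun g => ⟨toPerm g.1, h.mem _ (hvB g.1 g.2).2⟩
  obtain ⟨u, kk, hkk, g, hg, e1, e2, e3⟩ := aut_normal_form (L := L) (s := d.s) (ks := d.ks) h.fac hA
    (fun k hk hkp => by
      rcases hred k hkp with h0 | h0
      · omega
      · exact ⟨_, _, h0.1, h0.2⟩)
    eBA
    (fun g hg => by
      obtain ⟨g0, hg0, he0⟩ := d.cA.sound h.okA h.mem h.le h.hfix h.hsets h.finA g.2 (by
        rw [hAa, hAa', hre]
        exact congrArg Subtype.val hg)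
      obtain ⟨i, hi, rfl⟩ := List.mem_iff_getElem.1 hg0
      obtain ⟨hj0, hje⟩ := hjA i hi
      rw [List.getD_eq_getElem _ _ hi] at hje
      obtain ⟨hjv, hjp⟩ := toPerm_powP' hav hj0
      refine ⟨d.jA.getD i 0, Subtype.ext ?_⟩
      show ((h.A ^ d.jA.getD i 0 : H) : Equiv.Perm GolayPt) * g =
        toPerm d.b * ((h.A ^ d.jA.getD i 0 : H) : Equiv.Perm GolayPt)
      rw [Subgroup.coe_pow, show (h.A : Equiv.Perm GolayPt) = toPerm d.a from rfl, ← hjp, he0]
      exact mul_eq_of_compP hjv (hvA _ hg0).1 hbv hjv hje)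
    eCB
    (fun g hg => by
      obtain ⟨g0, hg0, he0⟩ := d.cB.sound h.okB h.mem h.le h.hfix h.hsets h.finB g.2 (by
        rw [hBa, hBa', hse]
        exact congrArg Subtype.val hg)
      exact List.mem_map.2 ⟨⟨g0, hg0⟩, List.mem_attach _ _, Subtype.ext he0.symm⟩)
    φ
  obtain ⟨⟨g0, hg0⟩, -, rfl⟩ := List.mem_map.1 hg
  have hpk := hpairs kk hkk g0 hg0
  simp only [OutCert.pairOk, Bool.or_eq_true, Bool.and_eq_true, beq_iff_eq, List.any_eq_true,
    Bool.not_eq_true'] at hpk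
  rcases hpk with (⟨rfl, rfl⟩ | ⟨rfl, rfl⟩) | ⟨w, hw, hwne⟩
  · left
    have : MulAut.conj u * φ = 1 :=
      aut_ext_gens h.gen_top (by rw [e1, pow_one]; rfl) e2 e3
    exact ⟨u⁻¹, by rw [map_inv]; exact inv_eq_of_mul_eq_one_right this⟩
  · exact Or.inr ⟨u, e1, e2, congrArg Subtype.val e3⟩
  · exfalso
    obtain ⟨⟨-, hn⟩, hwid⟩ := hwords w hw
    obtain ⟨hkv, hke⟩ := toPerm_powP' hav (hks kk hkk)
    generalize hχ : MulAut.conj u * φ = χ at e1 e2 e3
    have hG1 : ∀ g ∈ [d.a, d.b, d.c], validP g = true := by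
      intro g hg; simp only [List.mem_cons, List.not_mem_nil, or_false] at hg
      rcases hg with hg | hg | hg <;> rw [hg]
      exacts [hav, hbv, hcv]
    have hG2 : ∀ g ∈ [powP d.a kk, d.b, g0], validP g = true := by
      intro g hg; simp only [List.mem_cons, List.not_mem_nil, or_false] at hg
      rcases hg with hg | hg | hg <;> rw [hg]
      exacts [hkv, hbv, (hvB g0 hg0).1]
    have w1 := toPerm_word (H := H) (X := [h.A, h.B, h.C]) hG1 rfl w.1
    have w2 := toPerm_word (H := H) (X := [χ h.A, χ h.B, χ h.C]) hG2 (by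
      rw [e1, e2, e3]
      simp only [List.map_cons, List.map_nil, Subgroup.coe_pow]
      rw [hke]; rfl) w.1
    have hrel : ((w.1.map fun i => [h.A, h.B, h.C].getD i 1).prod) ^ w.2 = 1 := by
      apply Subtype.ext
      rw [Subgroup.coe_pow, ← w1, ← (toPerm_powP' (validP_wordP hG1 _) hn).2]
      exact toPerm_eq_one_of_isIdP (toPerm_powP' (validP_wordP hG1 _) hn).1 hwid
    have him := congrArg χ hrel
    rw [map_pow, map_list_prod, List.map_map, map_one] at him
    have hfun : (χ ∘ fun i => [h.A, h.B, h.C].getD i 1) = fun i => [χ h.A, χ h.B, χ h.C].getD i 1 := by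
      funext i
      match i with
      | 0 => rfl
      | 1 => rfl
      | 2 => rfl
      | (i + 3) => exact map_one χ
    rw [hfun] at him
    apply not_one_of_not_isIdP (toPerm_powP' (validP_wordP hG2 _) hn).1 hwne
    rw [(toPerm_powP' (validP_wordP hG2 _) hn).2, w2, ← Subgroup.coe_pow, him]
    rfl

theorem OutHyp.card_one (h : OutHyp d H) (he : (d.exc.1 == 1 && d.exc.2 == d.c) = true) :
    Nat.card (Out H) = 1 := by
  refine card_out_eq_one fun φ => ?_
  rcases h.aut_cases φ with hφ | ⟨u, e1, e2, e3⟩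
  · exact hφ
  · simp only [Bool.and_eq_true, beq_iff_eq] at he
    rw [he.1, pow_one] at e1
    rw [he.2] at e3
    have : MulAut.conj u * φ = 1 := aut_ext_gens h.gen_top e1 e2 (Subtype.ext e3)
    exact ⟨u⁻¹, by rw [map_inv]; exact inv_eq_of_mul_eq_one_right this⟩

/-- An outer automorphism given by conjugation in the symmetric group. -/
theorem OutHyp.card_two (h : OutHyp d H) (σ : ℕ) (cC : EqCert)
    (hσ : (validP σ && h.inH (powP d.a d.exc.1) && h.inH d.exc.2 && Nat.blt 0 d.exc.1 &&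
      validP d.exc.2 &&
      (compP σ d.a == compP (powP d.a d.exc.1) σ) && (compP σ d.b == compP d.b σ) &&
      (compP σ d.c == compP d.exc.2 σ) && (cC.a == d.a) && (cC.a' == powP d.a d.exc.1) &&
      cC.ok h.inH h.fix h.sets && cC.sols.isEmpty) = true)
    (finC : ∀ g ∈ H, FixesList g (cC.srcs h.fix) → g = 1) :
    Nat.card (Out H) = 2 := by
  have hok := h.ok
  simp only [OutCert.ok, Bool.and_eq_true] at hok
  obtain ⟨⟨⟨⟨⟨⟨⟨⟨⟨⟨⟨⟨⟨⟨⟨⟨⟨⟨hav, hbv⟩, hcv⟩, -⟩, -⟩, -⟩, -⟩, -⟩, -⟩, -⟩,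
    -⟩, -⟩, -⟩, -⟩, -⟩, -⟩, -⟩, -⟩, -⟩ := hok
  simp only [Bool.and_eq_true, beq_iff_eq, Nat.blt_eq, List.isEmpty_iff] at hσ
  obtain ⟨⟨⟨⟨⟨⟨⟨⟨⟨⟨⟨hσv, haH⟩, hgH⟩, hk0⟩, hgv⟩, hσa⟩, hσb⟩, hσc⟩, hCa⟩, hCa'⟩, hCok⟩, hCnil⟩ := hσ
  obtain ⟨hkv, hke⟩ := toPerm_powP' hav hk0
  set S := toPerm σ with hS
  have ca : S * toPerm d.a * S⁻¹ = toPerm (powP d.a d.exc.1) :=
    mul_inv_eq_iff_eq_mul.2 (mul_eq_of_compP hσv hav hkv hσv hσa)
  have cb : S * toPerm d.b * S⁻¹ = toPerm d.b :=
    mul_inv_eq_iff_eq_mul.2 (mul_eq_of_compP hσv hbv hbv hσv hσb)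
  have cc : S * toPerm d.c * S⁻¹ = toPerm d.exc.2 :=
    mul_inv_eq_iff_eq_mul.2 (mul_eq_of_compP hσv hcv hgv hσv hσc)
  have hle : H.map (MulAut.conj S).toMonoidHom ≤ H := by
    rw [Subgroup.map_le_iff_le_comap]
    refine h.gen.trans ((Subgroup.closure_le _).2 ?_)
    rintro x (rfl | rfl | rfl)
    · show S * toPerm d.a * S⁻¹ ∈ H
      rw [ca]; exact h.mem _ haH
    · show S * toPerm d.b * S⁻¹ ∈ H
      rw [cb]; exact h.mem _ h.inH_b
    · show S * toPerm d.c * S⁻¹ ∈ H
      rw [cc]; exact h.mem _ hgH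
  have hmap : H.map (MulAut.conj S).toMonoidHom = H :=
    Subgroup.eq_of_le_of_card_ge hle
      (le_of_eq (Nat.card_congr ((MulAut.conj S).subgroupMap H).toEquiv))
  let φ₀ : MulAut H := ((MulAut.conj S).subgroupMap H).trans (MulEquiv.subgroupCongr hmap)
  have hφ : ∀ x : H, ((φ₀ x : H) : Equiv.Perm GolayPt) = S * x * S⁻¹ := fun x => rfl
  refine card_out_eq_two (φ₀ := φ₀) ?_ fun φ => ?_
  · rintro ⟨u, hu⟩
    have e : ((MulAut.conj u h.A : H) : Equiv.Perm GolayPt) = toPerm (powP d.a d.exc.1) := by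
      rw [hu, hφ]; exact ca
    have e' : (u : Equiv.Perm GolayPt) * toPerm d.a * (u : Equiv.Perm GolayPt)⁻¹ =
        toPerm (powP d.a d.exc.1) := e
    obtain ⟨g, hg, -⟩ := cC.sound hCok h.mem h.le h.hfix h.hsets finC u.2 (by
      rw [hCa, hCa']; exact mul_inv_eq_iff_eq_mul.1 e')
    rw [hCnil] at hg
    simp at hg
  · rcases h.aut_cases φ with hi | ⟨u, e1, e2, e3⟩
    · exact Or.inl hi
    right
    have hχ : MulAut.conj u * φ = φ₀ := by
      refine aut_ext_gens h.gen_top (Subtype.ext ?_) (Subtype.ext ?_) (Subtype.ext ?_)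
      · rw [hφ, e1, Subgroup.coe_pow]; exact hke.symm.trans ca.symm
      · rw [hφ, e2]; exact cb.symm
      · rw [hφ, e3]; exact cc.symm
    have e : φ₀⁻¹ * φ = φ₀⁻¹ * (MulAut.conj u⁻¹ * φ₀) := by
      rw [← hχ, map_inv, inv_mul_cancel_left]
    rw [e, ← mul_assoc]
    exact Subgroup.Normal.conj_mem' inferInstance _ (MonoidHom.mem_range.2 ⟨u⁻¹, rfl⟩) _

end

end Cfsg.Agent.Golay24
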