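import Cfsg.Agent.Lib.Golay.NormBound
import Cfsg.Agent.Lib.Golay.OutCert

/-!
From a normaliser certificate to a bound inside a subgroup of M24.
-/

set_option autoImplicit false
set_option linter.style.haveILetI false

namespace Cfsg.Agent.Golay24

open Cfsg

/-- The order of the element of a certificate. -/
theorem orderOf_of_cert {y l : ℕ} {st : List (List ℕ)} {lv : List ℕ × List ℕ}
    {L : List (List ℕ × List ℕ)} {ws : List ℕ} {S P : ℕ}
    (hok : (normOk y st lv L ws S P && isIdP (powP y l) && !isIdP y) = true) (hl : l.Prime) :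
    orderOf (toPerm y) = l ∧ toPerm y ∈ M24 ∧ ∀ x ∈ setOf S, toPerm y x = x := by
  simp only [Bool.and_eq_true, Bool.not_eq_true'] at hok
  obtain ⟨⟨hn, hp⟩, hy⟩ := hok
  simp only [normOk, Bool.and_eq_true, List.all_eq_true, List.mem_range, beq_iff_eq, Bool.or_eq_true,
    Bool.not_eq_true', beq_eq_false_iff_ne] at hn
  obtain ⟨⟨⟨⟨⟨hyM, -⟩, -⟩, hyS⟩, -⟩, -⟩ := hn
  have hv := valid_of_inM24 hyM
  obtain ⟨h1, h2⟩ := toPerm_powP' hv hl.pos
  refine ⟨?_, toPerm_mem_M24 hyM, fun x hx => idx_inj.1 (Fin.ext ?_)⟩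
  · haveI := Fact.mk hl
    exact orderOf_eq_prime (h2 ▸ toPerm_eq_one_of_isIdP h1 hp) (not_one_of_not_isIdP hv hy)
  · rw [idx_toPerm hv]
    exact (hyS _ (idx x).isLt).resolve_left (by rw [mem_setOf.1 hx]; simp)

/-- The normaliser bound of a certificate. -/
theorem card_normalizer_zpowers_le {H : Subgroup (Equiv.Perm GolayPt)} (hH : H ≤ M24) {y l : ℕ}
    {st : List (List ℕ)} {lv : List ℕ × List ℕ}
    {L : List (List ℕ × List ℕ)} {ws : List ℕ} {S P : ℕ} (hfix : ∀ g ∈ H, FixesMask g S)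
    (hok : (normOk y st lv L ws S P && isIdP (powP y l) && !isIdP y) = true) (hl : l.Prime)
    (y' : H) (hy' : (y' : Equiv.Perm GolayPt) = toPerm y) {T : ℕ}
    (hT : normTotal y (l - 1) lv L ws S P = T) :
    orderOf y' = l ∧
      Nat.card (Subgroup.normalizer (Subgroup.zpowers y' : Set H)) ≤ lv.1.length * T := by
  classical
  have hord : orderOf y' = l := by
    rw [← Subgroup.orderOf_coe, hy']; exact (orderOf_of_cert hok hl).1
  refine ⟨hord, ?_⟩
  subst hT
  set N := Subgroup.normalizer (Subgroup.zpowers y' : Set H)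
  haveI : Fintype N := Fintype.ofFinite N
  set A : Finset (Equiv.Perm GolayPt) :=
    Finset.univ.image fun g : N => ((g : H) : Equiv.Perm GolayPt)
  have hA : A.card = Nat.card N := by
    rw [Finset.card_image_of_injective _ (fun a b h => Subtype.ext (Subtype.ext h)), Finset.card_univ,
      Nat.card_eq_fintype_card]
  rw [← hA]
  simp only [Bool.and_eq_true] at hok
  refine card_normaliser_le hok.1.1 A fun g hg => ?_
  obtain ⟨⟨⟨g, hgH⟩, hgN⟩, -, rfl⟩ := Finset.mem_image.1 hg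
  refine ⟨hH hgH, hfix g hgH, ?_⟩
  have hmem : (⟨g, hgH⟩ : H) * y' * (⟨g, hgH⟩ : H)⁻¹ ∈ Subgroup.zpowers y' :=
    (Subgroup.mem_normalizer_iff.1 hgN y').1 (Subgroup.mem_zpowers y')
  obtain ⟨j, hj, hjeq⟩ := Finset.mem_image.1 (mem_zpowers_iff_mem_range_orderOf.1 hmem)
  rw [Finset.mem_range] at hj
  rw [hord] at hj
  obtain ⟨k, rfl⟩ : ∃ k, j = k + 1 := by
    refine Nat.exists_eq_add_one.2 (Nat.pos_of_ne_zero ?_)
    rintro rfl
    rw [pow_zero, eq_comm, conj_eq_one_iff] at hjeq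
    rw [hjeq, orderOf_one] at hord
    exact hl.ne_one hord.symm
  refine ⟨k, by omega, ?_⟩
  have h := congrArg (fun x : H => (x : Equiv.Perm GolayPt)) hjeq
  simp only [Subgroup.coe_mul, Subgroup.coe_inv, SubgroupClass.coe_pow, hy'] at h
  exact h.symm

end Cfsg.Agent.Golay24
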