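import Cfsg.Agent.Lib.Golay.Rigid

/-!
The group of the length-24 code: order, generation, 5-transitivity.
-/

set_option autoImplicit false

namespace Cfsg.Agent.Golay24

noncomputable section

open Cfsg
open scoped Pointwise

attribute [local irreducible] m24Prog m24Levels m24Stages

theorem m24Gens_inM24 : m24Gens.all inM24 = true := by decide +kernel

/-- The packed transversal elements of the chain. -/
def m24Chain : List (ℕ × List ℕ) :=
  let out := slp m24Gens m24Prog
  m24Levels.map fun p => (p.1, p.2.map fun k => out.getD k 0)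

theorem m24Prog_ok : slpOk 3 m24Prog = true := by decide +kernel

theorem m24Levels_ok :
    m24Levels.all (fun p => p.2.all fun k => Nat.blt k (3 + m24Prog.length)) = true := by
  decide +kernel

theorem slp_length (acc : List ℕ) (prog : List (ℕ × ℕ)) :
    (slp acc prog).length = acc.length + prog.length := by
  induction prog generalizing acc with
  | nil => simp [slp]
  | cons a l ih => obtain ⟨i, j⟩ := a; rw [slp, ih]; simp; omega

theorem m24Prog_ok' : slpOk m24Gens.length m24Prog = true := m24Prog_ok

theorem chain_mem {K : Subgroup (Equiv.Perm GolayPt)} (hK : ∀ g ∈ m24Gens, toPerm g ∈ K) :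
    ∀ p ∈ m24Chain, ∀ t ∈ p.2, toPerm t ∈ K := by
  have hv : ∀ g ∈ m24Gens, validP g = true ∧ toPerm g ∈ K := fun g hg =>
    ⟨valid_of_inM24 (List.all_eq_true.1 m24Gens_inM24 g hg), hK g hg⟩
  intro p hp t ht
  simp only [m24Chain, List.mem_map] at hp
  obtain ⟨q, hq, rfl⟩ := hp
  simp only [List.mem_map] at ht
  obtain ⟨k, hk, rfl⟩ := ht
  have hlt := List.all_eq_true.1 (List.all_eq_true.1 m24Levels_ok q hq) k hk
  rw [Nat.blt_eq] at hlt
  have hk' : k < (slp m24Gens m24Prog).length := by
    rw [slp_length]; exact hlt
  rw [List.getD_eq_getElem _ _ hk']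
  exact (slp_mem m24Prog m24Gens m24Prog_ok' hv _ (List.getElem_mem hk')).2

theorem gen_mem_M24 {g : ℕ} (hg : g ∈ m24Gens) : toPerm g ∈ M24 :=
  toPerm_mem_M24 (List.all_eq_true.1 m24Gens_inM24 g hg)

theorem m24Chain_ok : chainOk [] m24Chain = true := by decide +kernel

theorem m24Chain_prod : chainProd m24Chain = 244823040 := by decide +kernel

/-- The seven base positions, in order. -/
def m24Base : List ℕ := m24Levels.map Prod.fst

/-- Mask of the base positions before a level. -/
def prefMask : List ℕ → ℕ := fun l => l.foldl (fun F b => Nat.lor F (Nat.shiftLeft 1 b)) 0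

/-- The allowed images at each of the seven levels. -/
def m24Allowed : List ℕ :=
  [16777215, 16777215, 16777215, 16777215, 16777215, m24Octad, Nat.xor 16777215 m24Octad]

/-- All levels of the chain are sound. -/
def m24LevelsOk : Bool :=
  (List.range 7).all fun k =>
    levelOk (prefMask (m24Base.take k)) (m24Allowed.getD k 0) (m24Chain.getD k (0, [])).1
      (m24Chain.getD k (0, [])).2

theorem m24LevelsOk_eq : m24LevelsOk = true := by decide +kernel

theorem m24Octad_facts :
    (isOct m24Octad && Nat.ble 5 (pop24 (Nat.land m24Octad (prefMask (m24Base.take 5)))) &&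
      Nat.testBit m24Octad (m24Base.getD 5 0) && !Nat.testBit m24Octad (m24Base.getD 6 0)) = true := by
  decide +kernel

theorem m24Stages_ok : stagesOk (prefMask m24Base) m24Stages = true := by decide +kernel

theorem m24Base_len : m24Base.length = 7 ∧
    ∀ k < 7, (m24Chain.getD k (0, [])).1 = m24Base.getD k 0 := by
  decide +kernel

theorem prefMask_concat (l : List ℕ) (b : ℕ) :
    prefMask (l ++ [b]) = Nat.lor (prefMask l) (Nat.shiftLeft 1 b) := by
  simp [prefMask, List.foldl_append]

theorem base_take_succ {k : ℕ} (hk : k < 7) :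
    m24Base.take (k + 1) = m24Base.take k ++ [m24Base.getD k 0] := by
  have h : k < m24Base.length := by rw [m24Base_len.1]; exact hk
  rw [List.take_succ_eq_append_getElem h, List.getD_eq_getElem _ _ h]

/-- Products along a chain. -/
noncomputable def chainElems : List (ℕ × List ℕ) → Finset (Equiv.Perm GolayPt)
  | [] => {1}
  | (_, ts) :: rest => Finset.image₂ (· * ·) (ts.toFinset.image toPerm) (chainElems rest)

theorem card_chainElems_le (lv : List (ℕ × List ℕ)) : (chainElems lv).card ≤ chainProd lv := by
  induction lv with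
  | nil => simp [chainElems, chainProd]
  | cons p rest ih =>
    obtain ⟨b, ts⟩ := p
    exact le_trans (Finset.card_image₂_le _ _ _)
      (Nat.mul_le_mul (le_trans Finset.card_image_le (List.toFinset_card_le ts)) ih)

theorem m24Chain_len : m24Chain.length = 7 := by
  have := m24Base_len.1
  simpa [m24Base, m24Chain] using this

/-- An element fixing the first `k` base points factors through the remaining transversals. -/
theorem mem_chainElems :
    ∀ (j k : ℕ), k + j = 7 → ∀ σ ∈ M24, FixesMask σ (prefMask (m24Base.take k)) →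
      σ ∈ chainElems (m24Chain.drop k) := by
  intro j
  induction j with
  | zero =>
    intro k hk σ hσ hF
    have : m24Base.take k = m24Base :=
      List.take_of_length_le (by rw [m24Base_len.1]; omega)
    rw [this] at hF
    rw [eq_one_of_stages hσ _ _ m24Stages_ok hF,
      List.drop_of_length_le (by rw [m24Chain_len]; omega)]
    simp [chainElems]
  | succ j ih =>
    intro k hk σ hσ hF
    have hk7 : k < 7 := by omega
    have hlv := List.all_eq_true.1 m24LevelsOk_eq k (List.mem_range.2 hk7)
    have hall : ∀ x : GolayPt, (idx x : ℕ) = (m24Chain.getD k (0, [])).1 →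
        (m24Allowed.getD k 0).testBit (idx (σ x)) = true := by
      intro x hx
      have hfacts := m24Octad_facts
      simp only [Bool.and_eq_true, Nat.ble_eq, Bool.not_eq_true'] at hfacts
      obtain ⟨⟨⟨ho, h5⟩, hb5⟩, hb6⟩ := hfacts
      rw [m24Base_len.2 k hk7] at hx
      have hfix : 5 ≤ k → σ • setOf m24Octad = setOf m24Octad := by
        intro h5k
        refine octad_fixed_of_five hσ (F := prefMask (m24Base.take 5)) ?_ (setOf_mem_octads ho)
          (by rw [← setOf_land, card_setOf]; exact h5)
        intro y hy
        apply hF y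
        have : k = 5 ∨ k = 6 := by omega
        rcases this with rfl | rfl
        · exact hy
        · rw [base_take_succ (k := 5) (by norm_num), prefMask_concat]
          exact (setOf_lor _ _).symm ▸ Finset.mem_union_left _ hy
      have hiff : 5 ≤ k → (σ x ∈ setOf m24Octad ↔ x ∈ setOf m24Octad) := fun h5k => by
        conv_lhs => rw [← hfix h5k]
        exact Finset.smul_mem_smul_finset_iff σ
      have hfull : ∀ i : Fin 24, (16777215 : ℕ).testBit i = true := by decide
      have hcases : k < 5 ∨ k = 5 ∨ k = 6 := by omega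
      rcases hcases with h | rfl | rfl
      · interval_cases k <;> exact hfull _
      · show (m24Octad).testBit _ = true
        rw [← mem_setOf, hiff le_rfl, mem_setOf, hx]; exact hb5
      · show (Nat.xor 16777215 m24Octad).testBit _ = true
        have : σ x ∉ setOf m24Octad := by
          rw [hiff (by norm_num), mem_setOf, hx, hb6]; simp
        rw [mem_setOf, Bool.not_eq_true] at this
        have e : Nat.xor 16777215 m24Octad = 16777215 ^^^ m24Octad := rfl
        rw [e, Nat.testBit_xor, this, hfull]; rfl
    obtain ⟨t, ht, τ, hτ, hτF, rfl⟩ := exists_div_of_levelOk hσ hlv hF hall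
    have hk' : k < m24Chain.length := by rw [m24Chain_len]; exact hk7
    rw [List.getD_eq_getElem _ _ hk'] at ht
    rw [List.drop_eq_getElem_cons hk', chainElems]
    refine Finset.mem_image₂.2 ⟨toPerm t, Finset.mem_image.2 ⟨t, List.mem_toFinset.2 ht, rfl⟩,
      τ, ih (k + 1) (by omega) τ hτ ?_, rfl⟩
    rw [base_take_succ hk7, prefMask_concat, ← m24Base_len.2 k hk7]
    exact hτF

theorem chainElems_subset {K : Subgroup (Equiv.Perm GolayPt)} :
    ∀ lv : List (ℕ × List ℕ), (∀ p ∈ lv, ∀ t ∈ p.2, toPerm t ∈ K) →
      ∀ σ ∈ chainElems lv, σ ∈ K := by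
  intro lv
  induction lv with
  | nil => intro _ σ hσ; simp [chainElems] at hσ; exact hσ ▸ K.one_mem
  | cons p rest ih =>
    obtain ⟨b, ts⟩ := p
    intro h σ hσ
    rw [chainElems, Finset.mem_image₂] at hσ
    obtain ⟨u, hu, τ, hτ, rfl⟩ := hσ
    obtain ⟨t, ht, rfl⟩ := Finset.mem_image.1 hu
    exact K.mul_mem (h _ List.mem_cons_self t (List.mem_toFinset.1 ht))
      (ih (fun q hq => h q (List.mem_cons_of_mem _ hq)) τ hτ)

theorem mem_chainElems_of_mem {σ : Equiv.Perm GolayPt} (hσ : σ ∈ M24) :
    σ ∈ chainElems m24Chain :=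
  mem_chainElems 7 0 rfl σ hσ fun x hx => by
    simp [prefMask] at hx

/-- A subgroup containing the three generators contains the group of the code. -/
theorem M24_le_of_gens {K : Subgroup (Equiv.Perm GolayPt)} (hK : ∀ g ∈ m24Gens, toPerm g ∈ K) :
    M24 ≤ K := fun σ hσ => chainElems_subset _ (chain_mem hK) σ (mem_chainElems_of_mem hσ)

theorem M24_eq_closure : M24 = Subgroup.closure {σ | ∃ g ∈ m24Gens, toPerm g = σ} := by
  refine le_antisymm (M24_le_of_gens fun g hg => Subgroup.subset_closure ⟨g, hg, rfl⟩) ?_
  rw [Subgroup.closure_le]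
  rintro _ ⟨g, hg, rfl⟩
  exact gen_mem_M24 hg

theorem card_M24 : Nat.card M24 = 244823040 := by
  refine le_antisymm ?_ ?_
  · rw [← m24Chain_prod]
    refine le_trans ?_ (card_chainElems_le m24Chain)
    rw [← Set.ncard_coe_finset]
    exact le_of_eq_of_le (Nat.card_coe_set_eq _)
      (Set.ncard_le_ncard (fun σ hσ => mem_chainElems_of_mem hσ) (Set.toFinite _))
  · rw [← m24Chain_prod]
    exact chainProd_le_card M24 m24Chain m24Chain_ok (chain_mem fun _ hg => gen_mem_M24 hg)

end

end Cfsg.Agent.Golay24
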