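import Cfsg.Agent.Lib.Golay.NormBound
import Cfsg.Agent.Lib.Golay.NormData

/-!
Checks of the normaliser certificates for M24.
-/

set_option autoImplicit false
set_option Elab.async false

namespace Cfsg.Agent.Golay24

theorem m24N5_ok : (normOk m24N5Y m24N5St m24N5Top m24N5Lev m24N5Ws 0 0 && isIdP (powP m24N5Y 5) && !isIdP m24N5Y) = true := by
  decide +kernel

theorem m24N5_total : normTotal m24N5Y 4 m24N5Top m24N5Lev m24N5Ws 0 0 = 48 := by
  decide +kernel

theorem m24N7_ok : (normOk m24N7Y m24N7St m24N7Top m24N7Lev m24N7Ws 0 0 && isIdP (powP m24N7Y 7) && !isIdP m24N7Y) = true := by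
  decide +kernel

theorem m24N7_total : normTotal m24N7Y 6 m24N7Top m24N7Lev m24N7Ws 0 0 = 18 := by
  decide +kernel

theorem m24N11_ok : (normOk m24N11Y m24N11St m24N11Top m24N11Lev m24N11Ws 0 0 && isIdP (powP m24N11Y 11) && !isIdP m24N11Y) = true := by
  decide +kernel

theorem m24N11_total : normTotal m24N11Y 10 m24N11Top m24N11Lev m24N11Ws 0 0 = 10 := by
  decide +kernel

theorem m24N23_ok : (normOk m24N23Y m24N23St m24N23Top m24N23Lev m24N23Ws 0 0 && isIdP (powP m24N23Y 23) && !isIdP m24N23Y) = true := by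
  decide +kernel

theorem m24N23_total : normTotal m24N23Y 22 m24N23Top m24N23Lev m24N23Ws 0 0 = 11 := by
  decide +kernel

end Cfsg.Agent.Golay24
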