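import Cfsg.Agent.S5160

/-!
Simplicity of a fusion system from a self-normalising Sylow subgroup without proper strongly
closed subgroups.
-/

set_option autoImplicit false

namespace Cfsg.Agent.Golay24

open Cfsg
open scoped Pointwise

variable {G : Type*} [Group G] [Finite G] {p : ℕ} [Fact p.Prime]

theorem isSimple_gfs_of_selfNormalizing (S : Sylow p G) (hS1 : (S : Subgroup G) ≠ ⊥)
    (hN : Subgroup.normalizer ((S : Subgroup G) : Set G) = (S : Subgroup G))
    (hcl : ∀ T : Subgroup G, T ≤ (S : Subgroup G) →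
      (∀ g : G, ∀ x ∈ T, g * x * g⁻¹ ∈ (S : Subgroup G) → g * x * g⁻¹ ∈ T) →
      T = ⊥ ∨ T = (S : Subgroup G)) :
    (groupFusionSystem (S : Subgroup G)).IsSimple p := by
  refine S5160.result p S hS1 (fun T hT => hcl T hT.1 fun g x hx hgx => ?_) ?_
  · obtain ⟨hTS, hT'⟩ := hT
    have hR : Subgroup.zpowers x ≤ T := Subgroup.zpowers_le.2 hx
    have hmem : ∀ y : Subgroup.zpowers x, g * (y : G) * g⁻¹ ∈ (S : Subgroup G) := by
      rintro ⟨y, hy⟩
      obtain ⟨k, rfl⟩ := Subgroup.mem_zpowers_iff.1 hy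
      show g * x ^ k * g⁻¹ ∈ _
      rw [← conj_zpow]
      exact Subgroup.zpow_mem _ hgx k
    exact hT' (Subgroup.zpowers x) hR
      ((MulAut.conj g).toMonoidHom.comp (Subgroup.zpowers x).subtype)
      ⟨le_trans hR hTS, hmem, g, fun _ => rfl⟩ ⟨x, Subgroup.mem_zpowers x⟩
  · have hF : (groupFusionSystem (S : Subgroup G)).autGroup (S : Subgroup G) =
        autInducedBy (S : Subgroup G) (S : Subgroup G) := by
      rw [Fusion.autGroup_gfs le_rfl]
      refine le_antisymm (fun α hα => ?_) (fun α hα => ?_)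
      · obtain ⟨k, -, hk⟩ := Fusion.mem_autInducedBy_iff.1 hα
        refine Fusion.mem_autInducedBy_iff.2 ⟨k, hN ▸ ?_, hk⟩
        rw [Subgroup.mem_normalizer_iff]
        intro y
        constructor
        · intro hy
          rw [← hk ⟨y, hy⟩]; exact (α ⟨y, hy⟩).2
        · intro hy
          have h1 := hk (α.symm ⟨_, hy⟩)
          rw [MulEquiv.apply_symm_apply] at h1
          have : y = (α.symm ⟨_, hy⟩ : G) := mul_left_cancel (mul_right_cancel h1)
          rw [this]; exact (α.symm _).2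
      · obtain ⟨k, -, hk⟩ := Fusion.mem_autInducedBy_iff.1 hα
        exact Fusion.mem_autInducedBy_iff.2 ⟨k, Subgroup.mem_top k, hk⟩
    have hInn : autInducedBy (S : Subgroup G) (S : Subgroup G) = Inn (S : Subgroup G) := by
      ext α
      rw [Fusion.mem_autInducedBy_iff]
      constructor
      · rintro ⟨k, hk, h⟩
        exact ⟨⟨k, hk⟩, MulEquiv.ext fun x => Subtype.ext (h x).symm⟩
      · rintro ⟨⟨k, hk⟩, rfl⟩
        exact ⟨k, hk, fun x => rfl⟩
    refine le_antisymm ?_ (iSup_le fun R => iSup_le fun _ => fun α hα => ?_)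
    · rw [← Fusion.autGroup_gfs le_rfl, hF]
      refine le_iSup₂_of_le (S : Subgroup G) ⟨⟨le_rfl, fun Q hQ => ?_⟩, ⟨le_rfl, ?_⟩, le_rfl,
        fun Q hQ => ?_⟩ ?_
      · refine Subgroup.card_le_of_le (le_inf ?_ ?_)
        · exact inf_le_left
        · exact le_trans inf_le_left Subgroup.le_normalizer
      · rw [hF, hInn]
        refine le_antisymm (Subgroup.map_le_iff_le_comap.2 fun a _ => a.2) ?_
        have htop : pCore p ↥(Inn (S : Subgroup G)) = ⊤ := by
          refine top_le_iff.1 (le_sSup ⟨inferInstance, ?_⟩)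
          refine IsPGroup.of_equiv ?_ Subgroup.topEquiv.symm
          exact IsPGroup.of_surjective S.2 (MulAut.conj (G := ↥(S : Subgroup G))).rangeRestrict
            (MonoidHom.rangeRestrict_surjective _)
        rw [htop, ← MonoidHom.range_eq_map, Subgroup.range_subtype]
      · have hQS := Fusion.isConj_le_right hQ
        rw [Subgroup.eq_of_le_of_card_ge hQS (Fusion.isConj_card hQ).ge]
        exact inf_le_left
      · intro α hα
        obtain ⟨k, hk, h⟩ := Fusion.mem_autInducedBy_iff.1 hα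
        refine Fusion.mem_autInducedBy_iff.2 ⟨k, Subgroup.subset_closure ⟨?_, ?_⟩, h⟩
        · exact Subgroup.le_normalizer hk
        · exact (IsPGroup.iff_orderOf.1 S.2 ⟨k, hk⟩).imp fun j hj => by rw [← hj, Subgroup.orderOf_mk]
    · obtain ⟨k, -, h⟩ := Fusion.mem_autInducedBy_iff.1 hα
      exact Fusion.mem_autInducedBy_iff.2 ⟨k, Subgroup.mem_top k, h⟩

end Cfsg.Agent.Golay24
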