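import Cfsg.Agent.Lib.Golay.Mathieu
import Cfsg.Agent.Lib.Golay.FusionCrit

/-!
Certificates about a Sylow 2-subgroup of a subgroup of `Cfsg.M24`: its elements, its centre,
self-normalisation, and absence of proper strongly closed subgroups.
-/

set_option autoImplicit false

namespace Cfsg.Agent.Golay24

noncomputable section

open Cfsg
open scoped Pointwise

/-- The packed identity. -/
def idP : ℕ :=
  (List.range 24).foldr (fun i r => Nat.lor (Nat.shiftLeft i (5 * i)) r) 0

theorem idP_spec : validP idP = true ∧ isIdP idP = true := by decide +kernel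

theorem toPerm_idP : toPerm idP = 1 := toPerm_eq_one_of_isIdP idP_spec.1 idP_spec.2

theorem toPerm_inj {p q : ℕ} (hp : validP p = true) (hq : validP q = true)
    (hpc : compP p idP = p) (hqc : compP q idP = q) (h : toPerm p = toPerm q) : p = q := by
  have ha : ∀ i : Fin 24, app p i = app q i := fun i => by
    have h1 := idx_toPerm hp (pt i)
    have h2 := idx_toPerm hq (pt i)
    rw [idx_pt] at h1 h2
    rw [← h1, h, h2]
  have hid : ∀ i : Fin 24, app idP i < 24 := app_lt idP_spec.1
  have key : ∀ n ≤ 24, compTo p idP n = compTo q idP n := by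
    intro n
    induction n with
    | zero => intro _; rfl
    | succ n ih =>
      intro hn
      show Nat.lor (Nat.shiftLeft (app p (app idP n)) (5 * n)) (compTo p idP n) = _
      rw [ha ⟨_, hid ⟨n, by omega⟩⟩, ih (by omega)]
      rfl
  rw [← hpc, ← hqc]
  exact key 24 le_rfl

theorem mul_eq_of_compP {a b c d : ℕ} (ha : validP a = true) (hb : validP b = true)
    (hc : validP c = true) (hd : validP d = true) (h : compP a b = compP c d) :
    toPerm a * toPerm b = toPerm c * toPerm d := by
  rw [← toPerm_compP ha hb, h, toPerm_compP hc hd]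

/-! ### The certificate -/

/-- The data of a certificate. -/
structure SylCert where
  gens : List ℕ
  elems : List ℕ
  tree : List (ℕ × ℕ)
  srt : List ℕ
  mulIdx : List (List ℕ)
  z : ℕ
  ops : List (ℕ × ℕ × ℕ × ℕ)
  levels : List (ℕ × List ℕ)

/-- The packed table of elements. -/
def SylCert.tab (c : SylCert) : ℕ := packSlots 120 c.elems

/-- Slots of the table agree with the list. -/
def slotsOk (w P : ℕ) : ℕ → List ℕ → Bool
  | _, [] => true
  | k, a :: l => (getSlot w P k == a) && slotsOk w P (k + 1) l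

theorem slotsOk_spec {w P : ℕ} : ∀ (l : List ℕ) (k : ℕ), slotsOk w P k l = true →
    ∀ i (hi : i < l.length), getSlot w P (k + i) = l[i] := by
  intro l
  induction l with
  | nil => intro k _ i hi; simp at hi
  | cons a l ih =>
    intro k h i hi
    simp only [slotsOk, Bool.and_eq_true, beq_iff_eq] at h
    cases i with
    | zero => simpa using h.1
    | succ i =>
      rw [List.getElem_cons_succ, ← ih (k + 1) h.2 i (by simpa using hi)]
      congr 1
      omega

/-- Left multiplication by a generator stays in the table. -/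
def rowOk (w P n g : ℕ) : List ℕ → List ℕ → Bool
  | [], _ => true
  | _ :: _, [] => false
  | a :: l, k :: ks => Nat.blt k n && (getSlot w P k == compP g a) && rowOk w P n g l ks

theorem rowOk_spec {w P n g : ℕ} : ∀ (l ks : List ℕ), rowOk w P n g l ks = true →
    ∀ a ∈ l, ∃ k < n, getSlot w P k = compP g a := by
  intro l
  induction l with
  | nil => intro ks _ a ha; simp at ha
  | cons b l ih =>
    intro ks h a ha
    cases ks with
    | nil => simp [rowOk] at h
    | cons k ks =>
      simp only [rowOk, Bool.and_eq_true, Nat.blt_eq, beq_iff_eq] at h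
      rcases List.mem_cons.1 ha with rfl | ha
      · exact ⟨k, h.1.1, h.1.2⟩
      · exact ih ks h.2 a ha

/-- Basic checks: a group of that many distinct elements inside `H`. -/
def SylCert.grpOk (c : SylCert) (inH : ℕ → Bool) : Bool :=
  c.gens.all inH && c.gens.all validP && c.elems.all (fun p => validP p && compP p idP == p) &&
    slotsOk 120 c.tab 0 c.elems && (getSlot 120 c.tab 0 == idP) &&
    treeOk compP c.gens 120 c.tab 1 c.tree && (c.tree.length + 1 == c.elems.length) &&
    (c.srt.length == c.elems.length) && c.srt.all (fun k => Nat.blt k c.elems.length) &&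
    sortedB (c.srt.map (getSlot 120 c.tab)) &&
    (c.mulIdx.length == c.gens.length) &&
    (List.range c.gens.length).all fun j =>
      rowOk 120 c.tab c.elems.length (c.gens.getD j 0) c.elems (c.mulIdx.getD j [])

/-- The subgroup of a certificate. -/
def SylCert.grp (c : SylCert) : Subgroup (Equiv.Perm GolayPt) :=
  Subgroup.closure {σ | ∃ g ∈ c.gens, toPerm g = σ}

theorem SylCert.slot_mem {c : SylCert} {inH : ℕ → Bool} (h : c.grpOk inH = true) {k : ℕ}
    (hk : k < c.elems.length) : getSlot 120 c.tab k ∈ c.elems := by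
  simp only [SylCert.grpOk, Bool.and_eq_true] at h
  have := slotsOk_spec _ _ h.1.1.1.1.1.1.1.1.2 k hk
  rw [Nat.zero_add] at this
  rw [this]; exact List.getElem_mem _

theorem SylCert.valid {c : SylCert} {inH : ℕ → Bool} (h : c.grpOk inH = true) {p : ℕ}
    (hp : p ∈ c.elems) : validP p = true ∧ compP p idP = p := by
  simp only [SylCert.grpOk, Bool.and_eq_true, List.all_eq_true, beq_iff_eq] at h
  exact h.1.1.1.1.1.1.1.1.1.2 p hp

theorem SylCert.gens_valid {c : SylCert} {inH : ℕ → Bool} (h : c.grpOk inH = true) {g : ℕ}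
    (hg : g ∈ c.gens) : validP g = true ∧ inH g = true := by
  simp only [SylCert.grpOk, Bool.and_eq_true, List.all_eq_true] at h
  exact ⟨h.1.1.1.1.1.1.1.1.1.1.2 g hg, h.1.1.1.1.1.1.1.1.1.1.1 g hg⟩

theorem SylCert.elem_mem {c : SylCert} {inH : ℕ → Bool} (h : c.grpOk inH = true) {p : ℕ}
    (hp : p ∈ c.elems) : toPerm p ∈ c.grp := by
  have hslot := fun k hk => c.slot_mem h (k := k) hk
  have hval := fun q hq => (c.valid h (p := q) hq).1
  have hgv := fun g hg => (c.gens_valid h (g := g) hg).1
  simp only [SylCert.grpOk, Bool.and_eq_true, beq_iff_eq] at h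
  obtain ⟨⟨⟨⟨⟨⟨⟨⟨⟨-, hs⟩, h0⟩, htree⟩, hlen⟩, -⟩, -⟩, -⟩, -⟩, -⟩ := h
  have key : ∀ k, k < c.elems.length → toPerm (getSlot 120 c.tab k) ∈ c.grp := by
    intro k
    induction k using Nat.strong_induction_on with
    | _ k ih =>
      intro hk
      cases k with
      | zero => rw [h0, toPerm_idP]; exact c.grp.one_mem
      | succ i =>
        obtain ⟨j, g, hj, hg, he⟩ := treeOk_spec c.tree 1 htree i (by omega)
        rw [Nat.add_comm i 1, he, toPerm_compP (hgv g hg) (hval _ (hslot j (by omega)))]
        exact c.grp.mul_mem (Subgroup.subset_closure ⟨g, hg, rfl⟩) (ih j (by omega) (by omega))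
  obtain ⟨i, hi, rfl⟩ := List.mem_iff_getElem.1 hp
  have := slotsOk_spec _ _ hs i hi
  rw [Nat.zero_add] at this
  exact this ▸ key i hi

theorem SylCert.mem_grp_iff {c : SylCert} {inH : ℕ → Bool} (h : c.grpOk inH = true)
    {σ : Equiv.Perm GolayPt} : σ ∈ c.grp ↔ ∃ p ∈ c.elems, toPerm p = σ := by
  constructor
  · intro hσ
    have hslot := fun k hk => c.slot_mem h (k := k) hk
    have hval := fun q hq => (c.valid h (p := q) hq).1
    have hgv := fun g hg => (c.gens_valid h (g := g) hg).1
    simp only [SylCert.grpOk, Bool.and_eq_true, beq_iff_eq, List.all_eq_true, List.mem_range] at h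
    obtain ⟨⟨⟨⟨⟨⟨⟨⟨⟨-, -⟩, h0⟩, -⟩, hlen⟩, -⟩, -⟩, -⟩, -⟩, hrow⟩ := h
    let L : Set (Equiv.Perm GolayPt) := {τ | ∃ p ∈ c.elems, toPerm p = τ}
    have hone : (1 : Equiv.Perm GolayPt) ∈ L := ⟨_, hslot 0 (by omega), by rw [h0, toPerm_idP]⟩
    have hgen : c.grp ≤ MulAction.stabilizer (Equiv.Perm GolayPt) L := by
      rw [SylCert.grp, Subgroup.closure_le]
      rintro _ ⟨g, hg, rfl⟩
      rw [SetLike.mem_coe, MulAction.mem_stabilizer_iff]
      apply Set.eq_of_subset_of_ncard_le
      · rintro _ ⟨_, ⟨p, hp, rfl⟩, rfl⟩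
        obtain ⟨i, hi, rfl⟩ := List.mem_iff_getElem.1 hg
        have hr := hrow i hi
        rw [List.getD_eq_getElem _ _ hi] at hr
        obtain ⟨k, hk, he⟩ := rowOk_spec _ _ hr p hp
        exact ⟨_, hslot k hk, by rw [he, toPerm_compP (hgv _ hg) (hval p hp)]; rfl⟩
      · rw [← Set.image_smul, Set.ncard_image_of_injective _ (MulAction.injective (toPerm g))]
      · exact Set.toFinite _
    have := Set.smul_mem_smul_set (a := σ) hone
    rwa [MulAction.mem_stabilizer_iff.1 (hgen hσ), smul_eq_mul, mul_one] at this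
  · rintro ⟨p, hp, rfl⟩; exact c.elem_mem h hp

theorem SylCert.card_grp {c : SylCert} {inH : ℕ → Bool} (h : c.grpOk inH = true) :
    Nat.card c.grp = c.elems.length := by
  classical
  have he : (c.grp : Set (Equiv.Perm GolayPt)) = toPerm '' ↑c.elems.toFinset := by
    ext σ
    simp only [SetLike.mem_coe, c.mem_grp_iff h, Set.mem_image, List.coe_toFinset,
      Set.mem_ofPred_eq]
  show Nat.card (c.grp : Set (Equiv.Perm GolayPt)) = _
  rw [Nat.card_coe_set_eq, he, Set.InjOn.ncard_image, Set.ncard_coe_finset]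
  · have hslot := fun k hk => c.slot_mem h (k := k) hk
    simp only [SylCert.grpOk, Bool.and_eq_true, beq_iff_eq, List.all_eq_true, Nat.blt_eq] at h
    obtain ⟨⟨⟨⟨-, hl⟩, hk⟩, hsort⟩, -⟩ := h.1
    refine le_antisymm (List.toFinset_card_le _) ?_
    rw [← hl, ← List.length_map (f := getSlot 120 c.tab),
      ← List.toFinset_card_of_nodup ((sortedB_pairwise hsort).imp fun h => ne_of_lt h)]
    refine Finset.card_le_card fun a ha => ?_
    obtain ⟨k, hk', rfl⟩ := List.mem_map.1 (List.mem_toFinset.1 ha)
    exact List.mem_toFinset.2 (hslot k (hk k hk'))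
  · intro p hp q hq hpq
    simp only [List.coe_toFinset, Set.mem_ofPred_eq] at hp hq
    exact toPerm_inj (c.valid h hp).1 (c.valid h hq).1 (c.valid h hp).2 (c.valid h hq).2 hpq

theorem SylCert.grp_le {c : SylCert} {inH : ℕ → Bool} (h : c.grpOk inH = true)
    {H : Subgroup (Equiv.Perm GolayPt)} (hH : ∀ g, inH g = true → toPerm g ∈ H) : c.grp ≤ H := by
  rw [SylCert.grp, Subgroup.closure_le]
  rintro _ ⟨g, hg, rfl⟩
  exact hH g (c.gens_valid h hg).2

/-! ### Strongly closed subgroups -/

/-- Run the list of closure steps. -/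
def runOps (tab : ℕ) : List ℕ → List (ℕ × ℕ × ℕ × ℕ) → List ℕ
  | known, [] => known
  | known, (_, _, _, k) :: l => runOps tab (known ++ [getSlot 120 tab k]) l

/-- Soundness of the closure steps. -/
def opsOk (inH : ℕ → Bool) (tab n : ℕ) : List ℕ → List (ℕ × ℕ × ℕ × ℕ) → Bool
  | _, [] => true
  | known, (g, i, j, k) :: l =>
    Nat.blt i known.length && Nat.blt j known.length && Nat.blt k n && validP g && inH g &&
      (compP (getSlot 120 tab k) g == compP g (compP (known.getD i 0) (known.getD j 0))) &&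
      opsOk inH tab n (known ++ [getSlot 120 tab k]) l

/-- The centre has at most two elements and the steps reach all generators from it. -/
def SylCert.closedOk (c : SylCert) (inH : ℕ → Bool) : Bool :=
  c.elems.contains c.z &&
    c.elems.all (fun p => p == idP || p == c.z ||
      !(c.gens.all fun g => compP p g == compP g p)) &&
    opsOk inH c.tab c.elems.length [idP, c.z] c.ops &&
    c.gens.all fun g => (runOps c.tab [idP, c.z] c.ops).contains g

theorem SylCert.closed_eq {c : SylCert} {inH : ℕ → Bool} (hg : c.grpOk inH = true)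
    (hc : c.closedOk inH = true) (hp : IsPGroup 2 c.grp) {H : Subgroup (Equiv.Perm GolayPt)}
    (hH : ∀ g, inH g = true → toPerm g ∈ H) {T : Subgroup (Equiv.Perm GolayPt)} (hT : T ≤ c.grp)
    (hcl : ∀ g ∈ H, ∀ x ∈ T, g * x * g⁻¹ ∈ c.grp → g * x * g⁻¹ ∈ T) (hne : T ≠ ⊥) :
    T = c.grp := by
  simp only [SylCert.closedOk, Bool.and_eq_true, List.all_eq_true, Bool.or_eq_true, beq_iff_eq,
    Bool.not_eq_true', List.contains_iff_mem] at hc
  obtain ⟨⟨⟨hz, hcen⟩, hops⟩, hfin⟩ := hc
  have hPH : c.grp ≤ H := c.grp_le hg hH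
  have hzT : toPerm c.z ∈ T := by
    haveI : (T.subgroupOf c.grp).Normal := ⟨fun x hx g => hcl _ (hPH g.2) _ hx
      (c.grp.mul_mem (c.grp.mul_mem g.2 x.2) (c.grp.inv_mem g.2))⟩
    letI : MulAction c.grp (T.subgroupOf c.grp) := MulAction.compHom _ (MulAut.conjNormal (H := T.subgroupOf c.grp))
    have hTne : T.subgroupOf c.grp ≠ ⊥ := by
      rw [Ne, Subgroup.subgroupOf_eq_bot, disjoint_iff, inf_eq_left.2 hT]; exact hne
    have hdvd : 2 ∣ Nat.card (T.subgroupOf c.grp) := by
      obtain ⟨k, hk⟩ := IsPGroup.iff_card.1 (hp.to_subgroup (T.subgroupOf c.grp))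
      rw [hk]
      refine dvd_pow_self 2 fun hk0 => hTne ?_
      rw [hk0, pow_zero] at hk
      exact Subgroup.card_eq_one.1 hk
    obtain ⟨b, hb, hne'⟩ := hp.exists_fixed_point_of_prime_dvd_card_of_fixed_point
      (α := T.subgroupOf c.grp) hdvd (a := 1) (fun g => map_one (MulAut.conjNormal (H := T.subgroupOf c.grp) g))
    obtain ⟨p, hpe, hpb⟩ := (c.mem_grp_iff hg).1 (b : c.grp).2
    rcases hcen p hpe with (h1 | h1) | h1
    · exfalso
      apply hne'
      apply Subtype.ext; apply Subtype.ext
      rw [h1, toPerm_idP] at hpb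
      exact hpb
    · rw [h1] at hpb
      exact hpb ▸ b.2
    · exfalso
      rw [Bool.eq_false_iff] at h1
      apply h1
      rw [List.all_eq_true]
      intro g hgm
      rw [beq_iff_eq]
      have hgv := (c.gens_valid hg hgm).1
      obtain ⟨hpv, -⟩ := c.valid hg hpe
      have hgb := hb ⟨toPerm g, Subgroup.subset_closure ⟨g, hgm, rfl⟩⟩
      have hgb' : toPerm g * toPerm p * (toPerm g)⁻¹ = toPerm p := by
        rw [hpb]; exact congrArg (fun u : T.subgroupOf c.grp => ((u : c.grp) : Equiv.Perm GolayPt)) hgb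
      rw [mul_inv_eq_iff_eq_mul] at hgb'
      have h2 : toPerm (compP p g) = toPerm (compP g p) := by
        rw [toPerm_compP hgv hpv, toPerm_compP hpv hgv, hgb']
      have ha : ∀ i : Fin 24, app (compP p g) i = app (compP g p) i := fun i => by
        have e1 := idx_toPerm (validP_compP hpv hgv) (pt i)
        have e2 := idx_toPerm (validP_compP hgv hpv) (pt i)
        rw [idx_pt] at e1 e2
        rw [← e1, h2, e2]
      have key : ∀ n ≤ 24, compTo p g n = compTo g p n := by
        intro n
        induction n with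
        | zero => intro _; rfl
        | succ n ih =>
          intro hn
          have e := ha ⟨n, by omega⟩
          rw [app_compP p g (by simpa using Nat.lt_of_succ_le hn),
            app_compP g p (by simpa using Nat.lt_of_succ_le hn)] at e
          show Nat.lor (Nat.shiftLeft (app p (app g n)) (5 * n)) (compTo p g n) = _
          rw [e, ih (by omega)]
          rfl
      exact key 24 le_rfl
  have hrun : ∀ (ops : List (ℕ × ℕ × ℕ × ℕ)) (known : List ℕ),
      opsOk inH c.tab c.elems.length known ops = true →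
      (∀ u ∈ known, validP u = true ∧ toPerm u ∈ T) →
      ∀ u ∈ runOps c.tab known ops, toPerm u ∈ T := by
    intro ops
    induction ops with
    | nil => intro known _ h u hu; exact (h u hu).2
    | cons op l ih =>
      obtain ⟨g, i, j, k⟩ := op
      intro known hok h u hu
      simp only [opsOk, Bool.and_eq_true, Nat.blt_eq, beq_iff_eq] at hok
      obtain ⟨⟨⟨⟨⟨⟨hi, hj⟩, hk⟩, hgv⟩, hgH⟩, he⟩, hok'⟩ := hok
      refine ih _ hok' ?_ u hu
      intro v hv
      rw [List.mem_append, List.mem_singleton] at hv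
      rcases hv with hv | rfl
      · exact h v hv
      have hkm := c.slot_mem hg hk
      obtain ⟨hkv, -⟩ := c.valid hg hkm
      refine ⟨hkv, ?_⟩
      rw [List.getD_eq_getElem _ _ hi, List.getD_eq_getElem _ _ hj] at he
      obtain ⟨hiv, hiT⟩ := h _ (List.getElem_mem hi)
      obtain ⟨hjv, hjT⟩ := h _ (List.getElem_mem hj)
      have h2 : toPerm (getSlot 120 c.tab k) = toPerm g * (toPerm known[i] * toPerm known[j]) * (toPerm g)⁻¹ := by
        rw [eq_mul_inv_iff_mul_eq, ← toPerm_compP hkv hgv, he,
          toPerm_compP hgv (validP_compP hiv hjv), toPerm_compP hiv hjv]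
      rw [h2]
      exact hcl _ (hH g hgH) _ (T.mul_mem hiT hjT) (h2 ▸ c.elem_mem hg hkm)
  refine le_antisymm hT ?_
  rw [SylCert.grp, Subgroup.closure_le]
  rintro _ ⟨g, hgm, rfl⟩
  refine hrun c.ops [idP, c.z] hops ?_ g (hfin g hgm)
  intro u hu
  rcases List.mem_cons.1 hu with rfl | hu
  · exact ⟨idP_spec.1, toPerm_idP ▸ T.one_mem⟩
  · rw [List.mem_singleton] at hu
    subst hu
    exact ⟨(c.valid hg hz).1, hzT⟩

/-! ### The normaliser -/

/-- The listed elements fixing the listed positions. -/
def fixFilter (elems F : List ℕ) : List ℕ :=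
  elems.filter fun p => F.all fun f => app p f == f

/-- The orbit of a position under a list of permutations. -/
def orbMask (PF : List ℕ) (y : ℕ) : ℕ :=
  PF.foldr (fun p r => Nat.lor (Nat.shiftLeft 1 (app p y)) r) 0

/-- An invariant of a position under normalising elements fixing the earlier base. -/
def nzInv (PFs : List (List ℕ)) (sets : List ℕ) (y : ℕ) : List Bool × List ℕ :=
  (sets.map fun s => Nat.testBit s y, PFs.map fun PF => pop24 (orbMask PF y))

/-- Each level pins the image of its base position inside one orbit. -/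
def nzOk (elems : List ℕ) : List ℕ → List (List ℕ) → List ℕ → List (ℕ × List ℕ) → Bool
  | _, _, _, [] => true
  | F, Fs, sets, (b, ol) :: rest =>
    let Fs' := Fs ++ [F]
    let PFs := Fs'.map (fixFilter elems)
    let cur := orbMask (fixFilter elems F) b
    let sets' := sets ++ ol
    Nat.blt b 24 && F.all (fun f => Nat.blt f 24) &&
      ol.all (fun o => isOct o && Nat.ble 5 (pop24 (Nat.land o (prefMask F)))) &&
      (List.range 24).all (fun y => F.contains y || Nat.testBit cur y ||
        nzInv PFs sets' y != nzInv PFs sets' b) &&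
      !F.contains b &&
      nzOk elems (F ++ [b]) Fs' (sets' ++ PFs.map fun PF => orbMask PF b) rest

/-- `g` fixes the listed positions. -/
def FixesList (g : Equiv.Perm GolayPt) (F : List ℕ) : Prop :=
  ∀ x : GolayPt, (idx x : ℕ) ∈ F → g x = x

theorem testBit_prefMask (F : List ℕ) : ∀ a, (F.foldl (fun G b => Nat.lor G (Nat.shiftLeft 1 b)) a).testBit
    = fun i => a.testBit i || F.contains i := by
  induction F with
  | nil => intro a; funext i; simp
  | cons b F ih =>
    intro a
    funext i
    rw [List.foldl_cons, ih]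
    have e : Nat.lor a (Nat.shiftLeft 1 b) = a ||| (1 <<< b) := rfl
    simp only [e, Nat.testBit_or, Nat.one_shiftLeft, Nat.testBit_two_pow, List.contains_cons]
    cases a.testBit i <;> simp [beq_eq_decide, eq_comm]

theorem fixesMask_prefMask {g : Equiv.Perm GolayPt} {F : List ℕ} (h : FixesList g F) :
    FixesMask g (prefMask F) := by
  intro x hx
  rw [mem_setOf, prefMask, testBit_prefMask] at hx
  exact h x (by simpa using hx)

theorem testBit_orbMask (PF : List ℕ) (y j : ℕ) :
    (orbMask PF y).testBit j = true ↔ ∃ p ∈ PF, app p y = j := by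
  induction PF with
  | nil => simp [orbMask]
  | cons p PF ih =>
    have e : orbMask (p :: PF) y = (1 <<< app p y) ||| orbMask PF y := rfl
    rw [e, Nat.testBit_or, Bool.or_eq_true, ih, Nat.one_shiftLeft, Nat.testBit_two_pow,
      decide_eq_true_eq]
    simp

theorem SylCert.normalizer_eq {c : SylCert} {inH : ℕ → Bool} (hg : c.grpOk inH = true)
    {H : Subgroup (Equiv.Perm GolayPt)} (hH : ∀ g, inH g = true → toPerm g ∈ H) (hM : H ≤ M24) :
    ∀ (lv : List (ℕ × List ℕ)) (F : List ℕ) (Fs : List (List ℕ)) (sets : List ℕ),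
      nzOk c.elems F Fs sets lv = true →
      (∀ F' ∈ Fs, ∀ f ∈ F', f ∈ F) →
      (∀ g ∈ H, (∀ x, x ∈ c.grp ↔ g * x * g⁻¹ ∈ c.grp) → FixesList g F →
        ∀ s ∈ sets, g • setOf s = setOf s) →
      (∀ g ∈ H, FixesList g (F ++ lv.map Prod.fst) → g = 1) →
      ∀ g ∈ H, (∀ x, x ∈ c.grp ↔ g * x * g⁻¹ ∈ c.grp) → FixesList g F → g ∈ c.grp := by
  intro lv
  induction lv with
  | nil =>
    intro F Fs sets _ _ _ hfin g hgH _ hgF
    rw [hfin g hgH (by simpa using hgF)]
    exact c.grp.one_mem
  | cons q rest ih =>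
    obtain ⟨b, ol⟩ := q
    intro F Fs sets hok hsub hsets hfin g hgH hgN hgF
    simp only [nzOk, Bool.and_eq_true, Nat.blt_eq, List.all_eq_true, List.mem_range,
      Bool.or_eq_true, bne_iff_ne, Bool.not_eq_true', Nat.ble_eq] at hok
    obtain ⟨⟨⟨⟨⟨hb, hlt⟩, hol⟩, hinv⟩, hbF⟩, hrest⟩ := hok
    have hPH := c.grp_le hg hH
    have hsets' : ∀ k ∈ H, (∀ x, x ∈ c.grp ↔ k * x * k⁻¹ ∈ c.grp) → FixesList k F →
        ∀ s ∈ sets ++ ol, k • setOf s = setOf s := by
      intro k hkH hkN hkF s hs
      rcases List.mem_append.1 hs with hs | hs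
      · exact hsets k hkH hkN hkF s hs
      · exact octad_fixed_of_five (hM hkH) (fixesMask_prefMask hkF) (setOf_mem_octads (hol s hs).1)
          (by rw [← setOf_land, card_setOf]; exact (hol s hs).2)
    have hsub' : ∀ F' ∈ Fs ++ [F], ∀ f ∈ F', f ∈ F := by
      intro F' hF' f hf
      rcases List.mem_append.1 hF' with h | h
      · exact hsub F' h f hf
      · rw [List.mem_singleton] at h; exact h ▸ hf
    -- orbits are permuted
    have horb : ∀ k ∈ H, (∀ x, x ∈ c.grp ↔ k * x * k⁻¹ ∈ c.grp) → FixesList k F →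
        ∀ F' ∈ Fs ++ [F], ∀ x : GolayPt,
          k • setOf (orbMask (fixFilter c.elems F') (idx x)) =
            setOf (orbMask (fixFilter c.elems F') (idx (k x))) := by
      intro k _ hkN hkF F' hF' x
      ext y
      have hm : ∀ (u w : GolayPt), w ∈ setOf (orbMask (fixFilter c.elems F') (idx u)) ↔
          ∃ σ ∈ c.grp, FixesList σ F' ∧ σ u = w := by
        intro u w
        rw [mem_setOf, testBit_orbMask]
        constructor
        · rintro ⟨p, hp, he⟩
          simp only [fixFilter, List.mem_filter, List.all_eq_true, beq_iff_eq] at hp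
          have hv := (c.valid hg hp.1).1
          refine ⟨toPerm p, c.elem_mem hg hp.1, fun v hv' => ?_, ?_⟩
          · exact idx_inj.1 (Fin.ext (by rw [idx_toPerm hv, hp.2 _ hv']))
          · exact idx_inj.1 (Fin.ext (by rw [idx_toPerm hv, he]))
        · rintro ⟨σ, hσ, hσF, rfl⟩
          obtain ⟨p, hp, rfl⟩ := (c.mem_grp_iff hg).1 hσ
          have hv := (c.valid hg hp).1
          refine ⟨p, ?_, (idx_toPerm hv u).symm⟩
          simp only [fixFilter, List.mem_filter, List.all_eq_true, beq_iff_eq]
          refine ⟨hp, fun f hf => ?_⟩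
          have hf24 : f < 24 ∨ ¬ f < 24 := em _
          rcases hf24 with hf24 | hf24
          · have := hσF (pt ⟨f, hf24⟩) (by rw [idx_pt]; exact hf)
            have h1 := idx_toPerm hv (pt ⟨f, hf24⟩)
            rw [this, idx_pt] at h1
            exact h1.symm
          · exact absurd (hsub' F' hF' f hf) (fun hmem => hf24 (hlt f hmem))
      have hkF' : FixesList k F' := fun v hv => hkF v (hsub' F' hF' _ hv)
      have hkF'' : ∀ v, (idx v : ℕ) ∈ F' → k⁻¹ v = v := fun v hv => by
        conv_lhs => rw [← hkF' v hv]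
        exact k.symm_apply_apply v
      rw [Finset.mem_smul_finset]
      constructor
      · rintro ⟨w, hw, rfl⟩
        obtain ⟨σ, hσ, hσF, rfl⟩ := (hm x w).1 hw
        refine (hm _ _).2 ⟨k * σ * k⁻¹, (hkN σ).1 hσ, fun v hv => ?_, ?_⟩
        · rw [Equiv.Perm.mul_apply, Equiv.Perm.mul_apply, hkF'' v hv, hσF v hv, hkF' v hv]
        · simp [Equiv.Perm.mul_apply]
      · intro hy
        obtain ⟨σ, hσ, hσF, rfl⟩ := (hm _ _).1 hy
        refine ⟨k⁻¹ (σ (k x)), (hm x _).2 ⟨k⁻¹ * σ * k, (hkN _).2 ?_, fun v hv => ?_, rfl⟩,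
          by simp⟩
        · rw [show k * (k⁻¹ * σ * k) * k⁻¹ = σ by group]; exact hσ
        · rw [Equiv.Perm.mul_apply, Equiv.Perm.mul_apply, hkF' v hv, hσF v hv, hkF'' v hv]
    -- the image of the base position
    obtain ⟨x, hxb⟩ : ∃ x : GolayPt, (idx x : ℕ) = b := ⟨pt ⟨b, hb⟩, by simp⟩
    have hgb : (orbMask (fixFilter c.elems F) b).testBit (idx (g x)) = true := by
      rcases hinv _ (idx (g x)).isLt with (h | h) | h
      · exfalso
        have hmem : (idx (g x) : ℕ) ∈ F := by simpa using h
        have := g.injective (hgF _ hmem)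
        rw [this, hxb] at hmem
        rw [List.contains_eq_mem, decide_eq_false_iff_not] at hbF
        exact hbF hmem
      · exact h
      · exfalso
        apply h
        refine Prod.ext (List.map_congr_left fun s hs => ?_) ?_
        · rw [Bool.eq_iff_iff, ← hxb, ← mem_setOf, ← mem_setOf]
          conv_lhs => rw [← hsets' g hgH hgN hgF s hs]
          exact Finset.smul_mem_smul_finset_iff g
        · simp only [nzInv, List.map_map]
          refine List.map_congr_left fun F' hF' => ?_
          show pop24 (orbMask _ _) = pop24 (orbMask _ _)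
          rw [← card_setOf, ← card_setOf, ← hxb, ← horb g hgH hgN hgF F' hF' x,
            Finset.card_smul_finset]
    obtain ⟨p, hp, hpb⟩ := (testBit_orbMask _ _ _).1 hgb
    simp only [fixFilter, List.mem_filter, List.all_eq_true, beq_iff_eq] at hp
    have hv := (c.valid hg hp.1).1
    have hpP := c.elem_mem hg hp.1
    have hpF : ∀ v, (idx v : ℕ) ∈ F → toPerm p v = v := fun v hv' =>
      idx_inj.1 (Fin.ext (by rw [idx_toPerm hv, hp.2 _ hv']))
    have hpx : toPerm p x = g x := idx_inj.1 (Fin.ext (by rw [idx_toPerm hv, hxb, hpb]))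
    have hsets'' : ∀ k ∈ H, (∀ y, y ∈ c.grp ↔ k * y * k⁻¹ ∈ c.grp) → FixesList k (F ++ [b]) →
        ∀ s ∈ (sets ++ ol) ++ ((Fs ++ [F]).map (fixFilter c.elems)).map (fun PF => orbMask PF b),
          k • setOf s = setOf s := by
      intro k hkH hkN hkF s hs
      have hkF' : FixesList k F := fun v hv => hkF v (List.mem_append_left _ hv)
      rcases List.mem_append.1 hs with hs | hs
      · exact hsets' k hkH hkN hkF' s hs
      · rw [List.map_map, List.mem_map] at hs
        obtain ⟨F', hF', rfl⟩ := hs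
        have := horb k hkH hkN hkF' F' hF' x
        rwa [hkF x (List.mem_append_right _ (by simp [hxb])), hxb] at this
    have hrec := ih (F ++ [b]) (Fs ++ [F]) _ hrest
      (fun F' hF' f hf => List.mem_append_left _ (hsub' F' hF' f hf)) hsets''
      (fun k hk hkF => hfin k hk (by simpa using hkF)) ((toPerm p)⁻¹ * g)
      (H.mul_mem (H.inv_mem (hPH hpP)) hgH) (fun y => ?_) (fun v hv' => ?_)
    · have := c.grp.mul_mem hpP hrec
      rwa [mul_inv_cancel_left] at this
    · rw [hgN y, show (toPerm p)⁻¹ * g * y * ((toPerm p)⁻¹ * g)⁻¹ =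
        (toPerm p)⁻¹ * (g * y * g⁻¹) * toPerm p by group]
      exact ⟨fun h => c.grp.mul_mem (c.grp.mul_mem (c.grp.inv_mem hpP) h) hpP, fun h => by
        have := c.grp.mul_mem (c.grp.mul_mem hpP h) (c.grp.inv_mem hpP)
        simpa [mul_assoc] using this⟩
    · rw [Equiv.Perm.mul_apply]
      apply (toPerm p).injective
      rw [Equiv.Perm.coe_inv, Equiv.apply_symm_apply]
      rcases List.mem_append.1 hv' with h | h
      · rw [hgF v h, hpF v h]
      · rw [List.mem_singleton, ← hxb] at h
        rw [idx_inj.1 (Fin.ext h), hpx]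

end

end Cfsg.Agent.Golay24
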