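import Cfsg.Agent.Lib.Golay.Mathieu

/-!
Sharp 5-transitivity of the dodecad stabiliser.
-/

set_option autoImplicit false

namespace Cfsg.Agent.Golay24

open Cfsg
open scoped Pointwise

theorem M12_five_bijective (x : Fin 5 ↪ {p : GolayPt // p ∈ setOf sqDod}) :
    Function.Bijective fun g : Spor.M12 =>
      (⟨fun i => ⟨(g : Equiv.Perm GolayPt) (x i), m12_keeps g g.2 _ (x i).2⟩, fun i j h =>
        x.injective (Subtype.ext ((g : Equiv.Perm GolayPt).injective (congrArg Subtype.val h)))⟩ :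
          Fin 5 ↪ {p : GolayPt // p ∈ setOf sqDod}) := by
  refine Function.Surjective.bijective_of_nat_card_le ?_ ?_
  · intro y
    have h := m12Cert_ok
    simp only [Bool.and_eq_true, beq_iff_eq] at h
    obtain ⟨σ, hσ, -, hh⟩ := m12Cert.exists_map_one h.1.1.1.1 m12_grp.le m12Cert_cover (by rw [h.2])
      le_rfl (x.trans (Function.Embedding.subtype _)) (y.trans (Function.Embedding.subtype _))
      (fun i => (x i).2) (fun i => (y i).2)
    exact ⟨⟨σ, hσ⟩, DFunLike.ext _ _ fun i => Subtype.ext (hh i)⟩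
  · rw [card_M12, Nat.card_eq_fintype_card, Fintype.card_embedding_eq, Fintype.card_coe, card_setOf,
      Fintype.card_fin, show pop24 sqDod = 12 from by decide +kernel]
    decide

theorem M12_sharp {x y : Fin 5 ↪ GolayPt} (hx : ∀ i, x i ∈ setOf sqDod)
    (hy : ∀ i, y i ∈ setOf sqDod) :
    ∃! g : Spor.M12, ∀ i, (g : Equiv.Perm GolayPt) (x i) = y i := by
  have hb := M12_five_bijective (x.codRestrict {p | p ∈ setOf sqDod} hx)
  obtain ⟨g, hg⟩ := hb.surjective (y.codRestrict {p | p ∈ setOf sqDod} hy)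
  refine ⟨g, fun i => congrArg Subtype.val (DFunLike.congr_fun hg i), fun g' hg' => hb.injective ?_⟩
  refine Eq.trans ?_ hg.symm
  exact DFunLike.ext _ _ fun i => Subtype.ext (hg' i)

/-- An element of the dodecad stabiliser fixing five points of the dodecad is trivial. -/
theorem M12_eq_one_of_fix {g : Equiv.Perm GolayPt} (hg : g ∈ Spor.M12) {F : List ℕ}
    (hF : 5 ≤ ((setOf sqDod).filter fun x => (idx x : ℕ) ∈ F).card)
    (h : ∀ x : GolayPt, (idx x : ℕ) ∈ F → g x = x) : g = 1 := by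
  obtain ⟨s, hs, hsc⟩ := Finset.exists_subset_card_eq hF
  let x : Fin 5 ↪ GolayPt :=
    (s.equivFinOfCardEq hsc).symm.toEmbedding.trans (Function.Embedding.subtype _)
  have hx : ∀ i, x i ∈ setOf sqDod ∧ (idx (x i) : ℕ) ∈ F := fun i =>
    Finset.mem_filter.1 (hs (Subtype.prop _))
  obtain ⟨u, -, huniq⟩ := M12_sharp (x := x) (y := x) (fun i => (hx i).1) (fun i => (hx i).1)
  have h1 := huniq ⟨g, hg⟩ fun i => h _ (hx i).2
  have h2 := huniq 1 fun i => rfl
  exact congrArg Subtype.val (h1.trans h2.symm)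

end Cfsg.Agent.Golay24
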