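import Cfsg.Agent.Lib.Golay.SylowCert

/-!
From a certificate to every Sylow 2-subgroup: self-normalisation and a simple fusion system.
-/

set_option autoImplicit false

namespace Cfsg.Agent.Golay24

open Cfsg
open scoped Pointwise

/-- Everything the certificate needs about the group `H`. -/
structure SylHyp (c : SylCert) (H : Subgroup (Equiv.Perm GolayPt)) where
  inH : ℕ → Bool
  mem : ∀ g, inH g = true → toPerm g ∈ H
  le : H ≤ M24
  k : ℕ
  m : ℕ
  card : Nat.card H = 2 ^ k * m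
  odd : ¬ 2 ∣ m
  len : c.elems.length = 2 ^ k
  pos : k ≠ 0
  grp : c.grpOk inH = true
  closed : c.closedOk inH = true
  F₀ : List ℕ
  sets₀ : List ℕ
  fix₀ : ∀ g ∈ H, FixesList g F₀
  setsFix : ∀ g ∈ H, ∀ s ∈ sets₀, g • setOf s = setOf s
  nz : nzOk c.elems F₀ [] sets₀ c.levels = true
  fin : ∀ g ∈ H, FixesList g (F₀ ++ c.levels.map Prod.fst) → g = 1

variable {c : SylCert} {H : Subgroup (Equiv.Perm GolayPt)}

theorem SylHyp.card_sylow (h : SylHyp c H) (S : Sylow 2 H) :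
    Nat.card (S : Subgroup H) = 2 ^ h.k := by
  have hm0 : h.m ≠ 0 := fun e => h.odd (e ▸ dvd_zero 2)
  rw [S.card_eq_multiplicity, h.card, Nat.factorization_mul (by positivity) hm0,
    Finsupp.add_apply, Nat.factorization_eq_zero_of_not_dvd h.odd,
    Nat.prime_two.factorization_pow, Finsupp.single_eq_same, Nat.add_zero]

theorem SylHyp.isPGroup (h : SylHyp c H) : IsPGroup 2 c.grp :=
  IsPGroup.of_card (n := h.k) (by rw [c.card_grp h.grp, h.len])

/-- The certified subgroup as a Sylow subgroup. -/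
noncomputable def SylHyp.sylow (h : SylHyp c H) : Sylow 2 H :=
  Sylow.ofCard (c.grp.subgroupOf H) (by
    have hm0 : h.m ≠ 0 := fun e => h.odd (e ▸ dvd_zero 2)
    rw [Nat.card_congr (Subgroup.subgroupOfEquivOfLe (c.grp_le h.grp h.mem)).toEquiv,
      c.card_grp h.grp, h.len, h.card, Nat.factorization_mul (by positivity) hm0,
      Finsupp.add_apply, Nat.factorization_eq_zero_of_not_dvd h.odd,
      Nat.prime_two.factorization_pow, Finsupp.single_eq_same, Nat.add_zero])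

theorem SylHyp.mem_sylow (h : SylHyp c H) {x : H} :
    x ∈ (h.sylow : Subgroup H) ↔ (x : Equiv.Perm GolayPt) ∈ c.grp := Iff.rfl

theorem SylHyp.selfNormalizing (h : SylHyp c H) (S : Sylow 2 H) :
    Subgroup.normalizer ((S : Subgroup H) : Set H) = (S : Subgroup H) := by
  have h0 : Subgroup.normalizer ((h.sylow : Subgroup H) : Set H) = (h.sylow : Subgroup H) := by
    refine le_antisymm (fun g hg => ?_) Subgroup.le_normalizer
    rw [Subgroup.mem_normalizer_iff] at hg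
    rw [h.mem_sylow]
    refine c.normalizer_eq h.grp h.mem h.le c.levels h.F₀ [] h.sets₀ h.nz (by simp)
      (fun k hk _ _ => h.setsFix k hk) h.fin g g.2 (fun x => ?_) (h.fix₀ g g.2)
    constructor
    · intro hx
      exact (hg ⟨x, c.grp_le h.grp h.mem hx⟩).1 hx
    · intro hx
      have hxH : x ∈ H := by
        have := H.mul_mem (H.mul_mem (H.inv_mem g.2) (c.grp_le h.grp h.mem hx)) g.2
        simpa [mul_assoc] using this
      exact (hg ⟨x, hxH⟩).2 hx
  refine (Subgroup.eq_of_le_of_card_ge Subgroup.le_normalizer ?_).symm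
  have e1 := S.card_eq_index_normalizer
  have e2 : Nat.card (Sylow 2 H) = (h.sylow : Subgroup H).index :=
    h.sylow.card_eq_index_normalizer.trans (congrArg Subgroup.index h0)
  have e1 : Nat.card (Sylow 2 H) = (Subgroup.normalizer ((S : Subgroup H) : Set H)).index := e1
  have e3 := (Subgroup.normalizer ((S : Subgroup H) : Set H)).index_mul_card
  have e4 := (h.sylow : Subgroup H).index_mul_card
  rw [← e1] at e3
  rw [← e2] at e4
  rw [h.card_sylow S, ← h.card_sylow h.sylow]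
  exact le_of_eq (Nat.eq_of_mul_eq_mul_left Nat.card_pos (e3.trans e4.symm))

theorem SylHyp.closed_sylow (h : SylHyp c H) (S : Sylow 2 H) (T : Subgroup H)
    (hT : T ≤ (S : Subgroup H))
    (hcl : ∀ g : H, ∀ x ∈ T, g * x * g⁻¹ ∈ (S : Subgroup H) → g * x * g⁻¹ ∈ T) :
    T = ⊥ ∨ T = (S : Subgroup H) := by
  by_cases hT0 : T = ⊥
  · exact Or.inl hT0
  right
  obtain ⟨g₀, hg₀⟩ := MulAction.exists_smul_eq H S h.sylow
  have hS : ∀ x : H, x ∈ (S : Subgroup H) ↔ g₀ * x * g₀⁻¹ ∈ (h.sylow : Subgroup H) := by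
    intro x
    rw [← hg₀, Sylow.coe_subgroup_smul, Subgroup.mem_pointwise_smul_iff_inv_smul_mem]
    simp [MulAut.smul_def, mul_assoc]
  -- the conjugate of `T` seen inside the ambient group
  let T' : Subgroup (Equiv.Perm GolayPt) :=
    T.map (H.subtype.comp (MulAut.conj g₀).toMonoidHom)
  have hmem : ∀ y : H, (y : Equiv.Perm GolayPt) ∈ T' ↔ g₀⁻¹ * y * g₀ ∈ T := by
    intro y
    constructor
    · rintro ⟨x, hx, he⟩
      have : g₀ * x * g₀⁻¹ = y := Subtype.ext he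
      rw [← this]; simpa [mul_assoc] using hx
    · intro hy
      exact ⟨_, hy, congrArg Subtype.val (show g₀ * (g₀⁻¹ * y * g₀) * g₀⁻¹ = y by group)⟩
  have hT'le : T' ≤ c.grp := by
    rintro _ ⟨x, hx, rfl⟩
    exact h.mem_sylow.1 ((hS x).1 (hT hx))
  have hEq : T' = c.grp := by
    refine c.closed_eq h.grp h.closed h.isPGroup h.mem hT'le (fun g hg x hx hgx => ?_) ?_
    · obtain ⟨u, hu, rfl⟩ := hx
      refine (hmem (⟨g, hg⟩ * (g₀ * u * g₀⁻¹) * ⟨g, hg⟩⁻¹)).2 ?_
      have e : g₀⁻¹ * (⟨g, hg⟩ * (g₀ * u * g₀⁻¹) * ⟨g, hg⟩⁻¹) * g₀ =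
          (g₀⁻¹ * ⟨g, hg⟩ * g₀) * u * (g₀⁻¹ * ⟨g, hg⟩ * g₀)⁻¹ := by group
      rw [e]
      refine hcl _ u hu ?_
      rw [hS, ← e, h.mem_sylow]
      rw [show g₀ * (g₀⁻¹ * (⟨g, hg⟩ * (g₀ * u * g₀⁻¹) * ⟨g, hg⟩⁻¹) * g₀) * g₀⁻¹ =
        ⟨g, hg⟩ * (g₀ * u * g₀⁻¹) * ⟨g, hg⟩⁻¹ by group]
      exact hgx
    · intro hbot
      apply hT0
      rw [Subgroup.eq_bot_iff_forall]
      intro x hx
      have : ((g₀ * x * g₀⁻¹ : H) : Equiv.Perm GolayPt) ∈ T' := ⟨x, hx, rfl⟩
      rw [hbot, Subgroup.mem_bot] at this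
      have h1 : g₀ * x * g₀⁻¹ = 1 := Subtype.ext this
      rwa [conj_eq_one_iff] at h1
  refine le_antisymm hT fun x hx => ?_
  have h1 : ((g₀ * x * g₀⁻¹ : H) : Equiv.Perm GolayPt) ∈ T' :=
    hEq ▸ h.mem_sylow.1 ((hS x).1 hx)
  rw [hmem] at h1
  rwa [show g₀⁻¹ * (g₀ * x * g₀⁻¹) * g₀ = x by group] at h1

theorem SylHyp.fusion_simple (h : SylHyp c H) (S : Sylow 2 H) :
    (groupFusionSystem (S : Subgroup H)).IsSimple 2 := by
  refine isSimple_gfs_of_selfNormalizing S ?_ (h.selfNormalizing S) (h.closed_sylow S)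
  intro hb
  have := h.card_sylow S
  rw [hb, Subgroup.card_bot] at this
  exact absurd this.symm (Nat.one_lt_two_pow h.pos).ne'

end Cfsg.Agent.Golay24
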