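import Cfsg.Agent.Lib.Golay.SylowM11Data
import Cfsg.Agent.Lib.Golay.SylowCrit
import Cfsg.Agent.Lib.Golay.Sharp

/-!
A Sylow 2-subgroup of M11: self-normalising, simple fusion system.
-/

set_option autoImplicit false

namespace Cfsg.Agent.Golay24

noncomputable section

open Cfsg
open scoped Pointwise

/-- The hypotheses of the certificate for M11. -/
def m11SylHyp : SylHyp m11Syl Spor.M11 where
  inH g := inM24 g && img g sqDod == sqDod && app g 0 == 0
  mem g hg := by
    simp only [Bool.and_eq_true, beq_iff_eq] at hg
    refine ⟨⟨toPerm_mem_M24 hg.1.1, ?_⟩,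
      toPerm_mem_stabilizer (b := 0) (by norm_num) (valid_of_inM24 hg.1.1) hg.2⟩
    show toPerm g • Spor.squareDodecad = Spor.squareDodecad
    rw [← setOf_sqDod, smul_setOf (valid_of_inM24 hg.1.1), hg.1.2]
  le := inf_le_left.trans inf_le_left
  k := 4
  m := 495
  card := by rw [card_M11]; norm_num
  odd := by decide
  len := by decide +kernel
  pos := by decide
  grp := by decide +kernel
  closed := by decide +kernel
  F₀ := [0]
  sets₀ := [340831]
  fix₀ g hg x hx := by
    rw [List.mem_singleton] at hx
    rw [idx_inj.1 (Fin.ext (hx.trans (by decide : 0 = ((idx (some 0) : Fin 24) : ℕ))))]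
    exact hg.2
  setsFix g hg s hs := by
    rw [List.mem_singleton] at hs
    subst hs
    show g • setOf sqDod = setOf sqDod
    rw [setOf_sqDod]; exact hg.1.2
  nz := by decide +kernel
  fin g hg hF := M12_eq_one_of_fix hg.1 (F := [0] ++ m11Syl.levels.map Prod.fst)
    (by decide +kernel) hF

end

end Cfsg.Agent.Golay24
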