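import Cfsg.Agent.Lib.Golay.Config

/-!
Standard normalisations of octads, dodecads, points and small subsets.
-/

set_option autoImplicit false

namespace Cfsg.Agent.Golay24

noncomputable section

open Cfsg
open scoped Pointwise

theorem setOf_p : setOf 8388608 = {none} := by decide +kernel

theorem setOf_q : setOf 1 = {some 0} := by decide +kernel

theorem smul_single (σ : Equiv.Perm GolayPt) (x : GolayPt) :
    σ • ({x} : Finset GolayPt) = {σ x} := by simp

theorem apply_eq_of_smul_single {σ : Equiv.Perm GolayPt} {x y : GolayPt}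
    (h : σ • ({x} : Finset GolayPt) = {y}) : σ x = y := by
  rw [smul_single] at h
  exact Finset.singleton_injective h

theorem carries_octad {o : Finset GolayPt} (ho : o ∈ octads) :
    ∃ σ, Carries σ [m24Octad] [o] := by
  have h0 : setOf m24Octad ∈ octads := setOf_mem_octads (by decide +kernel)
  obtain ⟨σ, hσ, h⟩ := exists_octad_map h0 ho
  exact ⟨σ, hσ, by simp [h]⟩

theorem carries_dodecad {d : Finset GolayPt} (hd : d ∈ dodecads) :
    ∃ σ, Carries σ [sqDod] [d] := by
  obtain ⟨σ, hσ, h⟩ := exists_sqDod_map hd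
  exact ⟨σ, hσ, by simp [h]⟩

theorem carries_point (x : GolayPt) : ∃ σ, Carries σ [8388608] [{x}] := by
  obtain ⟨σ, hσ, h⟩ := exists_map_le_five (n := 1) (by norm_num)
    ⟨fun _ => none, fun a b _ => Subsingleton.elim a b⟩
    ⟨fun _ => x, fun a b _ => Subsingleton.elim a b⟩
  refine ⟨σ, hσ, ?_⟩
  have : σ none = x := h 0
  simp [setOf_p, smul_single, this]

theorem carries_two_points {p q : GolayPt} (hpq : p ≠ q) :
    ∃ σ, Carries σ [8388608, 1] [{p}, {q}] := by
  obtain ⟨g, hga, hgb⟩ := M24_twoTrans.pairs none (Set.mem_univ _) (some 0) (Set.mem_univ _) p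
    (Set.mem_univ _) q (Set.mem_univ _) (by simp) hpq
  refine ⟨g, g.2, ?_⟩
  have h1 : (g : Equiv.Perm GolayPt) none = p := hga
  have h2 : (g : Equiv.Perm GolayPt) (some 0) = q := hgb
  simp [setOf_p, setOf_q, smul_single, h1, h2]

/-- The standard triple. -/
theorem carries_triple {t : Finset GolayPt} (ht : t.card = 3) :
    ∃ σ, Carries σ [8388611] [t] := by
  obtain ⟨a, b, c, hab, hac, hbc, rfl⟩ := Finset.card_eq_three.1 ht
  obtain ⟨σ, hσ, h⟩ := exists_map_le_five (n := 3) (by norm_num)
    ⟨![none, some 0, some 1], by decide +kernel⟩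
    ⟨![a, b, c], List.nodup_ofFn.1 (by simp [hab, hac, hbc])⟩
  refine ⟨σ, hσ, ?_⟩
  have e : setOf 8388611 = {none, some 0, some 1} := by decide +kernel
  have h0 : σ none = a := h 0
  have h1 : σ (some 0) = b := h 1
  have h2 : σ (some 1) = c := h 2
  simp [e, Finset.smul_finset_insert, h0, h1, h2]

theorem card_octad_inter_cases {o o' : Finset GolayPt} (ho : o ∈ octads) (ho' : o' ∈ octads) :
    (o ∩ o').card = 0 ∨ (o ∩ o').card = 2 ∨ (o ∩ o').card = 4 ∨ o = o' := by
  by_cases h5 : 5 ≤ (o ∩ o').card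
  · exact Or.inr (Or.inr (Or.inr (octad_unique ho ho' h5)))
  have hc := card_supports_cases (symmDiff_mem_supports ho.1 ho'.1)
  have he := card_symmDiff_add o o'
  have := ho.2
  have := ho'.2
  omega

theorem card_octad_inter_dodecad {o d : Finset GolayPt} (ho : o ∈ octads) (hd : d ∈ dodecads) :
    (o ∩ d).card = 2 ∨ (o ∩ d).card = 4 ∨ (o ∩ d).card = 6 := by
  have hc := card_supports_cases (symmDiff_mem_supports ho.1 hd.1)
  have he := card_symmDiff_add o d
  have hle : (o ∩ d).card ≤ o.card := Finset.card_le_card Finset.inter_subset_left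
  have := ho.2
  have := hd.2
  omega

theorem card_dodecad_inter_cases {d d' : Finset GolayPt} (hd : d ∈ dodecads)
    (hd' : d' ∈ dodecads) :
    (d ∩ d').card = 0 ∨ (d ∩ d').card = 4 ∨ (d ∩ d').card = 6 ∨ (d ∩ d').card = 8 ∨ d = d' := by
  have hc := card_supports_cases (symmDiff_mem_supports hd.1 hd'.1)
  have he := card_symmDiff_add d d'
  have := hd.2
  have := hd'.2
  have hle : (d ∩ d').card ≤ d.card := Finset.card_le_card Finset.inter_subset_left
  by_cases h0 : (symmDiff d d').card = 0
  · exact Or.inr (Or.inr (Or.inr (Or.inr (symmDiff_eq_bot.1 (Finset.card_eq_zero.1 h0)))))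
  · omega

/-- Two members of a family over the same normalised configuration are exchanged by an element
fixing that configuration. -/
theorem StepCert.exists_map {c : StepCert} {R fam : List ℕ} (h : c.ok R fam = true)
    {σ : Equiv.Perm GolayPt} {ss : List (Finset GolayPt)} (hσ : Carries σ R ss)
    {x y : Finset GolayPt} (hx : maskOf (σ⁻¹ • x) ∈ fam) (hy : maskOf (σ⁻¹ • y) ∈ fam) :
    ∃ g ∈ M24, (∀ t ∈ ss, g • t = t) ∧ g • x = y := by
  obtain ⟨τ, hτ, hτe⟩ := c.reach h hx
  obtain ⟨ρ, hρ, hρe⟩ := c.reach h hy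
  refine ⟨σ * (ρ * τ⁻¹) * σ⁻¹, M24.mul_mem (M24.mul_mem hσ.1 (M24.mul_mem hρ.1 (M24.inv_mem hτ.1)))
    (M24.inv_mem hσ.1), ?_, ?_⟩
  · intro t ht
    rw [← hσ.2] at ht
    obtain ⟨m, hm, rfl⟩ := List.mem_map.1 ht
    rw [mul_smul, inv_smul_smul, mul_smul]
    exact congrArg (σ • ·) (((fixSets R).mul_mem hρ ((fixSets R).inv_mem hτ)).2 m hm)
  · rw [mul_smul, mul_smul, mul_smul]
    rw [setOf_maskOf] at hτe hρe
    rw [inv_smul_eq_iff.2 hτe.symm, hρe, smul_inv_smul]

/-- Membership of a pulled back set in a cut list, read on the configuration. -/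
theorem mem_cutList_carries {σ : Equiv.Perm GolayPt} {R : List ℕ} {ss : List (Finset GolayPt)}
    (hσ : Carries σ R ss) {base ks : List ℕ} (hlen : ks.length = R.length) {x : Finset GolayPt} :
    maskOf (σ⁻¹ • x) ∈ cutList base (R.zip ks) ↔
      maskOf (σ⁻¹ • x) ∈ base ∧ ss.map (fun t => (t ∩ x).card) = ks := by
  rw [mem_cutList_iff, ← hσ.2, List.map_map]
  refine and_congr Iff.rfl ?_
  clear hσ
  induction R generalizing ks with
  | nil => simp [List.length_eq_zero_iff.1 hlen]
  | cons m R ih =>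
    cases ks with
    | nil => simp at hlen
    | cons k ks =>
      have := ih (ks := ks) (by simpa using hlen)
      simp only [List.zip_cons_cons, List.forall_mem_cons, List.map_cons, List.cons.injEq,
        Function.comp_apply, this]

theorem single_inter_card {x : GolayPt} {s : Finset GolayPt} :
    (({x} : Finset GolayPt) ∩ s).card = if x ∈ s then 1 else 0 := by
  by_cases h : x ∈ s <;> simp [h]

theorem inv_smul_mem_combList_iff {σ : Equiv.Perm GolayPt} {k : ℕ} {s : Finset GolayPt} :
    maskOf (σ⁻¹ • s) ∈ combList k ↔ s.card = k := by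
  rw [mem_combList_iff, Finset.card_smul_finset]

end

end Cfsg.Agent.Golay24
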