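import Cfsg.Agent.Lib.Golay.OctadData
import Cfsg.Agent.Lib.Golay.Carry

/-!
The stabiliser of an octad: an elementary abelian kernel of order 16, regular on the outside,
and the alternating group induced on the octad.
-/

set_option autoImplicit false

namespace Cfsg.Agent.Golay24

noncomputable section

open Cfsg
open scoped Pointwise

attribute [local irreducible] weightList codeList combTo

/-- The pointwise stabiliser of a set inside the group of the code. -/
abbrev octFix (o : Finset GolayPt) : Subgroup (Equiv.Perm GolayPt) :=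
  M24 ⊓ fixingSubgroup (Equiv.Perm GolayPt) (o : Set GolayPt)

/-- The setwise stabiliser of a set inside the group of the code. -/
abbrev octStab (o : Finset GolayPt) : Subgroup (Equiv.Perm GolayPt) :=
  M24 ⊓ MulAction.stabilizer (Equiv.Perm GolayPt) o

theorem mem_octFix {o : Finset GolayPt} {g : Equiv.Perm GolayPt} :
    g ∈ octFix o ↔ g ∈ M24 ∧ ∀ x ∈ o, g x = x :=
  and_congr Iff.rfl (mem_fixingSubgroup_iff _)

theorem octKer_ok : ((octKer.all fun g => inM24 g && isIdP (compP g g) &&
      ((List.range 24).all fun i => !Nat.testBit m24Octad i || app g i == i)) &&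
    ((List.range 24).all fun i => Nat.testBit m24Octad i ||
      (octKer.map fun g => app g octOutPos).contains i) &&
    (octKer.length == 16) && Nat.blt octOutPos 24 && !Nat.testBit m24Octad octOutPos &&
    stagesOk (Nat.lor m24Octad (Nat.shiftLeft 1 octOutPos)) octStages &&
    (pop24 m24Octad == 8)) = true := by decide +kernel

/-- The standard kernel: at most one element sends the outside position to a given one, and one
exists for each position outside the octad. -/
theorem octFix_std :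
    (∀ x, x ∉ setOf m24Octad → ∃ g ∈ octFix (setOf m24Octad),
      g * g = 1 ∧ g (pt ⟨octOutPos % 24, Nat.mod_lt _ (by norm_num)⟩) = x) ∧
    ∀ g ∈ octFix (setOf m24Octad),
      g (pt ⟨octOutPos % 24, Nat.mod_lt _ (by norm_num)⟩) =
        pt ⟨octOutPos % 24, Nat.mod_lt _ (by norm_num)⟩ → g = 1 := by
  have h := octKer_ok
  simp only [Bool.and_eq_true, List.all_eq_true, List.mem_range, beq_iff_eq, Bool.or_eq_true,
    Bool.not_eq_true', List.contains_iff_mem, Nat.blt_eq] at h
  obtain ⟨⟨⟨⟨⟨⟨hker, hcov⟩, -⟩, hq⟩, hqO⟩, hst⟩, -⟩ := h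
  constructor
  · intro x hx
    rcases hcov (idx x) (idx x).isLt with hb | hb
    · exact absurd (mem_setOf.2 hb) hx
    obtain ⟨g, hg, he⟩ := List.mem_map.1 hb
    obtain ⟨⟨hgM, hsq⟩, hfix⟩ := hker g hg
    have hv := valid_of_inM24 hgM
    refine ⟨toPerm g, mem_octFix.2 ⟨toPerm_mem_M24 hgM, fun y hy => ?_⟩, ?_, ?_⟩
    · rcases hfix (idx y) (idx y).isLt with hb' | hb'
      · rw [mem_setOf, hb'] at hy; exact absurd hy (by simp)
      · exact idx_inj.1 (Fin.ext (by rw [idx_toPerm hv, hb']))
    · rw [← toPerm_compP hv hv]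
      exact toPerm_eq_one_of_isIdP (validP_compP hv hv) hsq
    · refine idx_inj.1 (Fin.ext ?_)
      rw [idx_toPerm hv, idx_pt]
      simpa [Nat.mod_eq_of_lt hq] using he
  · intro g hg hgq
    obtain ⟨hgM, hgf⟩ := mem_octFix.1 hg
    refine eq_one_of_stages hgM _ _ hst fun y hy => ?_
    have e : setOf (Nat.lor m24Octad (Nat.shiftLeft 1 octOutPos)) =
      setOf m24Octad ∪ setOf (1 <<< octOutPos) := setOf_lor _ _
    rw [e, Finset.mem_union] at hy
    rcases hy with hy | hy
    · exact hgf y hy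
    · rw [mem_setOf, Nat.one_shiftLeft, Nat.testBit_two_pow, decide_eq_true_eq] at hy
      have : y = pt ⟨octOutPos % 24, Nat.mod_lt _ (by norm_num)⟩ := by
        rw [← pt_idx y]
        exact congrArg pt (Fin.ext (by rw [← hy]; exact (Nat.mod_eq_of_lt hq).symm))
      rw [this]; exact hgq

/-- The kernel of any octad: squares vanish and it is regular on the outside. -/
theorem octFix_spec {o : Finset GolayPt} (ho : o ∈ octads) :
    (∀ g ∈ octFix o, g * g = 1) ∧
      (∀ x ∉ o, ∀ y ∉ o, ∃ g ∈ octFix o, g x = y) ∧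
      ∀ g ∈ octFix o, ∀ x ∉ o, g x = x → g = 1 := by
  obtain ⟨σ, hσM, hσ⟩ := carries_octad ho
  have hs : σ • setOf m24Octad = o := by simpa using hσ
  obtain ⟨hex, huniq⟩ := octFix_std
  set q : GolayPt := pt ⟨octOutPos % 24, Nat.mod_lt _ (by norm_num)⟩
  have hin : ∀ x, x ∈ o ↔ σ⁻¹ x ∈ setOf m24Octad := fun x => by
    rw [← hs, ← Finset.inv_smul_mem_iff]; rfl
  have hconj : ∀ g, g ∈ octFix o ↔ σ⁻¹ * g * σ ∈ octFix (setOf m24Octad) := by
    intro g
    rw [mem_octFix, mem_octFix]
    constructor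
    · rintro ⟨hg, hgf⟩
      refine ⟨M24.mul_mem (M24.mul_mem (M24.inv_mem hσM) hg) hσM, fun x hx => ?_⟩
      have := hgf (σ x) ((hin _).2 (by simpa using hx))
      simp [this]
    · rintro ⟨hg, hgf⟩
      refine ⟨?_, fun x hx => ?_⟩
      · have := M24.mul_mem (M24.mul_mem hσM hg) (M24.inv_mem hσM)
        simpa [mul_assoc] using this
      · have := hgf _ ((hin x).1 hx)
        simpa using congrArg σ this
  -- every element is the listed one with the same image of `q`
  have hsq : ∀ k ∈ octFix (setOf m24Octad), k * k = 1 := by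
    intro k hk
    have hkq : k q ∉ setOf m24Octad := by
      intro hm
      have h1 : k (k q) = k q := (mem_octFix.1 hk).2 _ hm
      have h2 := k.injective h1
      rw [h2] at hm
      have h := octKer_ok
      simp only [Bool.and_eq_true, Bool.not_eq_true', Nat.blt_eq] at h
      rw [mem_setOf, idx_pt] at hm
      simp only [Nat.mod_eq_of_lt h.1.1.1.2] at hm
      rw [h.1.1.2] at hm
      exact Bool.false_ne_true hm
    obtain ⟨k', hk', hsq', he⟩ := hex _ hkq
    have := huniq (k'⁻¹ * k) ((octFix _).mul_mem ((octFix _).inv_mem hk') hk)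
      (by rw [Equiv.Perm.mul_apply, ← he]; simp)
    rw [inv_mul_eq_one] at this
    rw [← this]; exact hsq'
  have htrans : ∀ x ∉ o, ∃ g ∈ octFix o, g (σ q) = x := by
    intro x hx
    obtain ⟨k, hk, -, he⟩ := hex (σ⁻¹ x) (fun h => hx ((hin x).2 h))
    exact ⟨σ * k * σ⁻¹, (hconj _).2 (by simpa [mul_assoc] using hk), by simp [he]⟩
  refine ⟨fun g hg => ?_, fun x hx y hy => ?_, fun g hg x hx hgx => ?_⟩
  · have := hsq _ ((hconj g).1 hg)
    calc g * g = σ * ((σ⁻¹ * g * σ) * (σ⁻¹ * g * σ)) * σ⁻¹ := by group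
      _ = 1 := by rw [this]; group
  · obtain ⟨g₁, hg₁, h1⟩ := htrans x hx
    obtain ⟨g₂, hg₂, h2⟩ := htrans y hy
    exact ⟨g₂ * g₁⁻¹, (octFix o).mul_mem hg₂ ((octFix o).inv_mem hg₁), by
      rw [Equiv.Perm.mul_apply, ← h1]; simpa using h2⟩
  · obtain ⟨g₁, hg₁, h1⟩ := htrans x hx
    have hk : g₁⁻¹ * g * g₁ ∈ octFix o :=
      (octFix o).mul_mem ((octFix o).mul_mem ((octFix o).inv_mem hg₁) hg) hg₁
    have := huniq _ ((hconj _).1 hk) (by
      simp only [Equiv.Perm.mul_apply, h1, hgx]
      rw [← h1]; simp)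
    calc g = g₁ * σ * (σ⁻¹ * (g₁⁻¹ * g * g₁) * σ) * (g₁ * σ)⁻¹ := by group
      _ = 1 := by rw [this]; group

theorem card_octFix {o : Finset GolayPt} (ho : o ∈ octads) : Nat.card (octFix o) = 16 := by
  obtain ⟨-, htr, hfree⟩ := octFix_spec ho
  have hc : oᶜ.card = 16 := by rw [Finset.card_compl, ho.2]; simp
  obtain ⟨x, hx⟩ := Finset.card_pos.1 (by omega : 0 < oᶜ.card)
  rw [Finset.mem_compl] at hx
  have hmaps : ∀ g : octFix o, (g : Equiv.Perm GolayPt) x ∈ oᶜ := fun g => by
    rw [Finset.mem_compl]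
    intro hm
    have := (mem_octFix.1 g.2).2 _ hm
    exact hx ((g : Equiv.Perm GolayPt).injective this ▸ hm)
  have hb : Function.Bijective fun g : octFix o => (⟨(g : Equiv.Perm GolayPt) x, hmaps g⟩ : ↥oᶜ) := by
    constructor
    · intro a b h
      have h' : (a : Equiv.Perm GolayPt) x = (b : Equiv.Perm GolayPt) x := congrArg Subtype.val h
      have := hfree _ ((octFix o).mul_mem ((octFix o).inv_mem b.2) a.2) x hx (by simp [h'])
      rw [inv_mul_eq_one] at this
      exact Subtype.ext this.symm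
    · rintro ⟨y, hy⟩
      obtain ⟨g, hg, he⟩ := htr x hx y (Finset.mem_compl.1 hy)
      exact ⟨⟨g, hg⟩, Subtype.ext he⟩
  rw [Nat.card_congr (Equiv.ofBijective _ hb), Nat.card_eq_fintype_card, Fintype.card_coe, hc]

theorem card_octStab {o : Finset GolayPt} (ho : o ∈ octads) : Nat.card (octStab o) = 322560 := by
  refine card_inf_stabilizer (S := octads) M24 o (n := 759) ho (fun g hg y hy => smul_mem_octads hg hy)
    (fun y hy => ?_) octads_ncard (by rw [card_M24]) (by norm_num)
  obtain ⟨σ, hσ, h⟩ := exists_octad_map ho hy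
  exact ⟨σ, hσ, h⟩

theorem octStab_iff {o : Finset GolayPt} {g : Equiv.Perm GolayPt} (hg : g ∈ octStab o) (x : GolayPt) :
    g x ∈ o ↔ x ∈ o := by
  have h : g • o = o := hg.2
  constructor
  · intro hx
    rw [← h, ← Equiv.Perm.smul_def, Finset.smul_mem_smul_finset_iff] at hx
    exact hx
  · intro hx
    rw [← h, ← Equiv.Perm.smul_def, Finset.smul_mem_smul_finset_iff]
    exact hx

/-- The action on the octad. -/
def octRes (o : Finset GolayPt) : octStab o →* Equiv.Perm ↥o where
  toFun g := (g : Equiv.Perm GolayPt).subtypePerm (octStab_iff g.2)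
  map_one' := by ext; rfl
  map_mul' a b := by ext; rfl

theorem octRes_ker_iff {o : Finset GolayPt} (g : octStab o) :
    g ∈ (octRes o).ker ↔ (g : Equiv.Perm GolayPt) ∈ octFix o := by
  rw [MonoidHom.mem_ker, mem_octFix]
  constructor
  · intro h
    refine ⟨g.2.1, fun x hx => ?_⟩
    exact congrArg Subtype.val (Equiv.ext_iff.1 h ⟨x, hx⟩)
  · rintro ⟨-, h⟩
    exact Equiv.ext fun x => Subtype.ext (h x x.2)

theorem card_octRes_range {o : Finset GolayPt} (ho : o ∈ octads) :
    Nat.card (octRes o).range = 20160 := by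
  have hle : octFix o ≤ octStab o := fun g hg => ⟨(mem_octFix.1 hg).1, by
    refine Finset.eq_of_subset_of_card_le (fun y hy => ?_) (le_of_eq (Finset.card_smul_finset g o).symm)
    obtain ⟨z, hz, rfl⟩ := Finset.mem_smul_finset.1 hy
    rwa [Equiv.Perm.smul_def, (mem_octFix.1 hg).2 z hz]⟩
  have hk : Nat.card (octRes o).ker = 16 := by
    have e : (octRes o).ker = (octFix o).subgroupOf (octStab o) := Subgroup.ext fun g => octRes_ker_iff g
    rw [e, Nat.card_congr (Subgroup.subgroupOfEquivOfLe hle).toEquiv, card_octFix ho]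
  have h1 := (octRes o).ker.card_mul_index
  rw [hk, Subgroup.index_ker, card_octStab ho] at h1
  omega

theorem octRes_range {o : Finset GolayPt} (ho : o ∈ octads) :
    (octRes o).range = alternatingGroup ↥o := by
  apply Equiv.Perm.eq_alternatingGroup_of_index_eq_two
  have h1 := (octRes o).range.card_mul_index
  rw [card_octRes_range ho, Nat.card_perm, Nat.card_eq_fintype_card, Fintype.card_coe, ho.2] at h1
  norm_num [Nat.factorial] at h1
  omega

theorem mem_octRes_range_iff {o : Finset GolayPt} {e : Equiv.Perm ↥o} :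
    e ∈ (octRes o).range ↔ ∃ g : Equiv.Perm GolayPt, g ∈ M24 ∧
      ∃ h : (∀ x, g x ∈ o ↔ x ∈ o), g.subtypePerm h = e := by
  constructor
  · rintro ⟨g, rfl⟩
    exact ⟨g, g.2.1, octStab_iff g.2, rfl⟩
  · rintro ⟨g, hg, h, rfl⟩
    refine ⟨⟨g, hg, Finset.eq_of_subset_of_card_le (fun y hy => ?_)
      (le_of_eq (Finset.card_smul_finset g o).symm)⟩, rfl⟩
    obtain ⟨z, hz, rfl⟩ := Finset.mem_smul_finset.1 hy
    exact (h z).2 hz

end

end Cfsg.Agent.Golay24
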