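import Cfsg.Agent.Lib.Golay.M24Data

/-!
Octads: uniqueness through five points, rigidity of automorphisms fixing enough points,
and decomposition of an automorphism along a transversal chain.
-/

set_option autoImplicit false

namespace Cfsg.Agent.Golay24

noncomputable section

open Cfsg
open scoped Pointwise

theorem symmDiff_mem_supports {s t : Finset GolayPt}
    (hs : s ∈ supports (golayCode : Set (GolayPt → ZMod 2)))
    (ht : t ∈ supports (golayCode : Set (GolayPt → ZMod 2))) :
    symmDiff s t ∈ supports (golayCode : Set (GolayPt → ZMod 2)) := by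
  obtain ⟨v, hv, rfl⟩ := hs
  obtain ⟨w, hw, rfl⟩ := ht
  refine ⟨v + w, Submodule.add_mem _ hv hw, ?_⟩
  ext x
  simp only [support₂, Finset.mem_symmDiff, Finset.mem_filter, Finset.mem_univ, true_and,
    Pi.add_apply]
  rcases zmod2_cases (v x) with h1 | h1 <;> rcases zmod2_cases (w x) with h2 | h2 <;>
    simp [h1, h2] <;> decide

theorem card_supports_cases {s : Finset GolayPt}
    (hs : s ∈ supports (golayCode : Set (GolayPt → ZMod 2))) :
    s.card = 0 ∨ s.card = 8 ∨ s.card = 12 ∨ s.card = 16 ∨ s.card = 24 := by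
  rw [card_eq_pop24]
  exact weight_cases (mem_supports_iff.1 hs)

theorem card_symmDiff_add (s t : Finset GolayPt) :
    (symmDiff s t).card + 2 * (s ∩ t).card = s.card + t.card := by
  have h1 := Finset.card_sdiff_add_card_inter s t
  have h2 := Finset.card_sdiff_add_card_inter t s
  have h3 : (symmDiff s t).card = (s \ t).card + (t \ s).card :=
    Finset.card_union_of_disjoint disjoint_sdiff_sdiff
  rw [Finset.inter_comm t s] at h2
  omega

/-- Two octads sharing five points are equal. -/
theorem octad_unique {s t : Finset GolayPt} (hs : s ∈ octads) (ht : t ∈ octads)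
    (h : 5 ≤ (s ∩ t).card) : s = t := by
  have hc := card_supports_cases (symmDiff_mem_supports hs.1 ht.1)
  have he := card_symmDiff_add s t
  have hz : (symmDiff s t).card = 0 := by
    have := hs.2; have := ht.2; omega
  exact symmDiff_eq_bot.1 (Finset.card_eq_zero.1 hz)

/-- The mask is an octad. -/
def isOct (m : ℕ) : Bool := pop24 m == 8 && inCode m && Nat.blt m 16777216

theorem setOf_mem_octads {m : ℕ} (h : isOct m = true) : setOf m ∈ octads := by
  simp only [isOct, Bool.and_eq_true, beq_iff_eq, Nat.blt_eq] at h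
  refine ⟨?_, by rw [card_setOf]; exact h.1.1⟩
  rw [mem_supports_iff_inCode, maskOf_setOf (by simpa using h.2)]
  exact h.1.2

theorem smul_mem_supports {σ : Equiv.Perm GolayPt} (hσ : σ ∈ M24) {s : Finset GolayPt}
    (hs : s ∈ supports (golayCode : Set (GolayPt → ZMod 2))) :
    σ • s ∈ supports (golayCode : Set (GolayPt → ZMod 2)) := by
  obtain ⟨w, hw, rfl⟩ := hs
  exact ⟨_, mem_M24_iff_maps.1 hσ w hw, (smul_support₂ σ w).symm⟩

theorem smul_mem_octads {σ : Equiv.Perm GolayPt} (hσ : σ ∈ M24) {s : Finset GolayPt}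
    (hs : s ∈ octads) : σ • s ∈ octads :=
  ⟨smul_mem_supports hσ hs.1, by rw [Finset.card_smul_finset]; exact hs.2⟩

theorem smul_mem_dodecads {σ : Equiv.Perm GolayPt} (hσ : σ ∈ M24) {s : Finset GolayPt}
    (hs : s ∈ dodecads) : σ • s ∈ dodecads :=
  ⟨smul_mem_supports hσ hs.1, by rw [Finset.card_smul_finset]; exact hs.2⟩

/-- `σ` fixes every point of the mask. -/
def FixesMask (σ : Equiv.Perm GolayPt) (F : ℕ) : Prop := ∀ x ∈ setOf F, σ x = x

theorem octad_fixed_of_five {σ : Equiv.Perm GolayPt} (hσ : σ ∈ M24) {F : ℕ}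
    (hF : FixesMask σ F) {o : Finset GolayPt} (ho : o ∈ octads)
    (h : 5 ≤ (o ∩ setOf F).card) : σ • o = o := by
  refine octad_unique (smul_mem_octads hσ ho) ho (le_trans h (Finset.card_le_card ?_))
  intro x hx
  rw [Finset.mem_inter] at hx ⊢
  exact ⟨Finset.mem_smul_finset.2 ⟨x, hx.1, hF x hx.2⟩, hx.1⟩

/-- The membership pattern of a position in a list of masks. -/
def sigOf (ols : List ℕ) (i : ℕ) : List Bool := ols.map fun o => Nat.testBit o i

/-- Positions that an element fixing `F` and the listed sets has to fix, below `n`. -/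
def sepTo (F : ℕ) (ols : List ℕ) : ℕ → ℕ
  | 0 => 0
  | n + 1 =>
    if Nat.testBit F n || (List.range 24).all (fun j =>
        Nat.testBit F j || j == n || sigOf ols j != sigOf ols n)
    then Nat.lor (Nat.shiftLeft 1 n) (sepTo F ols n) else sepTo F ols n

theorem testBit_sepTo (F : ℕ) (ols : List ℕ) (n i : ℕ) (h : (sepTo F ols n).testBit i = true) :
    F.testBit i = true ∨ (∀ j < 24, F.testBit j = true ∨ j = i ∨ sigOf ols j ≠ sigOf ols i) := by
  induction n with
  | zero => simp [sepTo] at h
  | succ n ih =>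
    rw [sepTo] at h
    by_cases hc : (Nat.testBit F n || (List.range 24).all (fun j =>
        Nat.testBit F j || j == n || sigOf ols j != sigOf ols n)) = true
    · rw [if_pos hc] at h
      have e : Nat.lor (Nat.shiftLeft 1 n) (sepTo F ols n) = (1 <<< n) ||| sepTo F ols n := rfl
      rw [e, Nat.testBit_or, Bool.or_eq_true] at h
      rcases h with h | h
      · rw [Nat.one_shiftLeft, Nat.testBit_two_pow, decide_eq_true_eq] at h
        subst h
        simp only [Bool.or_eq_true, List.all_eq_true, List.mem_range, beq_iff_eq, bne_iff_ne] at hc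
        rcases hc with hc | hc
        · exact Or.inl hc
        · exact Or.inr fun j hj => or_assoc.1 (hc j hj)
      · exact ih h
    · rw [if_neg hc] at h; exact ih h

/-- Stages of octads each meeting the known fixed points in five points, ending with all fixed. -/
def stagesOk : ℕ → List (List ℕ) → Bool
  | F, [] => F == 16777215
  | F, ols :: rest =>
    ols.all (fun o => isOct o && Nat.ble 5 (pop24 (Nat.land o F))) &&
      stagesOk (sepTo F ols 24) rest

theorem eq_one_of_stages {σ : Equiv.Perm GolayPt} (hσ : σ ∈ M24) :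
    ∀ (st : List (List ℕ)) (F : ℕ), stagesOk F st = true → FixesMask σ F → σ = 1 := by
  intro st
  induction st with
  | nil =>
    intro F h hF
    apply Equiv.ext
    intro x
    rw [stagesOk, beq_iff_eq] at h
    subst h
    exact hF x (by rw [setOf_full]; exact Finset.mem_univ x)
  | cons ols rest ih =>
    intro F h hF
    simp only [stagesOk, Bool.and_eq_true, List.all_eq_true, Nat.ble_eq] at h
    refine ih _ h.2 ?_
    have hfix : ∀ o ∈ ols, σ • setOf o = setOf o := fun o ho =>
      octad_fixed_of_five hσ hF (setOf_mem_octads (h.1 o ho).1)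
        (by rw [← setOf_land, card_setOf]; exact (h.1 o ho).2)
    intro x hx
    rcases testBit_sepTo F ols 24 _ (mem_setOf.1 hx) with hx' | hx'
    · exact hF x (mem_setOf.2 hx')
    · by_contra hne
      rcases hx' (idx (σ x)) (idx (σ x)).isLt with h1 | h1 | h1
      · exact hne (σ.injective (hF (σ x) (mem_setOf.2 h1)))
      · exact hne (idx_inj.1 (Fin.ext h1))
      · apply h1
        refine List.map_congr_left fun o ho => ?_
        show o.testBit (idx (σ x)) = o.testBit (idx x)
        rw [Bool.eq_iff_iff, ← mem_setOf, ← mem_setOf]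
        constructor
        · intro hm
          rw [← hfix o ho, Finset.mem_smul_finset] at hm
          obtain ⟨y, hy, hyx⟩ := hm
          rwa [← σ.injective hyx]
        · intro hm
          rw [← hfix o ho]
          exact Finset.smul_mem_smul_finset hm

/-- One step of a decomposition: divide by the transversal element matching the image of `b`. -/
theorem exists_div_step {σ : Equiv.Perm GolayPt} (hσ : σ ∈ M24) {F b : ℕ} (hb : b < 24)
    {ts : List ℕ}
    (hts : ∀ t ∈ ts, inM24 t = true ∧ FixesMask (toPerm t) F)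
    (hF : FixesMask σ F)
    (hcov : (idx (σ (pt ⟨b, hb⟩)) : ℕ) ∈ ts.map fun t => app t b) :
    ∃ t ∈ ts, ∃ τ, τ ∈ M24 ∧ FixesMask τ (Nat.lor F (Nat.shiftLeft 1 b)) ∧ σ = toPerm t * τ := by
  obtain ⟨t, ht, he⟩ := List.mem_map.1 hcov
  obtain ⟨htM, htF⟩ := hts t ht
  refine ⟨t, ht, (toPerm t)⁻¹ * σ, M24.mul_mem (M24.inv_mem (toPerm_mem_M24 htM)) hσ, ?_,
    (mul_inv_cancel_left _ _).symm⟩
  intro x hx
  rw [Equiv.Perm.mul_apply]
  apply (toPerm t).injective
  rw [Equiv.Perm.coe_inv, Equiv.apply_symm_apply]
  have e : setOf (Nat.lor F (Nat.shiftLeft 1 b)) = setOf F ∪ setOf (1 <<< b) := setOf_lor _ _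
  rw [e, Finset.mem_union] at hx
  rcases hx with hx | hx
  · rw [hF x hx, htF x hx]
  · rw [mem_setOf, Nat.one_shiftLeft, Nat.testBit_two_pow, decide_eq_true_eq] at hx
    have hxb : x = pt ⟨b, hb⟩ := by
      rw [← pt_idx x]; exact congrArg pt (Fin.ext hx.symm)
    subst hxb
    apply idx_inj.1
    apply Fin.ext
    rw [idx_toPerm (valid_of_inM24 htM), idx_pt]
    exact he.symm

/-- The transversal elements of one level are sound and cover all allowed images. -/
def levelOk (F allowed b : ℕ) (ts : List ℕ) : Bool :=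
  Nat.blt b 24 &&
  ts.all (fun t => inM24 t && (List.range 24).all fun i => !Nat.testBit F i || app t i == i) &&
  (List.range 24).all (fun i => Nat.testBit F i || !Nat.testBit allowed i ||
    (ts.map fun t => app t b).contains i) &&
  !Nat.testBit F b

theorem exists_div_of_levelOk {σ : Equiv.Perm GolayPt} (hσ : σ ∈ M24) {F allowed b : ℕ}
    {ts : List ℕ} (hok : levelOk F allowed b ts = true) (hF : FixesMask σ F)
    (hall : ∀ x : GolayPt, (idx x : ℕ) = b → allowed.testBit (idx (σ x)) = true) :
    ∃ t ∈ ts, ∃ τ, τ ∈ M24 ∧ FixesMask τ (Nat.lor F (Nat.shiftLeft 1 b)) ∧ σ = toPerm t * τ := by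
  simp only [levelOk, Bool.and_eq_true, Nat.blt_eq, List.all_eq_true, List.mem_range,
    Bool.or_eq_true, Bool.not_eq_true', beq_iff_eq, List.contains_iff_mem] at hok
  obtain ⟨⟨⟨hb, hts⟩, hcov⟩, hbF⟩ := hok
  refine exists_div_step hσ hb (fun t ht => ⟨(hts t ht).1, fun x hx => ?_⟩) hF ?_
  · rcases (hts t ht).2 (idx x) (idx x).isLt with h | h
    · rw [mem_setOf, h] at hx; exact absurd hx (by simp)
    · exact idx_inj.1 (Fin.ext (by rw [idx_toPerm (valid_of_inM24 (hts t ht).1), h]))
  · rcases hcov _ (idx (σ (pt ⟨b, hb⟩))).isLt with (h | h) | h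
    · exfalso
      have hy := hF _ (mem_setOf.2 h)
      have : σ (pt ⟨b, hb⟩) = pt ⟨b, hb⟩ := σ.injective hy
      rw [this, idx_pt] at h
      rw [h] at hbF
      exact Bool.false_ne_true hbF.symm
    · rw [hall _ (by simp)] at h; exact absurd h (by simp)
    · exact h

end

end Cfsg.Agent.Golay24
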