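import Cfsg.Agent.Lib.Golay.CocodeExt

/-!
The extension of M₂₃ by the cocode module as a group of permutations of code × ZMod 2,
and the certificate that it does not split.
-/

set_option autoImplicit false

namespace Cfsg.Agent.CocodeExt

noncomputable section

open Cfsg
open Cfsg.Agent.Golay24

attribute [local irreducible] theta dotLin
set_option maxHeartbeats 200000

/-- The code words vanishing at the extra point. -/
def code0 : AddSubgroup W where
  carrier := {w | w ∈ golayCode ∧ w none = 0}
  zero_mem' := ⟨zero_mem _, rfl⟩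
  add_mem' := fun {a b} ha hb => ⟨add_mem ha.1 hb.1, by
    show a none + b none = 0; rw [ha.2, hb.2, add_zero]⟩
  neg_mem' := fun {a} ha => ⟨neg_mem ha.1, by show -a none = 0; rw [ha.2, neg_zero]⟩

theorem m23_le {σ : Equiv.Perm GolayPt} (h : σ ∈ Spor.M23) : σ ∈ M24 := h.1

theorem act_none {σ : Equiv.Perm GolayPt} (h : σ ∈ Spor.M23) (w : W) : act σ w none = w none :=
  congrArg w (Equiv.Perm.inv_eq_iff_eq.2 (MulAction.mem_stabilizer_iff.1 h.2).symm)

/-- The action on the short code. -/
def act0 (σ : ↥Spor.M23) (x : code0) : code0 :=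
  ⟨act σ x.1, act_mem (m23_le σ.2) x.2.1, by rw [act_none σ.2]; exact x.2.2⟩

theorem act0_add (σ : ↥Spor.M23) (x y : code0) : act0 σ (x + y) = act0 σ x + act0 σ y := rfl

theorem act0_one (x : code0) : act0 1 x = x := rfl

theorem act0_mul (σ τ : ↥Spor.M23) (x : code0) : act0 (σ * τ) x = act0 σ (act0 τ x) := rfl

theorem act0_inv_cancel (σ : ↥Spor.M23) (x : code0) : act0 σ⁻¹ (act0 σ x) = x :=
  Subtype.ext (act_inv_cancel σ.1 x.1)

theorem act0_cancel_inv (σ : ↥Spor.M23) (x : code0) : act0 σ (act0 σ⁻¹ x) = x :=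
  Subtype.ext (act_cancel_inv σ.1 x.1)

/-- A pair lies over a cocycle potential. -/
def Lifts (σ : ↥Spor.M23) (g : Equiv.Perm (code0 × ZMod 2)) (f : code0 → ZMod 2) : Prop :=
  (∀ x y : code0, f (x + y) = f x + f y + cocy σ x.1 y.1) ∧
    ∀ x e, g (x, e) = (act0 σ x, e + f x)

/-- The extension group. -/
def ext23 : Subgroup (↥Spor.M23 × Equiv.Perm (code0 × ZMod 2)) where
  carrier := {p | ∃ f, Lifts p.1 p.2 f}
  one_mem' := ⟨fun _ => 0, fun x y => by
      show (0 : ZMod 2) = 0 + 0 + (theta (act 1 x.1) (act 1 y.1) + theta x.1 y.1)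
      simp [act_one, CharTwo.add_self_eq_zero],
    fun x e => by show (x, e) = (act0 1 x, e + 0); rw [act0_one, add_zero]⟩
  mul_mem' := by
    rintro ⟨σ, g⟩ ⟨τ, h⟩ ⟨f, hf, hg⟩ ⟨k, hk, hh⟩
    refine ⟨fun x => k x + f (act0 τ x), fun x y => ?_, fun x e => ?_⟩
    · show k (x + y) + f (act0 τ (x + y)) = _
      rw [hk, act0_add, hf]
      simp only [cocy, act0, Prod.fst_mul, Prod.mk_mul_mk, Subgroup.coe_mul, act_mul]
      ring_nf
      simp [CharTwo.two_eq_zero]
    · show g (h (x, e)) = _
      rw [hh, hg, add_assoc]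
      rfl
  inv_mem' := by
    rintro ⟨σ, g⟩ ⟨f, hf, hg⟩
    refine ⟨fun y => f (act0 σ⁻¹ y), fun x y => ?_, fun y e => ?_⟩
    · show f (act0 σ⁻¹ (x + y)) = _
      rw [act0_add, hf]
      congr 1
      show theta (act σ.1 (act σ.1⁻¹ x.1)) (act σ.1 (act σ.1⁻¹ y.1)) +
          theta (act σ.1⁻¹ x.1) (act σ.1⁻¹ y.1) =
        theta (act σ.1⁻¹ x.1) (act σ.1⁻¹ y.1) + theta x.1 y.1
      rw [act_cancel_inv, act_cancel_inv, add_comm]
    · show g⁻¹ (y, e) = _
      rw [Equiv.Perm.inv_eq_iff_eq]
      show (y, e) = g (act0 σ⁻¹ y, e + f (act0 σ⁻¹ y))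
      rw [hg, act0_cancel_inv, add_assoc, CharTwo.add_self_eq_zero, add_zero]

instance : Finite (code0 × ZMod 2) := inferInstance

/-- The projection to M₂₃. -/
def proj23 : ↥ext23 →* ↥Spor.M23 := (MonoidHom.fst _ _).comp ext23.subtype

theorem mem_range_proj {σ : ↥Spor.M23}
    (hb : ∀ i j, cocy σ (basisWord i) (basisWord j) = cocy σ (basisWord j) (basisWord i))
    (hd : ∀ i, cocy σ (basisWord i) (basisWord i) = 0) : σ ∈ proj23.range := by
  obtain ⟨f, hf⟩ := exists_potential (m23_le σ.2) hb hd
  let g : Equiv.Perm (code0 × ZMod 2) :=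
    { toFun := fun p => (act0 σ p.1, p.2 + f p.1.1)
      invFun := fun p => (act0 σ⁻¹ p.1, p.2 + f (act0 σ⁻¹ p.1).1)
      left_inv := fun p => by
        simp only [act0_inv_cancel, add_assoc, CharTwo.add_self_eq_zero, add_zero]
      right_inv := fun p => by
        simp only [act0_cancel_inv, add_assoc, CharTwo.add_self_eq_zero, add_zero] }
  exact ⟨⟨(σ, g), fun x => f x.1, fun x y => hf _ x.2.1 _ y.2.1, fun x e => rfl⟩, rfl⟩

/-- The cocycle check for a packed permutation. -/
def symCheck (p : ℕ) : Bool :=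
  (List.finRange 12).all fun i => decide
    (theta (wordOf (img p (bm i))) (wordOf (img p (bm i))) + theta (basisWord i) (basisWord i) = 0)
    && (List.finRange 12).all fun j => decide
      (theta (wordOf (img p (bm i))) (wordOf (img p (bm j))) + theta (basisWord i) (basisWord j) =
        theta (wordOf (img p (bm j))) (wordOf (img p (bm i))) + theta (basisWord j) (basisWord i))

theorem act_wordOf {p : ℕ} (h : validP p = true) (m : ℕ) :
    act (toPerm p) (wordOf m) = wordOf (img p m) := by
  apply support₂_injective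
  show support₂ (fun x => wordOf m ((toPerm p).symm x)) = _
  rw [← smul_support₂, support₂_wordOf, support₂_wordOf, smul_setOf h]

theorem proj23_surjective : Function.Surjective proj23 := by
  have hgens : ∀ p ∈ m23Cert.gens, inM24 p = true ∧ symCheck p = true := by decide +kernel
  have hle : Spor.M23 ≤ proj23.range.map Spor.M23.subtype := by
    refine m23_grp.ge.trans ?_
    rw [GenCert.grp, Subgroup.closure_le]
    rintro _ ⟨p, hp, rfl⟩
    obtain ⟨h1, h2⟩ := hgens p hp
    have hv := valid_of_inM24 h1
    simp only [symCheck, List.all_eq_true, List.mem_finRange, forall_const, Bool.and_eq_true,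
      decide_eq_true_eq] at h2
    have hb : ∀ i, act (toPerm p) (basisWord i) = wordOf (img p (bm i)) :=
      fun i => act_wordOf hv _
    refine ⟨⟨toPerm p, m23_gens hp⟩, mem_range_proj (fun i j => ?_) (fun i => ?_), rfl⟩
    · simp only [cocy, hb]; exact (h2 i).2 j
    · simp only [cocy, hb]; exact (h2 i).1
  intro σ
  obtain ⟨τ, hτ, e⟩ := hle σ.2
  obtain ⟨g, rfl⟩ := hτ
  exact ⟨g, Subtype.ext e⟩

theorem dotLin_apply (w x : W) : dotLin w x = ∑ i, w i * x i := by
  with_unfolding_all rfl

/-- The dot product. -/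
def dot (w x : W) : ZMod 2 := dotLin w x

theorem dot_add_left (v w x : W) : dot (v + w) x = dot v x + dot w x := by
  simp [dot, dotLin_apply, add_mul, Finset.sum_add_distrib]

theorem dot_comm (w x : W) : dot w x = dot x w := by simp [dot, dotLin_apply, mul_comm]

/-- The translation by a word. -/
def transl (w : W) : Equiv.Perm (code0 × ZMod 2) where
  toFun p := (p.1, p.2 + dot w p.1.1)
  invFun p := (p.1, p.2 + dot w p.1.1)
  left_inv p := by simp only [add_assoc, CharTwo.add_self_eq_zero, add_zero]
  right_inv p := by simp only [add_assoc, CharTwo.add_self_eq_zero, add_zero]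

/-- The kernel element of a word. -/
def tau (w : W) : ↥proj23.ker :=
  ⟨⟨(1, transl w), fun x => dot w x.1, fun x y => by
      show dot w (x.1 + y.1) = _
      simp [dot, cocy, act_one, CharTwo.add_self_eq_zero],
    fun x e => by rw [act0_one]; rfl⟩, rfl⟩

theorem transl_apply (w : W) (x : code0) (e : ZMod 2) : transl w (x, e) = (x, e + dot w x.1) :=
  rfl

theorem transl_add (v w : W) : transl (v + w) = transl v * transl w := by
  refine Equiv.ext fun ⟨x, e⟩ => ?_
  rw [Equiv.Perm.mul_apply, transl_apply, transl_apply, transl_apply, dot_add_left]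
  refine congrArg (fun t => (x, t)) ?_
  ring

theorem tau_val (w : W) : (tau w).1.1 = (1, transl w) := rfl

theorem tau_add (v w : W) : tau (v + w) = tau v * tau w := by
  apply Subtype.ext
  apply Subtype.ext
  simp only [Subgroup.coe_mul, tau_val, transl_add, Prod.mk_mul_mk, one_mul]

theorem tau_eq_one (w : W) : tau w = 1 ↔ ∀ x : code0, dot w x.1 = 0 := by
  constructor
  · intro h x
    have h' : transl w = 1 := by
      have := congrArg (fun q : ↥proj23.ker => q.1.1.2) h
      simpa only [tau_val, Subgroup.coe_one, Prod.snd_one] using this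
    have h'' := congrArg Prod.snd (Equiv.congr_fun h' ((x, 0) : code0 × ZMod 2))
    rw [transl_apply, Equiv.Perm.one_apply] at h''
    simpa using h''
  · intro h
    apply Subtype.ext
    apply Subtype.ext
    simp only [tau_val, Subgroup.coe_one, Prod.ext_iff, Prod.fst_one, Prod.snd_one, true_and]
    refine Equiv.ext fun ⟨x, e⟩ => ?_
    rw [transl_apply, h, add_zero, Equiv.Perm.one_apply]

/-- Words onto the kernel. -/
def thetaHom : W →+ Additive ↥proj23.ker :=
  AddMonoidHom.mk' (fun w => Additive.ofMul (tau w)) fun v w => congrArg Additive.ofMul (tau_add v w)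

theorem mem_golay_one : (1 : W) ∈ golayCode := Submodule.subset_span (Or.inr rfl)

theorem thetaHom_eq_zero (w : W) :
    thetaHom w = 0 ↔ (w ∈ golayCode ∨ w + Pi.single none 1 ∈ golayCode) := by
  have h1 : thetaHom w = 0 ↔ ∀ x : code0, dot w x.1 = 0 := by
    rw [← tau_eq_one]
    exact ⟨fun h => Additive.ofMul.injective h, fun h => congrArg Additive.ofMul h⟩
  rw [h1]
  have hsd : ∀ v : W, v ∈ golayCode ↔ ∀ x ∈ golayCode, dot v x = 0 := by
    intro v
    constructor
    · intro hv x hx
      have hv' : ∀ i, dotLin v (basisWord i) = 0 := fun i =>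
        (dot_comm v (basisWord i)).trans (mem_golayCode_iff_dot.1 hv i)
      rw [← code_expand hx]
      simp [dot, hv']
    · exact fun h => mem_golayCode_iff_dot.2 fun i =>
        (dot_comm _ _).trans (h _ (basisWord_mem i))
  have hs : ∀ x : W, dot (Pi.single none 1) x = x none := by
    intro x; simp [dot, dotLin_apply, Pi.single_apply]
  constructor
  · intro h
    have hx : ∀ x ∈ golayCode, dot w x = x none * dot w 1 := by
      intro x hx
      have := h ⟨x + x none • (1 : W), add_mem hx (Submodule.smul_mem _ _ mem_golay_one), by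
        simp [CharTwo.add_self_eq_zero]⟩
      simp only [dot, map_add, map_smul, smul_eq_mul] at this
      exact CharTwo.add_eq_zero.1 this
    rcases zmod2_cases (dot w 1) with e | e
    · exact Or.inl ((hsd w).2 fun x hx' => by rw [hx x hx', e, mul_zero])
    · exact Or.inr ((hsd _).2 fun x hx' => by
        rw [dot_add_left, hx x hx', e, mul_one, hs, CharTwo.add_self_eq_zero])
  · rintro (h | h) x
    · exact (hsd w).1 h x.1 x.2.1
    · have := (hsd _).1 h x.1 x.2.1
      rwa [dot_add_left, hs, x.2.2, add_zero] at this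

theorem thetaHom_surjective : Function.Surjective thetaHom := by
  intro q
  obtain ⟨⟨⟨⟨σ, g⟩, f, hf, hg⟩, hk⟩, rfl⟩ := Additive.ofMul.surjective q
  have hσ : σ = 1 := hk
  subst hσ
  have hadd : ∀ x y : code0, f (x + y) = f x + f y := by
    intro x y
    have := hf x y
    simpa [cocy, act_one, CharTwo.add_self_eq_zero] using this
  let F : code0 →+ ZMod 2 := AddMonoidHom.mk' f hadd
  let fix0 : ↥golayCode →+ code0 := AddMonoidHom.mk'
    (fun x => ⟨x.1 + x.1 none • (1 : W),
      add_mem x.2 (Submodule.smul_mem _ _ mem_golay_one), by simp [CharTwo.add_self_eq_zero]⟩)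
    (fun x y => Subtype.ext (by
      show (x.1 + y.1) + (x.1 + y.1) none • (1 : W) =
        (x.1 + x.1 none • (1 : W)) + (y.1 + y.1 none • (1 : W))
      rw [Pi.add_apply, add_smul]; abel))
  let G : ↥golayCode →+ ZMod 2 := F.comp fix0
  refine ⟨∑ i, G ⟨basisWord i, basisWord_mem i⟩ • Pi.single (pivot i) 1, ?_⟩
  refine congrArg Additive.ofMul (Subtype.ext (Subtype.ext (Prod.ext rfl (Equiv.ext ?_))))
  rintro ⟨x, e⟩
  show (x, e + dot _ x.1) = g (x, e)
  rw [hg, act0_one]
  refine congrArg (fun t => (x, e + t)) ?_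
  have hx : fix0 ⟨x.1, x.2.1⟩ = x := Subtype.ext (by
    show x.1 + x.1 none • (1 : W) = x.1
    rw [x.2.2, zero_smul, add_zero])
  have hexp : (⟨x.1, x.2.1⟩ : ↥golayCode) =
      ∑ i, x.1 (pivot i) • (⟨basisWord i, basisWord_mem i⟩ : ↥golayCode) :=
    Subtype.ext (by simpa using (code_expand x.2.1).symm)
  calc dot _ x.1 = ∑ i, x.1 (pivot i) * G ⟨basisWord i, basisWord_mem i⟩ := by
        rw [dot_comm]
        simp only [dot, map_sum, map_smul, smul_eq_mul]
        refine Finset.sum_congr rfl fun i _ => ?_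
        rw [mul_comm]
        rw [show dotLin x.1 (Pi.single (pivot i) (1 : ZMod 2)) = x.1 (pivot i) by
          rw [dotLin_apply, Finset.sum_eq_single (pivot i)] <;> simp +contextual]
    _ = G (∑ i, x.1 (pivot i) • ⟨basisWord i, basisWord_mem i⟩) := by
        rw [map_sum]
        refine Finset.sum_congr rfl fun i _ => ?_
        rcases zmod2_cases (x.1 (pivot i)) with e' | e' <;> simp [e']
    _ = f x := by rw [← hexp]; show f (fix0 ⟨x.1, x.2.1⟩) = f x; rw [hx]

theorem thetaHom_conj (g : ↥ext23) (w : W) :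
    ((thetaHom (act (proj23 g).1 w)).toMul : ↥ext23) = g * ((thetaHom w).toMul : ↥ext23) * g⁻¹ := by
  rw [eq_mul_inv_iff_mul_eq]
  obtain ⟨⟨σ, h⟩, f, hf, hg⟩ := g
  refine Subtype.ext (Prod.ext ((one_mul σ).trans (mul_one σ).symm) (Equiv.ext ?_))
  rintro ⟨x, e⟩
  show transl (act σ.1 w) (h (x, e)) = h (transl w (x, e))
  rw [show transl w (x, e) = (x, e + dot w x.1) from rfl, hg, hg]
  refine congrArg (Prod.mk _) ?_
  show e + f x + dot (act σ.1 w) (act σ.1 x.1) = e + dot w x.1 + f x
  rw [show dot (act σ.1 w) (act σ.1 x.1) = dot w x.1 by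
    rw [dot, dot, dotLin_apply, dotLin_apply]
    exact Equiv.sum_comp (σ.1)⁻¹ fun p => w p * x.1 p]
  abel

/-! ### The certificate -/

/-- The two permutations of order five. -/
def genP : Bool → ℕ
  | false => 955726513131892196787812107230103939
  | true => 974084373535324226050815955417805063

/-- The relations (in the order of application) with their starting words. -/
def relWords : List (List Bool × ℕ) :=
  [([false, false, false, false, false], 5405696),
   ([true, true, true, true, true], 7221256),
   ([true, true, false, false, true, false, true, true, false, false, true, false,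
      true, true, false, false, true, false], 2019456)]

/-- The positions reached along a relation. -/
def runI : List Bool → ℕ → ℕ
  | [], i => i
  | c :: l, i => runI l (app (genP c) i)

/-- The masks met along a relation. -/
def walk : List Bool → ℕ → List (Bool × ℕ)
  | [], _ => []
  | c :: l, m => (c, m) :: walk l (img (genP c) m)

/-- All masks met. -/
def allSteps : List (Bool × ℕ) := relWords.flatMap fun r => walk r.1 r.2

/-- The masks met by one generator. -/
def occ (c : Bool) : List ℕ := (allSteps.filter fun s => s.1 == c).map Prod.snd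

/-- A mask of a word of the short code. -/
def inM0 (m : ℕ) : Bool := Nat.blt m 16777216 && inCode m && !m.testBit 23

/-- The accumulated cocycle values along a list of masks. -/
def accum (p : ℕ) : ℕ → List ℕ → ZMod 2
  | _, [] => 0
  | s, m :: l => theta (wordOf (img p s)) (wordOf (img p m)) + theta (wordOf s) (wordOf m) +
      accum p (Nat.xor s m) l

theorem cert_ok :
    (∀ c, inM24 (genP c) = true ∧ app (genP c) 23 = 23) ∧
    (∀ r ∈ relWords, inM0 r.2 = true ∧ ∀ i : Fin 24, runI r.1 i = i) ∧
    (∀ c, (∀ m ∈ occ c, inM0 m = true) ∧ (occ c).foldl Nat.xor 0 = 0) ∧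
    accum (genP false) 0 (occ false) + accum (genP true) 0 (occ true) = 1 := by
  decide +kernel

theorem mem_code0_of_inM0 {m : ℕ} (h : inM0 m = true) : wordOf m ∈ code0 := by
  simp only [inM0, Bool.and_eq_true, Bool.not_eq_true', Nat.blt_eq] at h
  obtain ⟨⟨h1, h2⟩, h3⟩ := h
  refine ⟨(wordOf_mem_iff h1).2 ((mem_codeList_iff_inCode h1).2 h2), ?_⟩
  show (if m.testBit (idx none) then (1 : ZMod 2) else 0) = 0
  rw [show ((idx none : Fin 24) : ℕ) = 23 from rfl, h3]
  rfl

open scoped Classical in
/-- Extension by zero of a function on the short code. -/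
def ext0 (f : code0 → ZMod 2) (w : W) : ZMod 2 := if h : w ∈ code0 then f ⟨w, h⟩ else 0

theorem accum_spec {p : ℕ} (hv : validP p = true) {σ : ↥Spor.M23} (hσ : σ.1 = toPerm p)
    {f : code0 → ZMod 2} (hf : ∀ x y : code0, f (x + y) = f x + f y + cocy σ x.1 y.1) :
    ∀ (l : List ℕ) (s : ℕ), wordOf s ∈ code0 → (∀ m ∈ l, wordOf m ∈ code0) →
      ext0 f (wordOf s) + (l.map fun m => ext0 f (wordOf m)).sum + accum p s l =
        ext0 f (wordOf (l.foldl Nat.xor s))
  | [], s, _, _ => by simp [accum]
  | m :: l, s, hs, hl => by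
    have hm := hl m (List.mem_cons_self ..)
    have hsm : wordOf (Nat.xor s m) ∈ code0 := by
      show wordOf (s ^^^ m) ∈ code0
      rw [wordOf_xor]; exact add_mem hs hm
    have ih := accum_spec hv hσ hf l (Nat.xor s m) hsm fun m' h' => hl m' (List.mem_cons_of_mem _ h')
    have e : ext0 f (wordOf (Nat.xor s m)) = ext0 f (wordOf s) + ext0 f (wordOf m) +
        (theta (wordOf (img p s)) (wordOf (img p m)) + theta (wordOf s) (wordOf m)) := by
      rw [ext0, dif_pos hsm, ext0, dif_pos hs, ext0, dif_pos hm, ← act_wordOf hv, ← act_wordOf hv]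
      have := hf ⟨_, hs⟩ ⟨_, hm⟩
      simp only [cocy, hσ] at this
      rw [← this]
      exact congrArg f (Subtype.ext (wordOf_xor s m))
    rw [List.map_cons, List.sum_cons, List.foldl_cons, ← ih, e, accum]
    ring

theorem no_complement (H : Subgroup ↥ext23) (hd : H ⊓ proj23.ker = ⊥) :
    H ⊔ proj23.ker ≠ ⊤ := by
  intro hsup
  obtain ⟨hgen, hrel, hocc, hsum⟩ := cert_ok
  have hin : ∀ c, toPerm (genP c) ∈ Spor.M23 := fun c =>
    ⟨toPerm_mem_M24 (hgen c).1, pt23 ▸ toPerm_mem_stabilizer (by norm_num)
      (valid_of_inM24 (hgen c).1) (hgen c).2⟩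
  have hlift : ∀ c, ∃ h ∈ H, proj23 h = ⟨toPerm (genP c), hin c⟩ := by
    intro c
    obtain ⟨g, hg⟩ := proj23_surjective ⟨toPerm (genP c), hin c⟩
    obtain ⟨h, hh, n, hn, rfl⟩ := Subgroup.mem_sup_of_normal_right.1
      (show g ∈ H ⊔ proj23.ker by rw [hsup]; trivial)
    exact ⟨h, hh, by rw [← hg, map_mul, MonoidHom.mem_ker.1 hn, mul_one]⟩
  choose lift hmem hlift using hlift
  choose f hf hact using fun c => (lift c).2
  let F : Bool × ℕ → ZMod 2 := fun s => ext0 (f s.1) (wordOf s.2)
  let prodL : List Bool → ↥ext23 := fun l => (l.reverse.map lift).prod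
  have pcons : ∀ c l, prodL (c :: l) = prodL l * lift c := by
    intro c l
    simp [prodL]
  have hfst : ∀ c, (lift c).1.1.1 = toPerm (genP c) := fun c => congrArg Subtype.val (hlift c)
  have key : ∀ (l : List Bool) (m : ℕ) (hm : wordOf m ∈ code0) (e : ZMod 2),
      ((prodL l).1.2 (⟨wordOf m, hm⟩, e)).2 = e + ((walk l m).map F).sum := by
    intro l
    induction l with
    | nil => intro m hm e; simp [prodL, walk]
    | cons c l ih =>
      intro m hm e
      have hv := valid_of_inM24 (hgen c).1
      have hm' : wordOf (img (genP c) m) ∈ code0 := by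
        rw [← act_wordOf hv, ← hfst c]
        exact (act0 (lift c).1.1 ⟨_, hm⟩).2
      have he : act0 (lift c).1.1 ⟨wordOf m, hm⟩ = ⟨wordOf (img (genP c) m), hm'⟩ :=
        Subtype.ext (by
          show act (lift c).1.1.1 (wordOf m) = _
          rw [hfst, act_wordOf hv])
      rw [pcons]
      show ((prodL l).1.2 ((lift c).1.2 (⟨wordOf m, hm⟩, e))).2 = _
      rw [hact, he, ih, walk, List.map_cons, List.sum_cons, add_assoc]
      refine congrArg (fun t => e + (t + _)) ?_
      show f c ⟨wordOf m, hm⟩ = ext0 (f c) (wordOf m)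
      rw [ext0, dif_pos hm]
  have hrun : ∀ (l : List Bool) (x : GolayPt),
      (idx ((prodL l).1.1.1 x) : ℕ) = runI l (idx x) := by
    intro l
    induction l with
    | nil => intro x; rfl
    | cons c l ih =>
      intro x
      rw [pcons]
      show (idx ((prodL l).1.1.1 ((lift c).1.1.1 x)) : ℕ) = _
      rw [ih, hfst, idx_toPerm (valid_of_inM24 (hgen c).1)]
      rfl
  have hzero : ∀ r ∈ relWords, ((walk r.1 r.2).map F).sum = 0 := by
    intro r hr
    obtain ⟨h0, hid⟩ := hrel r hr
    have hker : prodL r.1 ∈ proj23.ker := by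
      refine Subtype.ext (Equiv.ext fun x => idx_inj.1 (Fin.ext ?_))
      exact (hrun r.1 x).trans (hid (idx x))
    have hH : prodL r.1 ∈ H := by
      refine list_prod_mem fun g hg => ?_
      obtain ⟨c, -, rfl⟩ := List.mem_map.1 hg
      exact hmem c
    have h1 : prodL r.1 = 1 := Subgroup.mem_bot.1 (hd ▸ Subgroup.mem_inf.2 ⟨hH, hker⟩)
    have := key r.1 r.2 (mem_code0_of_inM0 h0) 0
    rw [h1, zero_add] at this
    exact this.symm
  have hall : (allSteps.map F).sum = 0 := by
    have : ∀ L : List (List Bool × ℕ), (∀ r ∈ L, ((walk r.1 r.2).map F).sum = 0) →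
        ((L.flatMap fun r => walk r.1 r.2).map F).sum = 0 := by
      intro L
      induction L with
      | nil => simp
      | cons r L ih =>
        intro h
        rw [List.flatMap_cons, List.map_append, List.sum_append, h r (List.mem_cons_self ..),
          ih fun r' h' => h r' (List.mem_cons_of_mem _ h'), add_zero]
    exact this _ hzero
  have hsplit : ∀ L : List (Bool × ℕ), (L.map F).sum =
      (((L.filter fun s => s.1 == false).map Prod.snd).map fun m => ext0 (f false) (wordOf m)).sum +
      (((L.filter fun s => s.1 == true).map Prod.snd).map fun m => ext0 (f true) (wordOf m)).sum := by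
    intro L
    induction L with
    | nil => simp
    | cons s L ih =>
      obtain ⟨c, m⟩ := s
      cases c <;> simp [F, ih] <;> ring
  have hval : ∀ c, ((occ c).map fun m => ext0 (f c) (wordOf m)).sum = accum (genP c) 0 (occ c) := by
    intro c
    have h00 : wordOf 0 ∈ code0 := by rw [wordOf_zero]; exact zero_mem _
    have := accum_spec (valid_of_inM24 (hgen c).1) (hfst c) (hf c) (occ c) 0 h00
      fun m hm => mem_code0_of_inM0 ((hocc c).1 m hm)
    rw [(hocc c).2] at this
    exact CharTwo.add_eq_zero.1 (add_eq_left.1 (by rwa [add_assoc] at this))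
  rw [hsplit] at hall
  change ((occ false).map _).sum + ((occ true).map _).sum = 0 at hall
  rw [hval, hval, hsum] at hall
  exact one_ne_zero hall

end

end Cfsg.Agent.CocodeExt
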