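import Cfsg.Agent.Lib.Golay.Mathieu

/-!
An extension of M₂₃ by the dual of its code module, built from a 2-cocycle on the code:
`theta` has the triple intersection parity as coboundary, which every code automorphism preserves,
so `theta ∘ (σ × σ) + theta` is a symmetric cocycle, hence a coboundary.
-/

set_option autoImplicit false

namespace Cfsg.Agent.CocodeExt

noncomputable section

open Cfsg
open Cfsg.Agent.Golay24

/-- Binary words on the 24 points. -/
abbrev W : Type := GolayPt → ZMod 2

/-- A basis word as a mask. -/
def bm (i : Fin 12) : ℕ := basisMasks.getD i 0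

/-- Coefficients of the bilinear part. -/
def coeffA (j k : Fin 12) : ZMod 2 :=
  if j = k then ((pop24 (bm j) / 4 : ℕ) : ZMod 2)
  else if j < k then ((pop24 (Nat.land (bm j) (bm k)) / 2 : ℕ) : ZMod 2) else 0

/-- Coefficients of the cubic part. -/
def coeffU (i j k : Fin 12) : ZMod 2 :=
  if i < j then (pop24 (Nat.land (Nat.land (bm i) (bm j)) (bm k)) : ZMod 2) else 0

/-- The part of `theta` in front of the k-th coordinate of the second word. -/
def row (x : W) (k : Fin 12) : ZMod 2 :=
  ∑ j, if x (pivot j) = 1 then coeffA j k + ∑ i, (if x (pivot i) = 1 then coeffU i j k else 0)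
    else 0

/-- The two-variable function on the code. -/
def theta (x y : W) : ZMod 2 := ∑ k, if y (pivot k) = 1 then row x k else 0

/-- Parity of the triple intersection. -/
def tri (x y z : W) : ZMod 2 := ∑ p, x p * y p * z p

theorem ite_one_eq_mul (a c : ZMod 2) : (if a = 1 then c else 0) = a * c := by
  revert a c; decide

theorem row_eq (x : W) (k : Fin 12) :
    row x k = (∑ j, x (pivot j) * coeffA j k) +
      ∑ j, ∑ i, x (pivot j) * x (pivot i) * coeffU i j k := by
  simp only [row, ite_one_eq_mul, mul_add, Finset.mul_sum, Finset.sum_add_distrib, mul_assoc]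

theorem theta_eq (x y : W) : theta x y = ∑ k, y (pivot k) * row x k := by
  simp only [theta, ite_one_eq_mul]

theorem theta_add_right (x y z : W) : theta x (y + z) = theta x y + theta x z := by
  simp only [theta_eq, Pi.add_apply, add_mul, Finset.sum_add_distrib]

theorem theta_zero_right (x : W) : theta x 0 = 0 := by
  simp [theta_eq]

theorem theta_zero_left (x : W) : theta 0 x = 0 := by
  simp [theta_eq, row_eq]

theorem coeff_sym : ∀ i j k : Fin 12,
    coeffU i j k + coeffU j i k = tri (basisWord i) (basisWord j) (basisWord k) := by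
  decide +kernel

theorem row_add (x y : W) (k : Fin 12) :
    row (x + y) k = row x k + row y k +
      ∑ j, ∑ i, x (pivot j) * y (pivot i) * tri (basisWord j) (basisWord i) (basisWord k) := by
  have h : ∑ j, ∑ i, x (pivot j) * y (pivot i) * tri (basisWord j) (basisWord i) (basisWord k) =
      (∑ j, ∑ i, x (pivot j) * y (pivot i) * coeffU i j k) +
        ∑ j, ∑ i, y (pivot j) * x (pivot i) * coeffU i j k := by
    rw [Finset.sum_comm (f := fun j i => y (pivot j) * x (pivot i) * coeffU i j k),
      ← Finset.sum_add_distrib]
    refine Finset.sum_congr rfl fun j _ => ?_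
    rw [← Finset.sum_add_distrib]
    refine Finset.sum_congr rfl fun i _ => ?_
    rw [← coeff_sym]
    ring
  rw [h]
  simp only [row_eq, Pi.add_apply, add_mul, mul_add, Finset.sum_add_distrib]
  abel

theorem code_expand {x : W} (hx : x ∈ golayCode) :
    ∑ i : Fin 12, x (pivot i) • basisWord i = x := by
  have e := reconstruct x
  simpa [mem_golayCode_iff_dot.1 hx] using e

theorem tri_expand {x y z : W} (hx : x ∈ golayCode) (hy : y ∈ golayCode) (hz : z ∈ golayCode) :
    tri x y z = ∑ k, z (pivot k) *
      ∑ j, ∑ i, x (pivot j) * y (pivot i) * tri (basisWord j) (basisWord i) (basisWord k) := by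
  have hp : ∀ {w : W}, w ∈ golayCode → ∀ p, w p = ∑ i, w (pivot i) * basisWord i p := by
    intro w hw p
    conv_lhs => rw [← code_expand hw]
    simp [Finset.sum_apply]
  calc tri x y z = ∑ p, ∑ k, ∑ j, ∑ i, z (pivot k) *
        (x (pivot j) * y (pivot i) * (basisWord j p * basisWord i p * basisWord k p)) := by
        refine Finset.sum_congr rfl fun p _ => ?_
        rw [hp hx p, hp hy p, hp hz p, Finset.sum_mul_sum, Finset.mul_sum]
        refine Finset.sum_congr rfl fun k _ => ?_
        rw [Finset.sum_mul]
        refine Finset.sum_congr rfl fun j _ => ?_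
        rw [Finset.sum_mul]
        exact Finset.sum_congr rfl fun i _ => by ring
    _ = _ := by
        rw [Finset.sum_comm]
        refine Finset.sum_congr rfl fun k _ => ?_
        rw [Finset.mul_sum, Finset.sum_comm]
        refine Finset.sum_congr rfl fun j _ => ?_
        rw [Finset.mul_sum, Finset.sum_comm]
        refine Finset.sum_congr rfl fun i _ => ?_
        simp only [tri, Finset.mul_sum]

theorem theta_coboundary {x y z : W} (hx : x ∈ golayCode) (hy : y ∈ golayCode)
    (hz : z ∈ golayCode) :
    theta y z + theta (x + y) z + theta x (y + z) + theta x y = tri x y z := by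
  have h2 : theta y z + theta (x + y) z + theta x z = tri x y z := by
    rw [tri_expand hx hy hz]
    simp only [theta_eq, ← Finset.sum_add_distrib, ← mul_add]
    refine Finset.sum_congr rfl fun k _ => congrArg (z (pivot k) * ·) ?_
    rw [row_add]
    ring_nf; simp [CharTwo.two_eq_zero]
  rw [theta_add_right, ← h2]
  generalize theta x y = a
  generalize theta x z = b
  generalize theta y z = c
  generalize theta (x + y) z = d
  revert a b c d; decide

/-- The coordinate permutation. -/
def act (σ : Equiv.Perm GolayPt) (w : W) : W := w ∘ ⇑σ⁻¹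

theorem act_add (σ : Equiv.Perm GolayPt) (v w : W) : act σ (v + w) = act σ v + act σ w := rfl

theorem act_zero (σ : Equiv.Perm GolayPt) : act σ 0 = 0 := rfl

theorem act_one (w : W) : act 1 w = w := rfl

theorem act_mul (σ τ : Equiv.Perm GolayPt) (w : W) : act (σ * τ) w = act σ (act τ w) := rfl

theorem act_inv_cancel (σ : Equiv.Perm GolayPt) (w : W) : act σ⁻¹ (act σ w) = w := by
  rw [← act_mul, inv_mul_cancel, act_one]

theorem act_cancel_inv (σ : Equiv.Perm GolayPt) (w : W) : act σ (act σ⁻¹ w) = w := by
  rw [← act_mul, mul_inv_cancel, act_one]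

theorem act_mem {σ : Equiv.Perm GolayPt} (hσ : σ ∈ M24) {w : W} (hw : w ∈ golayCode) :
    act σ w ∈ golayCode :=
  mem_M24_iff_maps.1 hσ w hw

theorem tri_act (σ : Equiv.Perm GolayPt) (x y z : W) :
    tri (act σ x) (act σ y) (act σ z) = tri x y z :=
  Equiv.sum_comp σ⁻¹ fun p => x p * y p * z p

/-- The cocycle of a permutation. -/
def cocy (σ : Equiv.Perm GolayPt) (x y : W) : ZMod 2 :=
  theta (act σ x) (act σ y) + theta x y

section

variable {σ : Equiv.Perm GolayPt} (hσ : σ ∈ M24)
include hσ

theorem cocy_rel {x y z : W} (hx : x ∈ golayCode) (hy : y ∈ golayCode) (hz : z ∈ golayCode) :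
    cocy σ y z + cocy σ (x + y) z + cocy σ x (y + z) + cocy σ x y = 0 := by
  have h1 := theta_coboundary hx hy hz
  have h2 := theta_coboundary (act_mem hσ hx) (act_mem hσ hy) (act_mem hσ hz)
  rw [tri_act, ← act_add, ← act_add] at h2
  simp only [cocy]
  rw [← CharTwo.add_self_eq_zero (tri x y z)]
  nth_rewrite 1 [← h2]
  rw [← h1]
  abel

/-- Symmetry of the cocycle follows from symmetry on the basis. -/
theorem cocy_symm (hb : ∀ i j, cocy σ (basisWord i) (basisWord j) =
      cocy σ (basisWord j) (basisWord i))
    {x y : W} (hx : x ∈ golayCode) (hy : y ∈ golayCode) : cocy σ x y = cocy σ y x := by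
  have hadd : ∀ {x y z : W}, x ∈ golayCode → y ∈ golayCode → z ∈ golayCode →
      cocy σ (x + y) z + cocy σ z (x + y) =
        cocy σ x z + cocy σ z x + (cocy σ y z + cocy σ z y) := by
    intro x y z hx hy hz
    have h1 := cocy_rel hσ hx hy hz
    have h2 := cocy_rel hσ hx hz hy
    have h3 := cocy_rel hσ hz hx hy
    rw [add_comm z y] at h2
    rw [add_comm z x] at h3
    revert h1 h2 h3
    generalize cocy σ (x + y) z = a1
    generalize cocy σ z (x + y) = a2
    generalize cocy σ x z = a3
    generalize cocy σ z x = a4
    generalize cocy σ y z = a5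
    generalize cocy σ z y = a6
    generalize cocy σ x (y + z) = a7
    generalize cocy σ (x + z) y = a8
    generalize cocy σ x y = a9
    intro h1 h2 h3
    have h4 : a1 + a2 + (a3 + a4 + (a5 + a6)) = 0 := by
      linear_combination (norm := (ring_nf; simp [CharTwo.two_eq_zero])) h1 + h2 + h3
    exact CharTwo.add_eq_zero.1 h4
  have hz : cocy σ 0 0 = 0 := by simp [cocy, act_zero, theta_zero_right]
  let K : ∀ z, z ∈ golayCode → AddSubgroup W := fun z hz' =>
    { carrier := {x | x ∈ golayCode ∧ cocy σ x z + cocy σ z x = 0}
      zero_mem' := ⟨zero_mem _, by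
        simp [cocy, act_zero, theta_zero_right, theta_zero_left]⟩
      add_mem' := fun {a b} ha hb =>
        ⟨add_mem ha.1 hb.1, by rw [hadd ha.1 hb.1 hz', ha.2, hb.2, add_zero]⟩
      neg_mem' := fun {a} ha => by rwa [show -a = a from funext fun p => CharTwo.neg_eq (a p)] }
  have gen : ∀ (z : W) (hz' : z ∈ golayCode),
      (∀ i, cocy σ (basisWord i) z + cocy σ z (basisWord i) = 0) →
      ∀ x, x ∈ golayCode → cocy σ x z + cocy σ z x = 0 := by
    intro z hz' h x hx
    have : x ∈ K z hz' := by
      rw [← code_expand hx]
      refine sum_mem fun i _ => ?_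
      rcases zmod2_cases (x (pivot i)) with e | e <;> rw [e]
      · rw [zero_smul]; exact zero_mem _
      · rw [one_smul]; exact ⟨basisWord_mem i, h i⟩
    exact this.2
  refine CharTwo.add_eq_zero.1 (gen y hy (fun i => ?_) x hx)
  rw [add_comm]
  exact gen _ (basisWord_mem i) (fun j => by rw [hb j i]; exact CharTwo.add_self_eq_zero _) y hy

theorem cocy_self (hb : ∀ i j, cocy σ (basisWord i) (basisWord j) =
      cocy σ (basisWord j) (basisWord i))
    (hd : ∀ i, cocy σ (basisWord i) (basisWord i) = 0)
    {x : W} (hx : x ∈ golayCode) : cocy σ x x = 0 := by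
  have hadd : ∀ {x y : W}, x ∈ golayCode → y ∈ golayCode →
      cocy σ (x + y) (x + y) = cocy σ x x + cocy σ y y := by
    intro x y hx hy
    have e1 : y + (x + y) = x := by
      funext p; simp only [Pi.add_apply]; generalize x p = a; generalize y p = b
      revert a b; decide
    have h1 := cocy_rel hσ hx hy (add_mem hx hy)
    have h2 := cocy_rel hσ hy hy hx
    rw [e1] at h1
    have e2 : y + y = 0 := funext fun p => CharTwo.add_self_eq_zero (y p)
    rw [e2, cocy_symm hσ hb hy hx,
      show cocy σ 0 x = 0 by simp [cocy, act_zero, theta_zero_left], add_comm y x] at h2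
    revert h1 h2
    generalize cocy σ y (x + y) = a1
    generalize cocy σ (x + y) (x + y) = a2
    generalize cocy σ x x = a3
    generalize cocy σ x y = a4
    generalize cocy σ y y = a5
    revert a1 a2 a3 a4 a5; decide
  let K : AddSubgroup W :=
    { carrier := {x | x ∈ golayCode ∧ cocy σ x x = 0}
      zero_mem' := ⟨zero_mem _, by simp [cocy, act_zero, theta_zero_right]⟩
      add_mem' := fun {a b} ha hb' =>
        ⟨add_mem ha.1 hb'.1, by rw [hadd ha.1 hb'.1, ha.2, hb'.2, add_zero]⟩
      neg_mem' := fun {a} ha => by rwa [show -a = a from funext fun p => CharTwo.neg_eq (a p)] }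
  have : x ∈ K := by
    rw [← code_expand hx]
    refine sum_mem fun i _ => ?_
    rcases zmod2_cases (x (pivot i)) with e | e <;> rw [e]
    · rw [zero_smul]; exact zero_mem _
    · rw [one_smul]; exact ⟨basisWord_mem i, hd i⟩
  exact this.2

end

/-- The k-th index. -/
def ix (k : ℕ) : Fin 12 := ⟨k % 12, Nat.mod_lt _ (by norm_num)⟩

/-- The part of a word on the first basis words. -/
def pre (x : W) : ℕ → W
  | 0 => 0
  | k + 1 => pre x k + x (pivot (ix k)) • basisWord (ix k)

theorem pre_mem (x : W) : ∀ k, pre x k ∈ golayCode
  | 0 => zero_mem _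
  | k + 1 => add_mem (pre_mem x k) (Submodule.smul_mem _ _ (basisWord_mem _))

theorem pre_add (x y : W) : ∀ k, pre (x + y) k = pre x k + pre y k
  | 0 => (add_zero _).symm
  | k + 1 => by simp only [pre, pre_add x y k, Pi.add_apply, add_smul]; abel

theorem pre_full {x : W} (hx : x ∈ golayCode) : pre x 12 = x := by
  have h : ∀ k, pre x k = ∑ j ∈ Finset.range k, x (pivot (ix j)) • basisWord (ix j) := by
    intro k
    induction k with
    | zero => simp [pre]
    | succ k ih => rw [pre, ih, Finset.sum_range_succ]
  rw [h, Finset.sum_range]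
  conv_rhs => rw [← code_expand hx]
  refine Finset.sum_congr rfl fun i _ => ?_
  rw [show ix i = i from Fin.ext (Nat.mod_eq_of_lt i.isLt)]

/-- A function whose coboundary is the cocycle. -/
def potential (σ : Equiv.Perm GolayPt) (x : W) : ℕ → ZMod 2
  | 0 => 0
  | k + 1 => potential σ x k + x (pivot (ix k)) * cocy σ (pre x k) (basisWord (ix k))

theorem exists_potential {σ : Equiv.Perm GolayPt} (hσ : σ ∈ M24)
    (hb : ∀ i j, cocy σ (basisWord i) (basisWord j) = cocy σ (basisWord j) (basisWord i))
    (hd : ∀ i, cocy σ (basisWord i) (basisWord i) = 0) :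
    ∃ f : W → ZMod 2, ∀ x ∈ golayCode, ∀ y ∈ golayCode,
      f (x + y) = f x + f y + cocy σ x y := by
  have key : ∀ k (x y : W), potential σ (x + y) k =
      potential σ x k + potential σ y k + cocy σ (pre x k) (pre y k) := by
    intro k
    induction k with
    | zero => intro x y; simp [potential, pre, cocy, act_zero, theta_zero_right]
    | succ k ih =>
      intro x y
      simp only [potential, pre, ih x y, pre_add, Pi.add_apply]
      have hx := pre_mem x k
      have hy := pre_mem y k
      have he := basisWord_mem (ix k)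
      revert hx hy he
      generalize pre x k = u
      generalize pre y k = v
      generalize basisWord (ix k) = e
      intro hx hy he
      have k1 := cocy_rel hσ hx hy he
      have k2 := cocy_rel hσ hy hx he
      have k3 := cocy_rel hσ hx he (add_mem hy he)
      have k4 := cocy_rel hσ he he hy
      have e1 : e + (v + e) = v := by
        funext p; simp only [Pi.add_apply]; generalize v p = a; generalize e p = b
        revert a b; decide
      have e2 : e + e = 0 := funext fun p => CharTwo.add_self_eq_zero (e p)
      rw [e1] at k3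
      rw [e2, show cocy σ 0 v = 0 by simp [cocy, act_zero, theta_zero_left],
        cocy_self hσ hb hd he, cocy_symm hσ hb he hy, add_comm e v] at k4
      rw [add_comm v u, cocy_symm hσ hb hy hx, cocy_symm hσ hb hy (add_mem hx he)] at k2
      rcases zmod2_cases (x (pivot (ix k))) with a | a <;>
        rcases zmod2_cases (y (pivot (ix k))) with b | b <;>
        simp only [a, b, zero_smul, one_smul, zero_mul, one_mul, add_zero, zero_add,
          CharTwo.add_self_eq_zero]
      · linear_combination (norm := (ring_nf; simp [CharTwo.two_eq_zero])) k1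
      · linear_combination (norm := (ring_nf; simp [CharTwo.two_eq_zero])) k2
      · linear_combination (norm := (ring_nf; simp [CharTwo.two_eq_zero])) k3 + k4
  refine ⟨fun x => potential σ x 12, fun x hx y hy => ?_⟩
  show potential σ (x + y) 12 = potential σ x 12 + potential σ y 12 + cocy σ x y
  rw [key, pre_full hx, pre_full hy]

end

end Cfsg.Agent.CocodeExt
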