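import Mathlib

/-!
Two simplicity criteria for groups acting 2-transitively on a finite set of points.
-/

set_option autoImplicit false

namespace Cfsg.Agent.Golay24

noncomputable section

open MulAction

variable {G α : Type*} [Group G] [MulAction G α]

/-- `G` stabilises `Ω` and is transitive on ordered pairs of distinct points of it. -/
structure TwoTransOn (G : Type*) {α : Type*} [Group G] [MulAction G α] (Ω : Set α) : Prop where
  maps : ∀ g : G, ∀ x ∈ Ω, g • x ∈ Ω
  pairs : ∀ a ∈ Ω, ∀ b ∈ Ω, ∀ c ∈ Ω, ∀ d ∈ Ω, a ≠ b → c ≠ d → ∃ g : G, g • a = c ∧ g • b = d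
  faithful : ∀ g : G, (∀ x ∈ Ω, g • x = x) → g = 1

theorem TwoTransOn.normal_transitive {Ω : Set α} (h : TwoTransOn G Ω) (N : Subgroup G) [N.Normal]
    (hN : N ≠ ⊥) {b c : α} (hb : b ∈ Ω) (hc : c ∈ Ω) : ∃ n ∈ N, n • b = c := by
  obtain ⟨n, hn, hn1⟩ : ∃ n ∈ N, n ≠ (1 : G) := by
    by_contra hall
    apply hN
    rw [Subgroup.eq_bot_iff_forall]
    intro x hx
    by_contra hx1
    exact hall ⟨x, hx, hx1⟩
  obtain ⟨a, ha, hne⟩ : ∃ a ∈ Ω, n • a ≠ a := by
    by_contra hall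
    apply hn1
    refine h.faithful n fun x hx => ?_
    by_contra hxx
    exact hall ⟨x, hx, hxx⟩
  by_cases hbc : b = c
  · exact ⟨1, N.one_mem, by simp [hbc]⟩
  · obtain ⟨g, hga, hgn⟩ := h.pairs a ha (n • a) (h.maps n a ha) b hb c hc (Ne.symm hne) hbc
    refine ⟨g * n * g⁻¹, Subgroup.Normal.conj_mem ‹_› n hn g, ?_⟩
    rw [← hga, mul_smul, mul_smul, inv_smul_smul, hgn]

theorem TwoTransOn.ncard_dvd_card_normal {Ω : Set α} [Finite G] (h : TwoTransOn G Ω)
    (N : Subgroup G) [N.Normal] (hN : N ≠ ⊥) {a : α} (ha : a ∈ Ω) : Ω.ncard ∣ Nat.card N := by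
  have horb : orbit N a = Ω := by
    ext x
    constructor
    · rintro ⟨n, rfl⟩
      exact h.maps (n : G) a ha
    · intro hx
      obtain ⟨n, hn, rfl⟩ := h.normal_transitive N hN ha hx
      exact ⟨⟨n, hn⟩, rfl⟩
  have e : (stabilizer N a).index = Ω.ncard := by
    rw [index_stabilizer, horb]
  exact e ▸ Subgroup.index_dvd_card _

/-- A group 2-transitive on `Ω` is simple if it is generated by elements of prime order `p`, where
`p` divides the size of `Ω` and `p²` does not divide the group order. -/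
theorem isSimple_of_prime_gen [Finite G] [Nontrivial G] {Ω : Set α} (h : TwoTransOn G Ω) {a : α}
    (ha : a ∈ Ω) {p : ℕ} (hp : p.Prime) (hdvd : p ∣ Ω.ncard) (hsq : ¬ p ^ 2 ∣ Nat.card G)
    (hgen : Subgroup.closure {g : G | g ^ p = 1} = ⊤) : IsSimpleGroup G := by
  haveI : Fact p.Prime := ⟨hp⟩
  refine ⟨fun N hN => ?_⟩
  by_cases hbot : N = ⊥
  · exact Or.inl hbot
  right
  haveI := hN
  obtain ⟨⟨x, hxN⟩, hx⟩ := exists_prime_orderOf_dvd_card' (G := N) p
    (dvd_trans hdvd (h.ncard_dvd_card_normal N hbot ha))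
  replace hx : orderOf x = p := by rw [← hx]; exact (Subgroup.orderOf_mk x hxN).symm
  rw [eq_top_iff, ← hgen, Subgroup.closure_le]
  intro g hg
  by_cases hg1 : g = 1
  · exact hg1 ▸ N.one_mem
  have hgo : orderOf g = p := orderOf_eq_prime hg hg1
  have hzp : ∀ y : G, orderOf y = p → IsPGroup p (Subgroup.zpowers y) := fun y hy =>
    IsPGroup.of_card (n := 1) (by rw [Nat.card_zpowers, hy, pow_one])
  obtain ⟨P, hP⟩ := (hzp x hx).exists_le_sylow
  obtain ⟨Q, hQ⟩ := (hzp g hgo).exists_le_sylow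
  have hcard : Nat.card P ≤ p := by
    obtain ⟨k, hk⟩ := IsPGroup.iff_card.1 P.isPGroup'
    rw [hk]
    rcases Nat.lt_or_ge k 2 with h2 | h2
    · calc p ^ k ≤ p ^ 1 := Nat.pow_le_pow_right hp.pos (by omega)
        _ = p := pow_one p
    · exact absurd (dvd_trans (pow_dvd_pow p h2) (hk ▸ Subgroup.card_subgroup_dvd_card _)) hsq
  have hPx : Subgroup.zpowers x = (P : Subgroup G) :=
    Subgroup.eq_of_le_of_card_ge hP (by rw [Nat.card_zpowers, hx]; exact hcard)
  obtain ⟨c, hc⟩ := exists_smul_eq G P Q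
  have hgQ : g ∈ (Q : Subgroup G) := hQ (Subgroup.mem_zpowers g)
  rw [← hc, Sylow.coe_subgroup_smul, ← hPx, Subgroup.mem_pointwise_smul_iff_inv_smul_mem] at hgQ
  have hin : (MulAut.conj c)⁻¹ • g ∈ N := Subgroup.zpowers_le.2 hxN hgQ
  have := Subgroup.Normal.conj_mem hN _ hin c
  simpa [MulAut.smul_def, mul_assoc] using this

/-- A group 2-transitive on `Ω` with simple point stabiliser is simple unless `|Ω|` is a prime
power. -/
theorem isSimple_of_simple_stabilizer [Finite G] [Nontrivial G] {Ω : Set α} (h : TwoTransOn G Ω)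
    {a : α} (ha : a ∈ Ω) (hS : IsSimpleGroup (stabilizer G a)) {q r : ℕ} (hq : q.Prime)
    (hr : r.Prime) (hqr : q ≠ r) (hqd : q ∣ Ω.ncard) (hrd : r ∣ Ω.ncard) : IsSimpleGroup G := by
  refine ⟨fun N hN => ?_⟩
  by_cases hbot : N = ⊥
  · exact Or.inl hbot
  haveI := hN
  have hd := h.ncard_dvd_card_normal N hbot ha
  rcases hS.2 (N.subgroupOf (stabilizer G a)) inferInstance with hS0 | hS0
  · exfalso
    rw [Subgroup.subgroupOf_eq_bot, disjoint_iff] at hS0
    haveI : Fact q.Prime := ⟨hq⟩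
    haveI : Fact r.Prime := ⟨hr⟩
    obtain ⟨⟨x, hxN⟩, hx⟩ := exists_prime_orderOf_dvd_card' (G := N) q (dvd_trans hqd hd)
    obtain ⟨⟨y, hyN⟩, hy⟩ := exists_prime_orderOf_dvd_card' (G := N) r (dvd_trans hrd hd)
    have key : ∀ z ∈ N, z • a = a → z = 1 := fun z hz hza =>
      (Subgroup.eq_bot_iff_forall _).1 hS0 z ⟨hz, hza⟩
    rw [Subgroup.orderOf_mk] at hx hy
    have hxa : x • a ≠ a := fun e => by
      rw [key x hxN e, orderOf_one] at hx; exact hq.one_lt.ne hx
    have hya : y • a ≠ a := fun e => by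
      rw [key y hyN e, orderOf_one] at hy; exact hr.one_lt.ne hy
    obtain ⟨g, hga, hgx⟩ := h.pairs a ha (x • a) (h.maps x a ha) a ha (y • a) (h.maps y a ha)
      (Ne.symm hxa) (Ne.symm hya)
    have hc : g * x * g⁻¹ ∈ N := hN.conj_mem x hxN g
    have he : y⁻¹ * (g * x * g⁻¹) = 1 := by
      refine key _ (N.mul_mem (N.inv_mem hyN) hc) ?_
      have hga' : g⁻¹ • a = a := by rw [inv_smul_eq_iff, hga]
      rw [mul_smul, mul_smul, mul_smul, hga', hgx, inv_smul_smul]
    rw [inv_mul_eq_one] at he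
    apply hqr
    rw [← hx, ← hy, he]
    exact (MulEquiv.orderOf_eq (MulAut.conj g) x).symm
  · right
    rw [eq_top_iff]
    intro g _
    obtain ⟨n, hn, hna⟩ := h.normal_transitive N hbot ha (h.maps g a ha)
    have hst : n⁻¹ * g ∈ stabilizer G a := by
      rw [mem_stabilizer_iff, mul_smul, ← hna, inv_smul_smul]
    have := N.mul_mem hn (Subgroup.subgroupOf_eq_top.1 hS0 hst)
    simpa using this

end

end Cfsg.Agent.Golay24
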