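import Cfsg.Agent.Lib.Golay.M24
import Cfsg.Agent.Lib.Golay.SimpleCrit

/-!
Certificates for subgroups of `Cfsg.M24`: orbit trees, generators with a transversal chain,
and transitivity on tuples read off from a chain.
-/

set_option autoImplicit false

namespace Cfsg.Agent.Golay24

noncomputable section

open Cfsg
open scoped Pointwise

/-! ### Orbit trees -/

/-- The slot `k` of a packed table with fields of width `w`. -/
def getSlot (w P k : ℕ) : ℕ :=
  Nat.land (Nat.shiftRight P (w * k)) (Nat.sub (Nat.shiftLeft 1 w) 1)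

/-- Pack a list into a table with fields of width `w`, the head in slot 0. -/
def packSlots (w : ℕ) : List ℕ → ℕ
  | [] => 0
  | a :: l => Nat.lor a (Nat.shiftLeft (packSlots w l) w)

/-- Check that entry `k` is the image of an earlier entry by a generator, from `k` on. -/
def treeOk (act : ℕ → ℕ → ℕ) (gens : List ℕ) (w P : ℕ) : ℕ → List (ℕ × ℕ) → Bool
  | _, [] => true
  | k, (j, g) :: rest =>
    Nat.blt j k && Nat.blt g gens.length &&
      (getSlot w P k == act (gens.getD g 0) (getSlot w P j)) &&
      treeOk act gens w P (k + 1) rest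

/-- Positions `pos` of the targets in the table. -/
def covTree (w P n : ℕ) : List ℕ → List ℕ → Bool
  | [], _ => true
  | _ :: _, [] => false
  | t :: ts, k :: ks => Nat.blt k n && (getSlot w P k == t) && covTree w P n ts ks

theorem treeOk_spec {act : ℕ → ℕ → ℕ} {gens : List ℕ} {w P : ℕ} :
    ∀ (cert : List (ℕ × ℕ)) (k : ℕ), treeOk act gens w P k cert = true →
      ∀ i, i < cert.length → ∃ j g, j < k + i ∧ g ∈ gens ∧
        getSlot w P (k + i) = act g (getSlot w P j) := by
  intro cert
  induction cert with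
  | nil => intro k _ i hi; simp at hi
  | cons a rest ih =>
    obtain ⟨j, g⟩ := a
    intro k h i hi
    simp only [treeOk, Bool.and_eq_true, Nat.blt_eq, beq_iff_eq] at h
    obtain ⟨⟨⟨hj, hg⟩, he⟩, hr⟩ := h
    cases i with
    | zero => exact ⟨j, gens.getD g 0, by omega, by rw [List.getD_eq_getElem _ _ hg]; simp, by simpa using he⟩
    | succ i =>
      obtain ⟨j', g', h1, h2, h3⟩ := ih (k + 1) hr i (by simpa using hi)
      exact ⟨j', g', by omega, h2, by rw [show k + (i + 1) = k + 1 + i by omega]; exact h3⟩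

theorem covTree_spec {w P n : ℕ} :
    ∀ (ts ks : List ℕ), covTree w P n ts ks = true → ∀ t ∈ ts, ∃ k < n, getSlot w P k = t := by
  intro ts
  induction ts with
  | nil => intro ks _ t ht; simp at ht
  | cons t₀ ts ih =>
    intro ks h t ht
    cases ks with
    | nil => simp [covTree] at h
    | cons k₀ ks =>
      simp only [covTree, Bool.and_eq_true, Nat.blt_eq, beq_iff_eq] at h
      rcases List.mem_cons.1 ht with rfl | ht
      · exact ⟨k₀, h.1.1, h.1.2⟩
      · exact ih ks h.2 t ht

/-- Every target is a translate of the root by an element of `K`. -/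
theorem reach_of_tree {β : Type*} [MulAction (Equiv.Perm GolayPt) β]
    {K : Subgroup (Equiv.Perm GolayPt)} (sem : ℕ → β) (act : ℕ → ℕ → ℕ) {gens : List ℕ}
    (hact : ∀ g ∈ gens, ∀ x, sem (act g x) = toPerm g • sem x)
    (hK : ∀ g ∈ gens, toPerm g ∈ K) {w P : ℕ} {cert : List (ℕ × ℕ)} {ts ks : List ℕ}
    (htree : treeOk act gens w P 1 cert = true)
    (hcov : covTree w P (cert.length + 1) ts ks = true) :
    ∀ t ∈ ts, ∃ σ ∈ K, σ • sem (getSlot w P 0) = sem t := by
  have key : ∀ k, k < cert.length + 1 →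
      ∃ σ ∈ K, σ • sem (getSlot w P 0) = sem (getSlot w P k) := by
    intro k
    induction k using Nat.strong_induction_on with
    | _ k ih =>
      intro hk
      cases k with
      | zero => exact ⟨1, K.one_mem, one_smul _ _⟩
      | succ i =>
        obtain ⟨j, g, hj, hg, he⟩ := treeOk_spec cert 1 htree i (by omega)
        obtain ⟨σ, hσ, hσe⟩ := ih j (by omega) (by omega)
        refine ⟨toPerm g * σ, K.mul_mem (hK g hg) hσ, ?_⟩
        rw [mul_smul, hσe, ← hact g hg, ← he, Nat.add_comm 1 i]
  intro t ht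
  obtain ⟨k, hk, rfl⟩ := covTree_spec ts ks hcov t ht
  exact key k hk

/-- Two masks in one number. -/
def semPair (x : ℕ) : Finset GolayPt × Finset GolayPt :=
  (setOf (Nat.land x 16777215), setOf (Nat.shiftRight x 24))

/-- Action on two masks in one number. -/
def imgPair (p x : ℕ) : ℕ :=
  Nat.lor (img p (Nat.land x 16777215)) (Nat.shiftLeft (img p (Nat.shiftRight x 24)) 24)

theorem semPair_imgPair {p : ℕ} (h : validP p = true) (x : ℕ) :
    semPair (imgPair p x) = toPerm p • semPair x := by
  have e : imgPair p x = img p (Nat.land x 16777215) ||| (img p (Nat.shiftRight x 24)) <<< 24 := rfl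
  have h1 := img_lt h (Nat.land x 16777215)
  have hf : ∀ i : ℕ, (16777215 : ℕ).testBit i = decide (i < 24) := fun i =>
    Nat.testBit_two_pow_sub_one 24 i
  rw [semPair, semPair, Prod.smul_mk, smul_setOf h, smul_setOf h, e]
  refine Prod.ext (Finset.ext fun y => ?_) (Finset.ext fun y => ?_)
  · simp only [mem_setOf]
    have hl : ∀ a : ℕ, Nat.land a 16777215 = a &&& 16777215 := fun _ => rfl
    rw [hl, Nat.testBit_and, Nat.testBit_or, Nat.testBit_shiftLeft, hf]
    simp [(idx y).isLt]
  · simp only [mem_setOf]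
    have hs : ∀ a : ℕ, Nat.shiftRight a 24 = a >>> 24 := fun _ => rfl
    rw [hs, Nat.testBit_shiftRight, Nat.testBit_or, Nat.testBit_shiftLeft,
      Nat.testBit_lt_two_pow (lt_of_lt_of_le h1 (Nat.pow_le_pow_right (by norm_num) (by omega)))]
    simp

/-! ### Stabilisers -/

theorem orbit_eq_of_reach {G β : Type*} [Group G] [MulAction G β] {x : β} {S : Set β}
    (hx : x ∈ S) (hmaps : ∀ g : G, ∀ y ∈ S, g • y ∈ S) (hreach : ∀ y ∈ S, ∃ g : G, g • x = y) :
    MulAction.orbit G x = S := by
  ext y
  exact ⟨fun ⟨g, hg⟩ => hg ▸ hmaps g x hx, fun hy => (hreach y hy).imp fun _ => id⟩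

theorem card_stabilizer_of_orbit {G β : Type*} [Group G] [MulAction G β] {x : β}
    {n m : ℕ} (hn : (MulAction.orbit G x).ncard = n) (hG : Nat.card G = n * m) (hn0 : n ≠ 0) :
    Nat.card (MulAction.stabilizer G x) = m := by
  have h := (MulAction.stabilizer G x).index_mul_card
  rw [MulAction.index_stabilizer, hn, hG] at h
  exact Nat.eq_of_mul_eq_mul_left (Nat.pos_of_ne_zero hn0) h

/-! ### Generators with a chain -/

/-- Data: generators, a straight-line program and a chain given by indices into its output. -/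
structure GenCert where
  gens : List ℕ
  prog : List (ℕ × ℕ)
  levels : List (ℕ × List ℕ)

/-- The transversal chain of a certificate. -/
def GenCert.chain (c : GenCert) : List (ℕ × List ℕ) :=
  let out := slp c.gens c.prog
  c.levels.map fun p => (p.1, p.2.map fun k => out.getD k 0)

/-- All checks on a certificate. -/
def GenCert.ok (c : GenCert) : Bool :=
  c.gens.all inM24 && slpOk c.gens.length c.prog &&
    c.levels.all (fun p => p.2.all fun k => Nat.blt k (c.gens.length + c.prog.length)) &&
    chainOk [] c.chain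

/-- The subgroup generated by the generators of a certificate. -/
def GenCert.grp (c : GenCert) : Subgroup (Equiv.Perm GolayPt) :=
  Subgroup.closure {σ | ∃ g ∈ c.gens, toPerm g = σ}

theorem GenCert.gen_mem (c : GenCert) {g : ℕ} (hg : g ∈ c.gens) : toPerm g ∈ c.grp :=
  Subgroup.subset_closure ⟨g, hg, rfl⟩

theorem GenCert.gen_valid {c : GenCert} (h : c.ok = true) {g : ℕ} (hg : g ∈ c.gens) :
    validP g = true := by
  simp only [GenCert.ok, Bool.and_eq_true] at h
  exact valid_of_inM24 (List.all_eq_true.1 h.1.1.1 g hg)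

theorem GenCert.grp_le_M24 {c : GenCert} (h : c.ok = true) : c.grp ≤ M24 := by
  simp only [GenCert.ok, Bool.and_eq_true] at h
  rw [GenCert.grp, Subgroup.closure_le]
  rintro _ ⟨g, hg, rfl⟩
  exact toPerm_mem_M24 (List.all_eq_true.1 h.1.1.1 g hg)

theorem GenCert.chain_mem {c : GenCert} (h : c.ok = true) {p : ℕ × List ℕ} (hp : p ∈ c.chain)
    {t : ℕ} (ht : t ∈ p.2) : validP t = true ∧ toPerm t ∈ c.grp := by
  simp only [GenCert.ok, Bool.and_eq_true] at h
  obtain ⟨⟨⟨hg, hs⟩, hl⟩, -⟩ := h
  simp only [GenCert.chain, List.mem_map] at hp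
  obtain ⟨q, hq, rfl⟩ := hp
  simp only [List.mem_map] at ht
  obtain ⟨k, hk, rfl⟩ := ht
  have hk' : k < (slp c.gens c.prog).length := by
    rw [slp_length]
    simpa using List.all_eq_true.1 (List.all_eq_true.1 hl q hq) k hk
  rw [List.getD_eq_getElem _ _ hk']
  exact slp_mem c.prog c.gens hs
    (fun g hg' => ⟨valid_of_inM24 (List.all_eq_true.1 hg g hg'), c.gen_mem hg'⟩) _
    (List.getElem_mem hk')

theorem GenCert.le_card {c : GenCert} (h : c.ok = true) : chainProd c.chain ≤ Nat.card c.grp := by
  refine chainProd_le_card _ _ ?_ fun p hp t ht => (c.chain_mem h hp ht).2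
  simp only [GenCert.ok, Bool.and_eq_true] at h
  exact h.2

theorem GenCert.grp_eq {c : GenCert} (h : c.ok = true) {H : Subgroup (Equiv.Perm GolayPt)}
    (hgen : ∀ g ∈ c.gens, toPerm g ∈ H) (hcard : Nat.card H ≤ chainProd c.chain) : c.grp = H := by
  refine Subgroup.eq_of_le_of_card_ge ?_ (le_trans hcard (c.le_card h))
  rw [GenCert.grp, Subgroup.closure_le]
  rintro _ ⟨g, hg, rfl⟩
  exact hgen g hg

/-! ### Transitivity on tuples from a chain -/

/-- All level elements fix `Ω` setwise and their base images cover `Ω` minus the earlier base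
points, which lie in `Ω`. -/
def coverOk (Ω : ℕ) : List ℕ → List (ℕ × List ℕ) → Bool
  | _, [] => true
  | fixd, (b, ts) :: rest =>
    Nat.testBit Ω b && (Nat.blt b 24 && !fixd.contains b) &&
      ts.all (fun t => validP t && (img t Ω == Ω) && fixd.all fun f => app t f == f) &&
      (List.range 24).all (fun i => !Nat.testBit Ω i || fixd.contains i ||
        (ts.map fun t => app t b).contains i) &&
      coverOk Ω (fixd ++ [b]) rest

theorem exists_tuple_map {K : Subgroup (Equiv.Perm GolayPt)} {Ω : ℕ} :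
    ∀ (lv : List (ℕ × List ℕ)) (fixd : List ℕ), coverOk Ω fixd lv = true →
      (∀ p ∈ lv, ∀ t ∈ p.2, toPerm t ∈ K) →
      ∀ xs : List GolayPt, xs.length ≤ lv.length → xs.Nodup →
      (∀ x ∈ xs, x ∈ setOf Ω ∧ (idx x : ℕ) ∉ fixd) →
      ∃ σ ∈ K, σ • setOf Ω = setOf Ω ∧ (∀ y : GolayPt, (idx y : ℕ) ∈ fixd → σ y = y) ∧
        ∀ (k : ℕ) (hk : k < xs.length) (y : GolayPt),
          (idx y : ℕ) = (lv.getD k (0, [])).1 → σ y = xs[k] := by
  intro lv
  induction lv with
  | nil =>
    intro fixd _ _ xs hlen _ _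
    refine ⟨1, K.one_mem, one_smul _ _, fun _ _ => rfl, fun k hk => absurd hk ?_⟩
    simp at hlen; simp [hlen]
  | cons p rest ih =>
    obtain ⟨b, ts⟩ := p
    intro fixd hok hK xs hlen hnd hxs
    cases xs with
    | nil => exact ⟨1, K.one_mem, one_smul _ _, fun _ _ => rfl, fun k hk => absurd hk (by simp)⟩
    | cons x xs =>
      simp only [coverOk, Bool.and_eq_true, List.all_eq_true, List.mem_range, Bool.or_eq_true,
        Bool.not_eq_true', List.contains_iff_mem, beq_iff_eq, List.contains_eq_mem,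
        decide_eq_false_iff_not, decide_eq_true_eq] at hok
      obtain ⟨⟨⟨⟨hbΩ, -, hbf⟩, hts⟩, hcov⟩, hrest⟩ := hok
      obtain ⟨hxΩ, hxf⟩ := hxs x List.mem_cons_self
      rw [mem_setOf] at hxΩ
      rcases hcov (idx x) (idx x).isLt with (hc | hc) | hc
      · rw [hxΩ] at hc; exact absurd hc (by simp)
      · exact absurd hc hxf
      obtain ⟨t, ht, hte⟩ := List.mem_map.1 hc
      obtain ⟨⟨htv, htΩ⟩, htf⟩ := hts t ht
      have htK := hK (b, ts) List.mem_cons_self t ht
      have hΩ : toPerm t • setOf Ω = setOf Ω := by rw [smul_setOf htv, htΩ]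
      have hfix : ∀ y : GolayPt, (idx y : ℕ) ∈ fixd → toPerm t y = y := fun y hy =>
        idx_inj.1 (Fin.ext (by rw [idx_toPerm htv, htf _ hy]))
      obtain ⟨σ, hσK, hσΩ, hσf, hσx⟩ := ih (fixd ++ [b]) hrest
        (fun q hq => hK q (List.mem_cons_of_mem _ hq)) (xs.map (toPerm t).symm)
        (by simpa using hlen) ((List.nodup_cons.1 hnd).2.map (toPerm t).symm.injective) (by
          intro y hy
          obtain ⟨z, hz, rfl⟩ := List.mem_map.1 hy
          obtain ⟨hzΩ, hzf⟩ := hxs z (List.mem_cons_of_mem _ hz)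
          refine ⟨?_, ?_⟩
          · rw [← hΩ, Finset.mem_smul_finset] at hzΩ
            obtain ⟨w, hw, rfl⟩ := hzΩ
            simpa using hw
          · intro hmem
            rcases List.mem_append.1 hmem with hmem | hmem
            · have := hfix _ hmem
              rw [Equiv.apply_symm_apply] at this
              exact hzf (this ▸ hmem)
            · rw [List.mem_singleton] at hmem
              have h1 := idx_toPerm htv ((toPerm t).symm z)
              rw [Equiv.apply_symm_apply, hmem, hte] at h1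
              exact (List.nodup_cons.1 hnd).1 (idx_inj.1 (Fin.ext h1) ▸ hz))
      refine ⟨toPerm t * σ, K.mul_mem htK hσK, by rw [mul_smul, hσΩ, hΩ], ?_, ?_⟩
      · intro y hy
        rw [Equiv.Perm.mul_apply, hσf y (List.mem_append_left _ hy), hfix y hy]
      · intro k hk y hy
        rw [Equiv.Perm.mul_apply]
        cases k with
        | zero =>
          rw [hσf y (List.mem_append_right _ (by simpa using hy))]
          refine idx_inj.1 (Fin.ext ?_)
          rw [idx_toPerm htv, show (idx y : ℕ) = b by simpa using hy, hte]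
          rfl
        | succ k =>
          rw [hσx k (by simpa using hk) y (by simpa using hy)]
          simp

/-- The same, applied to tuples given by embeddings. -/
theorem exists_embedding_map {K : Subgroup (Equiv.Perm GolayPt)} {Ω n : ℕ}
    {lv : List (ℕ × List ℕ)} (hok : coverOk Ω [] lv = true)
    (hK : ∀ p ∈ lv, ∀ t ∈ p.2, toPerm t ∈ K) (hn : n ≤ lv.length)
    (x y : Fin n ↪ GolayPt) (hx : ∀ i, x i ∈ setOf Ω) (hy : ∀ i, y i ∈ setOf Ω) :
    ∃ σ ∈ K, σ • setOf Ω = setOf Ω ∧ ∀ i, σ (x i) = y i := by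
  obtain ⟨f, hf, hfΩ, -, hfx⟩ := exists_tuple_map lv [] hok hK (List.ofFn x) (by simpa using hn)
    (List.nodup_ofFn.2 x.injective) (by simpa [List.mem_ofFn] using hx)
  obtain ⟨g, hg, hgΩ, -, hgy⟩ := exists_tuple_map lv [] hok hK (List.ofFn y) (by simpa using hn)
    (List.nodup_ofFn.2 y.injective) (by simpa [List.mem_ofFn] using hy)
  refine ⟨g * f⁻¹, K.mul_mem hg (K.inv_mem hf), ?_, fun i => ?_⟩
  · rw [mul_smul, inv_smul_eq_iff.2 hfΩ.symm, hgΩ]
  have hlv : ∀ (l : List (ℕ × List ℕ)) (fd : List ℕ), coverOk Ω fd l = true →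
      ∀ p ∈ l, p.1 < 24 := by
    intro l
    induction l with
    | nil => simp
    | cons q r ih =>
      obtain ⟨c, us⟩ := q
      intro fd h p hp
      simp only [coverOk, Bool.and_eq_true, Nat.blt_eq] at h
      rcases List.mem_cons.1 hp with rfl | hp
      · exact h.1.1.1.2.1
      · exact ih _ h.2 p hp
  have hi : (i : ℕ) < lv.length := lt_of_lt_of_le i.isLt hn
  have hb : (lv.getD i (0, [])).1 < 24 := hlv lv [] hok _ (by
    rw [List.getD_eq_getElem _ _ hi]; exact List.getElem_mem hi)
  have e1 := hfx i (by simp) (pt ⟨_, hb⟩) (by simp)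
  have e2 := hgy i (by simp) (pt ⟨_, hb⟩) (by simp)
  rw [List.getElem_ofFn] at e1 e2
  rw [Equiv.Perm.mul_apply, ← e1, Equiv.Perm.coe_inv, Equiv.symm_apply_apply]
  exact e2

end

end Cfsg.Agent.Golay24
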