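import Cfsg.Agent.Lib.Golay.SylowM24
import Cfsg.Agent.Lib.Golay.ClassData

/-!
The classes of elements of order 2 and of order 3 of M24.
-/

set_option autoImplicit false

namespace Cfsg.Agent.Golay24

noncomputable section

open Cfsg
open scoped Pointwise

attribute [local irreducible] m24Prog m24Levels m24Stages

/-- The number of points fixed by a permutation of the 24 points. -/
def fixCount (g : Equiv.Perm GolayPt) : ℕ := (Finset.univ.filter fun x => g x = x).card

theorem fixCount_conj (k g : Equiv.Perm GolayPt) : fixCount (k * g * k⁻¹) = fixCount g := by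
  refine (Finset.card_equiv k fun x => ?_).symm
  constructor
  · intro h
    refine Finset.mem_filter.2 ⟨Finset.mem_univ _, ?_⟩
    simp [(Finset.mem_filter.1 h).2]
  · intro h
    refine Finset.mem_filter.2 ⟨Finset.mem_univ _, k.injective ?_⟩
    simpa using (Finset.mem_filter.1 h).2

theorem fixCount_eq_zero_iff (g : Equiv.Perm GolayPt) : fixCount g = 0 ↔ ∀ x, g x ≠ x := by
  simp [fixCount, Finset.filter_eq_empty_iff]

theorem fixCount_toPerm {p : ℕ} (hp : validP p = true) :
    fixCount (toPerm p) =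
      (Finset.univ.filter fun x : GolayPt => app p (idx x) = (idx x : ℕ)).card := by
  refine congrArg Finset.card (Finset.filter_congr fun x _ => ?_)
  rw [← idx_toPerm hp, ← Fin.ext_iff, idx_inj]

/-- The packed code squares to the identity. -/
def sqB (p : ℕ) : Bool := (List.range 24).all fun i => app p (app p i) == i

/-- The packed code cubes to the identity. -/
def cubeB (p : ℕ) : Bool := (List.range 24).all fun i => app p (app p (app p i)) == i

theorem sqB_iff {p : ℕ} (hp : validP p = true) : sqB p = true ↔ toPerm p ^ 2 = 1 := by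
  simp only [sqB, List.all_eq_true, List.mem_range, beq_iff_eq]
  constructor
  · intro h
    refine Equiv.ext fun x => idx_inj.1 (Fin.ext ?_)
    simp only [pow_two, Equiv.Perm.mul_apply, idx_toPerm hp, Equiv.Perm.one_apply]
    exact h _ (idx x).isLt
  · intro h i hi
    have := congrArg (fun e : Equiv.Perm GolayPt => (idx (e (pt ⟨i, hi⟩)) : ℕ)) h
    simpa [pow_two, idx_toPerm hp] using this

theorem cubeB_iff {p : ℕ} (hp : validP p = true) : cubeB p = true ↔ toPerm p ^ 3 = 1 := by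
  simp only [cubeB, List.all_eq_true, List.mem_range, beq_iff_eq]
  constructor
  · intro h
    refine Equiv.ext fun x => idx_inj.1 (Fin.ext ?_)
    simp only [pow_succ, pow_zero, one_mul, Equiv.Perm.mul_apply, idx_toPerm hp,
      Equiv.Perm.one_apply]
    exact h _ (idx x).isLt
  · intro h i hi
    have := congrArg (fun e : Equiv.Perm GolayPt => (idx (e (pt ⟨i, hi⟩)) : ℕ)) h
    simpa [pow_succ, idx_toPerm hp] using this

/-- `k` conjugates `p` to one of the representatives, or `p` is irrelevant. -/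
def conjOk (good : ℕ → Bool) (reps : List ℕ) (pk : ℕ × ℕ) : Bool :=
  !good pk.1 || isIdP pk.1 ||
    (inM24 pk.2 && reps.any fun r => compP pk.2 pk.1 == compP r pk.2)

theorem conj_of_conjOk {good : ℕ → Bool} {reps : List ℕ} {p k : ℕ}
    (hok : conjOk good reps (p, k) = true) (hgood : good p = true) (hp : validP p = true)
    (hreps : ∀ r ∈ reps, validP r = true) (hne : toPerm p ≠ 1) :
    ∃ h ∈ M24, ∃ r ∈ reps, h * toPerm p * h⁻¹ = toPerm r := by
  simp only [conjOk, hgood, Bool.not_true, Bool.false_or, Bool.or_eq_true, Bool.and_eq_true,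
    List.any_eq_true, beq_iff_eq] at hok
  rcases hok with h | ⟨hk, r, hr, he⟩
  · exact absurd (toPerm_eq_one_of_isIdP hp h) hne
  refine ⟨toPerm k, toPerm_mem_M24 hk, r, hr, ?_⟩
  rw [mul_inv_eq_iff_eq_mul]
  exact mul_eq_of_compP (valid_of_inM24 hk) hp (hreps r hr) (valid_of_inM24 hk) he

theorem classReps_ok :
    (([invEight, invNone].all fun r => inM24 r && sqB r) &&
      ([triSix, triNone].all fun r => inM24 r && cubeB r) &&
      ((Finset.univ.filter fun x : GolayPt => app invEight (idx x) = (idx x : ℕ)).card == 8) &&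
      ((Finset.univ.filter fun x : GolayPt => app invNone (idx x) = (idx x : ℕ)).card == 0) &&
      ((Finset.univ.filter fun x : GolayPt => app triSix (idx x) = (idx x : ℕ)).card == 6) &&
      ((Finset.univ.filter fun x : GolayPt => app triNone (idx x) = (idx x : ℕ)).card == 0)) =
      true := by
  decide +kernel

theorem invEight_spec : toPerm invEight ∈ M24 ∧ orderOf (toPerm invEight) = 2 ∧
    fixCount (toPerm invEight) = 8 := by
  have h := classReps_ok
  simp only [Bool.and_eq_true, List.all_cons, List.all_nil, beq_iff_eq] at h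
  obtain ⟨⟨⟨⟨⟨⟨⟨hM, hs⟩, -⟩, -⟩, hf⟩, -⟩, -⟩, -⟩ := h
  have hv := valid_of_inM24 hM
  have hc : fixCount (toPerm invEight) = 8 := by rw [fixCount_toPerm hv, hf]
  refine ⟨toPerm_mem_M24 hM, orderOf_eq_prime ((sqB_iff hv).1 hs) fun e => ?_, hc⟩
  rw [e] at hc
  revert hc
  decide +kernel

theorem invNone_spec : toPerm invNone ∈ M24 ∧ orderOf (toPerm invNone) = 2 ∧
    fixCount (toPerm invNone) = 0 := by
  have h := classReps_ok
  simp only [Bool.and_eq_true, List.all_cons, List.all_nil, beq_iff_eq] at h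
  obtain ⟨⟨⟨⟨⟨⟨-, ⟨hM, hs⟩, -⟩, -⟩, -⟩, hf⟩, -⟩, -⟩ := h
  have hv := valid_of_inM24 hM
  have hc : fixCount (toPerm invNone) = 0 := by rw [fixCount_toPerm hv, hf]
  refine ⟨toPerm_mem_M24 hM, orderOf_eq_prime ((sqB_iff hv).1 hs) fun e => ?_, hc⟩
  rw [e] at hc
  revert hc
  decide +kernel

theorem triSix_spec : toPerm triSix ∈ M24 ∧ orderOf (toPerm triSix) = 3 ∧
    fixCount (toPerm triSix) = 6 := by
  have h := classReps_ok
  simp only [Bool.and_eq_true, List.all_cons, List.all_nil, beq_iff_eq] at h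
  obtain ⟨⟨⟨⟨⟨-, ⟨hM, hs⟩, -⟩, -⟩, -⟩, hf⟩, -⟩ := h
  have hv := valid_of_inM24 hM
  have hc : fixCount (toPerm triSix) = 6 := by rw [fixCount_toPerm hv, hf]
  refine ⟨toPerm_mem_M24 hM, orderOf_eq_prime ((cubeB_iff hv).1 hs) fun e => ?_, hc⟩
  rw [e] at hc
  revert hc
  decide +kernel

theorem triNone_spec : toPerm triNone ∈ M24 ∧ orderOf (toPerm triNone) = 3 ∧
    fixCount (toPerm triNone) = 0 := by
  have h := classReps_ok
  simp only [Bool.and_eq_true, List.all_cons, List.all_nil, beq_iff_eq] at h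
  obtain ⟨⟨⟨⟨⟨-, -, ⟨hM, hs⟩, -⟩, -⟩, -⟩, -⟩, hf⟩ := h
  have hv := valid_of_inM24 hM
  have hc : fixCount (toPerm triNone) = 0 := by rw [fixCount_toPerm hv, hf]
  refine ⟨toPerm_mem_M24 hM, orderOf_eq_prime ((cubeB_iff hv).1 hs) fun e => ?_, hc⟩
  rw [e] at hc
  revert hc
  decide +kernel

/-! ### Involutions -/

theorem invConjs_ok : ((m24Syl.elems.zip invConjs).all (conjOk sqB [invEight, invNone]) &&
    (m24Syl.elems.length == invConjs.length)) = true := by decide +kernel

theorem exists_conj_involution {g : Equiv.Perm GolayPt} (hg : g ∈ M24) (h2 : orderOf g = 2) :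
    ∃ k ∈ M24, k * g * k⁻¹ = toPerm invEight ∨ k * g * k⁻¹ = toPerm invNone := by
  haveI : Fact (Nat.Prime 2) := ⟨Nat.prime_two⟩
  have hP : IsPGroup 2 (Subgroup.zpowers (⟨g, hg⟩ : M24)) :=
    IsPGroup.of_card (n := 1) (by rw [Nat.card_zpowers, Subgroup.orderOf_mk, h2, pow_one])
  obtain ⟨S, hS⟩ := hP.exists_le_sylow
  obtain ⟨k₀, hk₀⟩ := MulAction.exists_smul_eq M24 S m24SylHyp.sylow
  have hmem : (k₀ * ⟨g, hg⟩ * k₀⁻¹ : M24) ∈ (m24SylHyp.sylow : Subgroup M24) := by
    rw [← hk₀, Sylow.coe_subgroup_smul, Subgroup.mem_pointwise_smul_iff_inv_smul_mem]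
    simpa [MulAut.smul_def, mul_assoc] using hS (Subgroup.mem_zpowers _)
  rw [m24SylHyp.mem_sylow, m24Syl.mem_grp_iff m24SylHyp.grp] at hmem
  obtain ⟨p, hp, hpe⟩ := hmem
  simp only [Subgroup.coe_mul, Subgroup.coe_inv] at hpe
  have hall := invConjs_ok
  simp only [Bool.and_eq_true, List.all_eq_true, beq_iff_eq] at hall
  obtain ⟨i, hi, rfl⟩ := List.mem_iff_getElem.1 hp
  have hz : (m24Syl.elems[i], invConjs[i]'(hall.2 ▸ hi)) ∈ m24Syl.elems.zip invConjs :=
    List.mem_iff_getElem.2 ⟨i, by simp [List.length_zip, hall.2] at hi ⊢; exact hi, by simp⟩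
  have hv := (m24Syl.valid m24SylHyp.grp hp).1
  have hord : orderOf (toPerm m24Syl.elems[i]) = 2 := by
    rw [hpe, ← h2]
    exact MulEquiv.orderOf_eq (MulAut.conj (k₀ : Equiv.Perm GolayPt)) g
  have hreps : ∀ r ∈ [invEight, invNone], validP r = true := fun r hr => by
    have h := classReps_ok
    simp only [Bool.and_eq_true, List.all_eq_true] at h
    exact valid_of_inM24 (h.1.1.1.1.1 r hr).1
  obtain ⟨h, hh, r, hr, he⟩ := conj_of_conjOk (hall.1 _ hz)
    ((sqB_iff hv).2 (by rw [← hord, pow_orderOf_eq_one])) hv hreps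
    (fun e => by rw [e, orderOf_one] at hord; omega)
  refine ⟨h * k₀, M24.mul_mem hh k₀.2, ?_⟩
  have e : h * (k₀ : Equiv.Perm GolayPt) * g * (h * (k₀ : Equiv.Perm GolayPt))⁻¹ = toPerm r := by
    rw [← he, hpe]; group
  simp only [List.mem_cons, List.not_mem_nil, or_false] at hr
  rcases hr with rfl | rfl
  · exact Or.inl e
  · exact Or.inr e

/-! ### Elements of order three -/

/-- The Sylow 3-subgroup as a set. -/
def sylThreeSet : Set (Equiv.Perm GolayPt) := toPerm '' {p | p ∈ sylThreeElems}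

theorem sylThree_ok : ((sylThreeElems.all fun p => inM24 p && (compP p idP == p)) &&
    (sylThreeElems.all fun p => sylThreeElems.all fun q => sylThreeElems.contains (compP p q)) &&
    (sylThreeElems.any isIdP) && decide sylThreeElems.Nodup && (sylThreeElems.length == 27) &&
    ((sylThreeElems.zip triConjs).all (conjOk cubeB [triSix, triNone])) &&
    (triConjs.length == 27)) = true := by decide +kernel

/-- The Sylow 3-subgroup. -/
def sylThreeGrp : Subgroup M24 :=
  Subgroup.closure {x : M24 | (x : Equiv.Perm GolayPt) ∈ sylThreeSet}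

theorem mem_sylThreeGrp {x : M24} :
    x ∈ sylThreeGrp ↔ (x : Equiv.Perm GolayPt) ∈ sylThreeSet := by
  refine ⟨fun hx => ?_, fun hx => Subgroup.subset_closure hx⟩
  have h := sylThree_ok
  simp only [Bool.and_eq_true, List.all_eq_true, List.any_eq_true, beq_iff_eq,
    List.contains_iff_mem, decide_eq_true_eq] at h
  obtain ⟨⟨⟨⟨⟨⟨hval, hcl⟩, ⟨e, he, heid⟩⟩, -⟩, -⟩, -⟩, -⟩ := h
  have hone : (1 : Equiv.Perm GolayPt) ∈ sylThreeSet :=
    ⟨e, he, toPerm_eq_one_of_isIdP (valid_of_inM24 (hval e he).1) heid⟩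
  have hmul : ∀ a ∈ sylThreeSet, ∀ b ∈ sylThreeSet, a * b ∈ sylThreeSet := by
    rintro _ ⟨a, ha, rfl⟩ _ ⟨b, hb, rfl⟩
    exact ⟨compP a b, hcl a ha b hb,
      toPerm_compP (valid_of_inM24 (hval a ha).1) (valid_of_inM24 (hval b hb).1)⟩
  refine Subgroup.closure_induction (fun y hy => hy) hone
    (fun a b _ _ ha hb => hmul _ ha _ hb) (fun a _ ha => ?_) hx
  have hpow : ∀ n : ℕ, (a : Equiv.Perm GolayPt) ^ n ∈ sylThreeSet := fun n => by
    induction n with
    | zero => rw [pow_zero]; exact hone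
    | succ n ih => rw [pow_succ]; exact hmul _ ih _ ha
  have := hpow (orderOf (a : Equiv.Perm GolayPt) - 1)
  rw [Subgroup.coe_inv]
  convert this using 1
  rw [eq_comm, eq_inv_iff_mul_eq_one, ← pow_succ,
    Nat.sub_add_cancel (orderOf_pos (a : Equiv.Perm GolayPt)), pow_orderOf_eq_one]

theorem card_sylThreeGrp : Nat.card sylThreeGrp = 27 := by
  have h := sylThree_ok
  simp only [Bool.and_eq_true, List.all_eq_true, beq_iff_eq, decide_eq_true_eq] at h
  obtain ⟨⟨⟨⟨⟨⟨hval, -⟩, -⟩, hnd⟩, hlen⟩, -⟩, -⟩ := h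
  have hinj : Set.InjOn toPerm {p | p ∈ sylThreeElems} := fun p hp q hq e =>
    toPerm_inj (valid_of_inM24 (hval p hp).1) (valid_of_inM24 (hval q hq).1) (hval p hp).2
      (hval q hq).2 e
  have himg : Subtype.val '' (sylThreeGrp : Set M24) = sylThreeSet := by
    ext σ
    constructor
    · rintro ⟨x, hx, rfl⟩
      exact mem_sylThreeGrp.1 hx
    · intro hσ
      obtain ⟨p, hp, rfl⟩ := id hσ
      exact ⟨⟨toPerm p, toPerm_mem_M24 (hval p hp).1⟩, mem_sylThreeGrp.2 hσ, rfl⟩
  show Nat.card (sylThreeGrp : Set M24) = 27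
  rw [Nat.card_coe_set_eq, ← Set.ncard_image_of_injective _ Subtype.val_injective, himg,
    sylThreeSet, hinj.ncard_image,
    show {p | p ∈ sylThreeElems} = (↑sylThreeElems.toFinset : Set ℕ) by ext; simp,
    Set.ncard_coe_finset, List.toFinset_card_of_nodup hnd, hlen]

theorem exists_conj_three {g : Equiv.Perm GolayPt} (hg : g ∈ M24) (h3 : orderOf g = 3) :
    ∃ k ∈ M24, k * g * k⁻¹ = toPerm triSix ∨ k * g * k⁻¹ = toPerm triNone := by
  haveI : Fact (Nat.Prime 3) := ⟨Nat.prime_three⟩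
  let Q : Sylow 3 M24 := Sylow.ofCard sylThreeGrp (by
    rw [card_sylThreeGrp, card_M24,
      show (244823040 : ℕ) = 3 ^ 3 * 9067520 by norm_num,
      Nat.factorization_mul (by norm_num) (by norm_num), Finsupp.add_apply,
      Nat.factorization_eq_zero_of_not_dvd (n := 9067520) (p := 3) (by norm_num),
      Nat.prime_three.factorization_pow, Finsupp.single_eq_same]
    norm_num)
  have hP : IsPGroup 3 (Subgroup.zpowers (⟨g, hg⟩ : M24)) :=
    IsPGroup.of_card (n := 1) (by rw [Nat.card_zpowers, Subgroup.orderOf_mk, h3, pow_one])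
  obtain ⟨S, hS⟩ := hP.exists_le_sylow
  obtain ⟨k₀, hk₀⟩ := MulAction.exists_smul_eq M24 S Q
  have hmem : (k₀ * ⟨g, hg⟩ * k₀⁻¹ : M24) ∈ (Q : Subgroup M24) := by
    rw [← hk₀, Sylow.coe_subgroup_smul, Subgroup.mem_pointwise_smul_iff_inv_smul_mem]
    simpa [MulAut.smul_def, mul_assoc] using hS (Subgroup.mem_zpowers _)
  obtain ⟨p, hp, hpe⟩ := mem_sylThreeGrp.1 hmem
  simp only [Subgroup.coe_mul, Subgroup.coe_inv] at hpe
  have hall := sylThree_ok
  simp only [Bool.and_eq_true, List.all_eq_true, beq_iff_eq] at hall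
  obtain ⟨⟨⟨⟨⟨⟨hval, -⟩, -⟩, -⟩, hlen⟩, hz'⟩, hlen'⟩ := hall
  obtain ⟨i, hi, rfl⟩ := List.mem_iff_getElem.1 hp
  have hz : (sylThreeElems[i], triConjs[i]'(by omega)) ∈ sylThreeElems.zip triConjs :=
    List.mem_iff_getElem.2 ⟨i, by simp [List.length_zip]; omega, by simp⟩
  have hv := valid_of_inM24 (hval _ hp).1
  have hord : orderOf (toPerm sylThreeElems[i]) = 3 := by
    rw [hpe, ← h3]
    exact MulEquiv.orderOf_eq (MulAut.conj (k₀ : Equiv.Perm GolayPt)) g
  have hreps : ∀ r ∈ [triSix, triNone], validP r = true := fun r hr => by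
    have h := classReps_ok
    simp only [Bool.and_eq_true, List.all_eq_true] at h
    exact valid_of_inM24 (h.1.1.1.1.2 r hr).1
  obtain ⟨h, hh, r, hr, he⟩ := conj_of_conjOk (hz' _ hz)
    ((cubeB_iff hv).2 (by rw [← hord, pow_orderOf_eq_one])) hv hreps
    (fun e => by rw [e, orderOf_one] at hord; omega)
  refine ⟨h * k₀, M24.mul_mem hh k₀.2, ?_⟩
  have e : h * (k₀ : Equiv.Perm GolayPt) * g * (h * (k₀ : Equiv.Perm GolayPt))⁻¹ = toPerm r := by
    rw [← he, hpe]; group
  simp only [List.mem_cons, List.not_mem_nil, or_false] at hr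
  rcases hr with rfl | rfl
  · exact Or.inl e
  · exact Or.inr e

theorem involution_fix {g : Equiv.Perm GolayPt} (hg : g ∈ M24) (h2 : orderOf g = 2) :
    fixCount g = 8 ∨ fixCount g = 0 := by
  obtain ⟨k, -, h | h⟩ := exists_conj_involution hg h2
  · left; rw [← fixCount_conj k, h]; exact invEight_spec.2.2
  · right; rw [← fixCount_conj k, h]; exact invNone_spec.2.2

theorem three_fix {g : Equiv.Perm GolayPt} (hg : g ∈ M24) (h3 : orderOf g = 3) :
    fixCount g = 6 ∨ fixCount g = 0 := by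
  obtain ⟨k, -, h | h⟩ := exists_conj_three hg h3
  · left; rw [← fixCount_conj k, h]; exact triSix_spec.2.2
  · right; rw [← fixCount_conj k, h]; exact triNone_spec.2.2

theorem conj_eight {g : Equiv.Perm GolayPt} (hg : g ∈ M24) (h2 : orderOf g = 2)
    (hf : fixCount g = 8) : ∃ k ∈ M24, k * g * k⁻¹ = toPerm invEight := by
  obtain ⟨k, hk, h | h⟩ := exists_conj_involution hg h2
  · exact ⟨k, hk, h⟩
  · have := fixCount_conj k g
    rw [h, invNone_spec.2.2, hf] at this
    omega

theorem conj_none {g : Equiv.Perm GolayPt} (hg : g ∈ M24) (h2 : orderOf g = 2)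
    (hf : fixCount g = 0) : ∃ k ∈ M24, k * g * k⁻¹ = toPerm invNone := by
  obtain ⟨k, hk, h | h⟩ := exists_conj_involution hg h2
  · have := fixCount_conj k g
    rw [h, invEight_spec.2.2, hf] at this
    omega
  · exact ⟨k, hk, h⟩

theorem conj_triSix {g : Equiv.Perm GolayPt} (hg : g ∈ M24) (h3 : orderOf g = 3)
    (hf : fixCount g = 6) : ∃ k ∈ M24, k * g * k⁻¹ = toPerm triSix := by
  obtain ⟨k, hk, h | h⟩ := exists_conj_three hg h3
  · exact ⟨k, hk, h⟩
  · have := fixCount_conj k g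
    rw [h, triNone_spec.2.2, hf] at this
    omega

theorem conj_triNone {g : Equiv.Perm GolayPt} (hg : g ∈ M24) (h3 : orderOf g = 3)
    (hf : fixCount g = 0) : ∃ k ∈ M24, k * g * k⁻¹ = toPerm triNone := by
  obtain ⟨k, hk, h | h⟩ := exists_conj_three hg h3
  · have := fixCount_conj k g
    rw [h, triSix_spec.2.2, hf] at this
    omega
  · exact ⟨k, hk, h⟩

end

end Cfsg.Agent.Golay24
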