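import Cfsg.Agent.Lib.Golay.Mask

/-!
The length-24 code as a kernel-computable list of 4096 masks.
-/

set_option autoImplicit false

namespace Cfsg.Agent.Golay24

noncomputable section

open Cfsg

/-- Twelve basis words, in systematic form (pivot positions 0 to 11). -/
def basisMasks : List ℕ :=
  [14919680, 11654144, 8077824, 4038912, 2019456, 15515712,
    11952160, 10170384, 7221256, 13938692, 4845570, 13062145]

/-- All xor-combinations of a list of masks. -/
def spanList : List ℕ → List ℕ
  | [] => [0]
  | b :: l => let r := spanList l; r ++ r.map (Nat.xor b)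

/-- All 4096 code words, as masks. -/
def codeList : List ℕ := spanList basisMasks

/-- The word of a mask. -/
def wordOf (m : ℕ) : GolayPt → ZMod 2 := fun x => if m.testBit (idx x) then 1 else 0

theorem zmod2_cases (a : ZMod 2) : a = 0 ∨ a = 1 := by
  revert a; decide

theorem support₂_wordOf (m : ℕ) : support₂ (wordOf m) = setOf m := by
  ext x
  simp [support₂, wordOf]

theorem support₂_injective : Function.Injective (support₂ : (GolayPt → ZMod 2) → Finset GolayPt) := by
  intro v w h
  funext x
  have hx : (v x ≠ 0) ↔ (w x ≠ 0) := by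
    simpa [support₂] using Finset.ext_iff.1 h x
  rcases zmod2_cases (v x) with h1 | h1 <;> rcases zmod2_cases (w x) with h2 | h2 <;>
    simp [h1, h2] at hx ⊢

theorem wordOf_maskOf_support (w : GolayPt → ZMod 2) : wordOf (maskOf (support₂ w)) = w := by
  apply support₂_injective
  rw [support₂_wordOf, setOf_maskOf]

theorem wordOf_xor (a b : ℕ) : wordOf (a ^^^ b) = wordOf a + wordOf b := by
  funext x
  simp only [wordOf, Nat.testBit_xor, Pi.add_apply]
  cases a.testBit (idx x) <;> cases b.testBit (idx x) <;> simp <;> decide

theorem wordOf_zero : wordOf 0 = 0 := by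
  funext x; simp [wordOf]

theorem hammingNorm_eq_card (w : GolayPt → ZMod 2) : hammingNorm w = (support₂ w).card := rfl

theorem hammingNorm_eq_pop24 (w : GolayPt → ZMod 2) :
    hammingNorm w = pop24 (maskOf (support₂ w)) := by
  rw [hammingNorm_eq_card, card_eq_pop24]

theorem mem_spanList_iff {l : List ℕ} {w : GolayPt → ZMod 2} :
    (∃ m ∈ spanList l, wordOf m = w) ↔
      w ∈ Submodule.span (ZMod 2) (Set.range fun i : Fin l.length => wordOf l[i]) := by
  induction l generalizing w with
  | nil =>
    simp [spanList, wordOf_zero, eq_comm]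
  | cons b l ih =>
    have hr : Set.range (fun i : Fin (b :: l).length => wordOf (b :: l)[i]) =
        insert (wordOf b) (Set.range fun i : Fin l.length => wordOf l[i]) := by
      ext v
      constructor
      · rintro ⟨i, rfl⟩
        revert i
        refine Fin.cases ?_ ?_
        · simp
        · intro i; exact Or.inr ⟨i, by simp⟩
      · rintro (rfl | ⟨i, rfl⟩)
        · exact ⟨⟨0, by simp⟩, by simp⟩
        · exact ⟨i.succ, by simp⟩
    rw [hr, Submodule.mem_span_insert]
    constructor
    · rintro ⟨m, hm, rfl⟩
      simp only [spanList, List.mem_append, List.mem_map] at hm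
      rcases hm with hm | ⟨m', hm', rfl⟩
      · exact ⟨0, _, ih.1 ⟨m, hm, rfl⟩, by simp⟩
      · refine ⟨1, _, ih.1 ⟨m', hm', rfl⟩, ?_⟩
        show wordOf (b ^^^ m') = _
        rw [wordOf_xor, one_smul]
    · rintro ⟨a, z, hz, rfl⟩
      obtain ⟨m, hm, rfl⟩ := ih.2 hz
      rcases zmod2_cases a with rfl | rfl
      · exact ⟨m, by simp [spanList, hm], by simp⟩
      · refine ⟨b ^^^ m, ?_, by simp [wordOf_xor]⟩
        simp only [spanList, List.mem_append, List.mem_map]
        exact Or.inr ⟨m, hm, rfl⟩

/-- The dot product with a fixed word. -/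
def dotLin (v : GolayPt → ZMod 2) : (GolayPt → ZMod 2) →ₗ[ZMod 2] ZMod 2 where
  toFun w := ∑ i, v i * w i
  map_add' a b := by simp [mul_add, Finset.sum_add_distrib]
  map_smul' c a := by
    simp only [Pi.smul_apply, smul_eq_mul, RingHom.id_apply, Finset.mul_sum, mul_left_comm]

/-- The i-th basis word. -/
def basisWord (i : Fin 12) : GolayPt → ZMod 2 := wordOf (basisMasks.getD i 0)

/-- The pivot point of the i-th basis word. -/
def pivot (i : Fin 12) : GolayPt := pt ⟨11 - i.val, by omega⟩

/-- The word of a single non-pivot position, matched to the i-th parity check. -/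
def offPivot (i : Fin 12) : GolayPt := pt ⟨i.val + 12, by omega⟩

theorem basis_dot : ∀ i j : Fin 12, dotLin (basisWord i) (basisWord j) = 0 := by decide +kernel

theorem reconstruct_single : ∀ x : GolayPt,
    (∑ i : Fin 12, (Pi.single x (1 : ZMod 2) : GolayPt → ZMod 2) (pivot i) • basisWord i) +
      (∑ k : Fin 12, (∑ i : Fin 12, basisWord i (offPivot k) *
        dotLin (basisWord i) (Pi.single x (1 : ZMod 2))) •
        (Pi.single (offPivot k) (1 : ZMod 2) : GolayPt → ZMod 2))
      = Pi.single x 1 := by
  decide +kernel

theorem reconstruct (w : GolayPt → ZMod 2) :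
    (∑ i : Fin 12, w (pivot i) • basisWord i) +
      (∑ k : Fin 12, (∑ i : Fin 12, basisWord i (offPivot k) * dotLin (basisWord i) w) •
        (Pi.single (offPivot k) (1 : ZMod 2) : GolayPt → ZMod 2)) = w := by
  let f : (GolayPt → ZMod 2) →ₗ[ZMod 2] (GolayPt → ZMod 2) :=
    (∑ i : Fin 12, (LinearMap.proj (pivot i)).smulRight (basisWord i)) +
      ∑ k : Fin 12, (∑ i : Fin 12, basisWord i (offPivot k) • dotLin (basisWord i)).smulRight
        (Pi.single (offPivot k) (1 : ZMod 2) : GolayPt → ZMod 2)
  have hf : f = LinearMap.id := by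
    refine LinearMap.pi_ext fun x a => ?_
    rcases zmod2_cases a with rfl | rfl
    · simp
    · simpa [f, LinearMap.sum_apply, smul_eq_mul] using reconstruct_single x
  simpa [f, LinearMap.sum_apply, smul_eq_mul] using LinearMap.congr_fun hf w

/-- Coordinates of the translates of the squares in the basis. -/
theorem qrWord_dot : ∀ (i : Fin 12) (t : ZMod 23), dotLin (basisWord i) (qrWord t) = 0 := by
  decide +kernel

theorem one_dot : ∀ i : Fin 12, dotLin (basisWord i) 1 = 0 := by decide +kernel

theorem mem_span_basis_of_dot {w : GolayPt → ZMod 2} (h : ∀ i, dotLin (basisWord i) w = 0) :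
    w ∈ Submodule.span (ZMod 2) (Set.range basisWord) := by
  have e := reconstruct w
  simp only [h, mul_zero, Finset.sum_const_zero, zero_smul, add_zero] at e
  rw [← e]
  exact Submodule.sum_mem _ fun i _ => Submodule.smul_mem _ _ (Submodule.subset_span ⟨i, rfl⟩)

/-- Certificate writing each basis word by translates of the squares and the all-ones word. -/
def basisCert : List ℕ := [8390181, 8390243, 101, 1347, 2000, 8390093,
    8390551, 8390330, 1400, 8389785, 280, 8390313]

/-- The combination of translates selected by a bit mask. -/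
def certWord (c : ℕ) : GolayPt → ZMod 2 :=
  (∑ t : ZMod 23, (if c.testBit t.val then (1 : ZMod 2) else 0) • qrWord t) +
    (if c.testBit 23 then (1 : ZMod 2) else 0) • 1

theorem basis_cert_ok : ∀ i : Fin 12, certWord (basisCert.getD i 0) = basisWord i := by
  decide +kernel

theorem basisWord_mem (i : Fin 12) : basisWord i ∈ golayCode := by
  rw [← basis_cert_ok i, certWord]
  refine Submodule.add_mem _ ?_ (Submodule.smul_mem _ _ (Submodule.subset_span (Or.inr rfl)))
  exact Submodule.sum_mem _ fun t _ =>
    Submodule.smul_mem _ _ (Submodule.subset_span (Or.inl ⟨t, rfl⟩))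

theorem golayCode_le_dot {w : GolayPt → ZMod 2} (h : w ∈ golayCode) (i : Fin 12) :
    dotLin (basisWord i) w = 0 := by
  have : golayCode ≤ LinearMap.ker (dotLin (basisWord i)) := by
    rw [golayCode, Submodule.span_le]
    rintro v (⟨t, rfl⟩ | rfl)
    · exact qrWord_dot i t
    · exact one_dot i
  exact this h

theorem golayCode_eq_span : golayCode = Submodule.span (ZMod 2) (Set.range basisWord) := by
  refine le_antisymm (fun w hw => mem_span_basis_of_dot (golayCode_le_dot hw)) ?_
  rw [Submodule.span_le]
  rintro v ⟨i, rfl⟩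
  exact basisWord_mem i

theorem mem_golayCode_iff_dot {w : GolayPt → ZMod 2} :
    w ∈ golayCode ↔ ∀ i, dotLin (basisWord i) w = 0 :=
  ⟨fun h => golayCode_le_dot h, fun h => golayCode_eq_span ▸ mem_span_basis_of_dot h⟩

theorem codeList_bound_aux : (codeList.all fun m => Nat.blt m 16777216) = true := by
  decide +kernel

theorem codeList_lt {m : ℕ} (h : m ∈ codeList) : m < 2 ^ 24 := by
  have := List.all_eq_true.1 codeList_bound_aux m h
  simpa using this

theorem codeList_length : codeList.length = 4096 := by decide +kernel

theorem mem_golayCode_iff_list {w : GolayPt → ZMod 2} :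
    w ∈ golayCode ↔ maskOf (support₂ w) ∈ codeList := by
  have hr : Set.range (fun i : Fin basisMasks.length => wordOf basisMasks[i]) =
      Set.range basisWord := by
    apply congrArg Set.range
    funext i
    simp [basisWord]
  have key := mem_spanList_iff (l := basisMasks) (w := w)
  rw [hr, ← golayCode_eq_span] at key
  rw [← key]
  constructor
  · rintro ⟨m, hm, rfl⟩
    rwa [support₂_wordOf, maskOf_setOf (codeList_lt hm)]
  · exact fun h => ⟨_, h, wordOf_maskOf_support w⟩

theorem wordOf_mem_iff {m : ℕ} (hm : m < 2 ^ 24) : wordOf m ∈ golayCode ↔ m ∈ codeList := by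
  rw [mem_golayCode_iff_list, support₂_wordOf, maskOf_setOf hm]

/-- The family of supports of code words. -/
theorem mem_supports_iff {s : Finset GolayPt} :
    s ∈ supports (golayCode : Set (GolayPt → ZMod 2)) ↔ maskOf s ∈ codeList := by
  constructor
  · rintro ⟨w, hw, rfl⟩
    exact mem_golayCode_iff_list.1 hw
  · intro h
    exact ⟨wordOf (maskOf s), (wordOf_mem_iff (maskOf_lt s)).2 h,
      by rw [support₂_wordOf, setOf_maskOf]⟩

/-- Parity check of a mask against the twelve basis words. -/
def inCode (m : ℕ) : Bool := basisMasks.all fun b => Nat.land (pop24 (Nat.land b m)) 1 == 0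

theorem dot_wordOf (a : ℕ) (w : GolayPt → ZMod 2) :
    dotLin (wordOf a) w = (pop24 (a &&& maskOf (support₂ w)) : ZMod 2) := by
  rw [← card_setOf, setOf_land, setOf_maskOf, Finset.card_eq_sum_ones, Nat.cast_sum]
  show ∑ i, wordOf a i * w i = _
  rw [← Finset.sum_subset (Finset.subset_univ (setOf a ∩ support₂ w))]
  · refine Finset.sum_congr rfl fun x hx => ?_
    simp only [Finset.mem_inter, mem_setOf, support₂, Finset.mem_filter] at hx
    rcases zmod2_cases (w x) with h | h
    · simp [h] at hx
    · simp [wordOf, hx.1, h]
  · intro x _ hx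
    simp only [Finset.mem_inter, mem_setOf, support₂, Finset.mem_filter, Finset.mem_univ,
      true_and, not_and, not_not] at hx
    by_cases h : a.testBit (idx x) = true
    · simp [hx h]
    · simp [wordOf, h]

theorem mem_codeList_iff_inCode {m : ℕ} (hm : m < 2 ^ 24) : m ∈ codeList ↔ inCode m = true := by
  have h2 : ∀ n : ℕ, (n : ZMod 2) = 0 ↔ (Nat.land n 1 == 0) = true := by
    intro n
    rw [beq_iff_eq, ZMod.natCast_eq_zero_iff_even, Nat.even_iff]
    exact (Iff.of_eq (congrArg (· = 0) (Nat.and_one_is_mod n).symm))
  have hb : ∀ i : Fin 12, dotLin (basisWord i) (wordOf m) = 0 ↔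
      (Nat.land (pop24 (Nat.land (basisMasks.getD i 0) m)) 1 == 0) = true := by
    intro i
    rw [basisWord, dot_wordOf, support₂_wordOf, maskOf_setOf hm]
    exact h2 _
  rw [← wordOf_mem_iff hm, mem_golayCode_iff_dot, inCode, List.all_eq_true]
  constructor
  · intro h b hb'
    obtain ⟨i, hi, rfl⟩ := List.mem_iff_getElem.1 hb'
    have := (hb ⟨i, hi⟩).1 (h _)
    rwa [List.getD_eq_getElem _ _ hi] at this
  · intro h i
    refine (hb i).2 ?_
    rw [List.getD_eq_getElem _ _ i.isLt]
    exact h _ (List.getElem_mem _)

theorem mem_supports_iff_inCode {s : Finset GolayPt} :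
    s ∈ supports (golayCode : Set (GolayPt → ZMod 2)) ↔ inCode (maskOf s) = true := by
  rw [mem_supports_iff, mem_codeList_iff_inCode (maskOf_lt s)]

theorem weights_aux : (codeList.all fun m =>
    let p := pop24 m; p == 0 || p == 8 || p == 12 || p == 16 || p == 24) = true := by
  decide +kernel

theorem weight_cases {m : ℕ} (h : m ∈ codeList) :
    pop24 m = 0 ∨ pop24 m = 8 ∨ pop24 m = 12 ∨ pop24 m = 16 ∨ pop24 m = 24 := by
  have := List.all_eq_true.1 weights_aux m h
  simpa [or_assoc] using this

/-- The masks of the code words of a given weight. -/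
def weightList (n : ℕ) : List ℕ := codeList.filter fun m => pop24 m == n

theorem mem_wordsOfWeight_iff {n : ℕ} {s : Finset GolayPt} :
    s ∈ wordsOfWeight (golayCode : Set (GolayPt → ZMod 2)) n ↔ maskOf s ∈ weightList n := by
  simp [wordsOfWeight, weightList, mem_supports_iff, card_eq_pop24 s]

theorem mem_octads_iff {s : Finset GolayPt} : s ∈ octads ↔ maskOf s ∈ weightList 8 :=
  mem_wordsOfWeight_iff

theorem mem_dodecads_iff {s : Finset GolayPt} : s ∈ dodecads ↔ maskOf s ∈ weightList 12 :=
  mem_wordsOfWeight_iff

theorem weightList_lt {n m : ℕ} (h : m ∈ weightList n) : m < 2 ^ 24 :=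
  codeList_lt (List.mem_of_mem_filter h)

set_option maxRecDepth 20000 in
theorem codeList_pivots :
    (codeList.map fun m => m % 4096) = List.range 4096 := by decide +kernel

theorem codeList_nodup : codeList.Nodup :=
  List.Nodup.of_map (fun m => m % 4096) (by rw [codeList_pivots]; exact List.nodup_range)

theorem weightList_nodup (n : ℕ) : (weightList n).Nodup := codeList_nodup.filter _

theorem weightList_length_8 : (weightList 8).length = 759 := by decide +kernel

theorem weightList_length_12 : (weightList 12).length = 2576 := by decide +kernel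

theorem octads_ncard : octads.ncard = 759 := by
  rw [ncard_of_list _ (weightList_nodup 8) (fun _ => mem_octads_iff) fun _ => weightList_lt,
    weightList_length_8]

theorem dodecads_ncard : dodecads.ncard = 2576 := by
  rw [ncard_of_list _ (weightList_nodup 12) (fun _ => mem_dodecads_iff) fun _ => weightList_lt,
    weightList_length_12]

theorem golayCode_finrank : Module.finrank (ZMod 2) golayCode = 12 := by
  rw [golayCode_eq_span, finrank_span_eq_card, Fintype.card_fin]
  rw [Fintype.linearIndependent_iff]
  intro g hg i
  have e := congrFun hg (pivot i)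
  have piv : ∀ i j : Fin 12, basisWord j (pivot i) = if j = i then 1 else 0 := by decide +kernel
  simpa [Finset.sum_apply, piv, Finset.sum_ite_eq'] using e

end

end Cfsg.Agent.Golay24
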