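import Cfsg.Agent.Lib.Golay.Gens

/-!
Normalising configurations of subsets under the group of the code, one subset at a time.
A step is certified by generators fixing the earlier sets and an orbit tree through the
family of allowed next sets.
-/

set_option autoImplicit false

namespace Cfsg.Agent.Golay24

noncomputable section

open Cfsg
open scoped Pointwise

/-- A certified step: `gens` fix every mask of the roots so far, and the orbit of `root`
covers a family. -/
structure StepCert where
  root : ℕ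
  gens : List ℕ
  orb : List ℕ
  tree : List (ℕ × ℕ)
  pos : List ℕ

/-- All checks of a step against the earlier roots and the family. -/
def StepCert.ok (c : StepCert) (R : List ℕ) (fam : List ℕ) : Bool :=
  c.gens.all (fun g => inM24 g && R.all fun m => img g m == m) &&
    treeOk img c.gens 24 (packSlots 24 c.orb) 1 c.tree &&
    covTree 24 (packSlots 24 c.orb) (c.tree.length + 1) fam c.pos &&
    (getSlot 24 (packSlots 24 c.orb) 0 == c.root)

/-- `σ` carries the root sets to the given sets. -/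
def Carries (σ : Equiv.Perm GolayPt) (R : List ℕ) (ss : List (Finset GolayPt)) : Prop :=
  σ ∈ M24 ∧ R.map (fun m => σ • setOf m) = ss

theorem carries_nil : Carries 1 [] [] := ⟨M24.one_mem, rfl⟩

/-- The subgroup of the group of the code fixing the listed sets. -/
def fixSets (R : List ℕ) : Subgroup (Equiv.Perm GolayPt) where
  carrier := {σ | σ ∈ M24 ∧ ∀ m ∈ R, σ • setOf m = setOf m}
  one_mem' := ⟨M24.one_mem, fun m _ => one_smul _ _⟩
  mul_mem' := fun {a b} ha hb => ⟨M24.mul_mem ha.1 hb.1, fun m hm => by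
    rw [mul_smul, hb.2 m hm, ha.2 m hm]⟩
  inv_mem' := fun {a} ha => ⟨M24.inv_mem ha.1, fun m hm => by
    conv_lhs => rw [← ha.2 m hm, inv_smul_smul]⟩

theorem StepCert.gens_fix {c : StepCert} {R fam : List ℕ} (h : c.ok R fam = true) {g : ℕ}
    (hg : g ∈ c.gens) : validP g = true ∧ toPerm g ∈ fixSets R := by
  simp only [StepCert.ok, Bool.and_eq_true, List.all_eq_true, beq_iff_eq] at h
  obtain ⟨hi, hR⟩ := h.1.1.1 g hg
  exact ⟨valid_of_inM24 hi, toPerm_mem_M24 hi,
    fun m hm => by rw [smul_setOf (valid_of_inM24 hi), hR m hm]⟩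

theorem StepCert.reach {c : StepCert} {R fam : List ℕ} (h : c.ok R fam = true) {t : ℕ}
    (ht : t ∈ fam) : ∃ τ ∈ fixSets R, τ • setOf c.root = setOf t := by
  have hg := fun g (hg : g ∈ c.gens) => c.gens_fix h hg
  simp only [StepCert.ok, Bool.and_eq_true, beq_iff_eq] at h
  obtain ⟨⟨⟨-, htree⟩, hcov⟩, hroot⟩ := h
  have := reach_of_tree (K := fixSets R) setOf img
    (fun g hg' x => (smul_setOf (hg g hg').1 x).symm) (fun g hg' => (hg g hg').2) htree hcov t ht
  rwa [hroot] at this

/-- Extend a normalisation by one set lying (after pulling back) in the family. -/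
theorem StepCert.extend {c : StepCert} {R fam : List ℕ} (h : c.ok R fam = true)
    {σ : Equiv.Perm GolayPt} {ss : List (Finset GolayPt)} (hσ : Carries σ R ss)
    {s : Finset GolayPt} (hs : maskOf (σ⁻¹ • s) ∈ fam) :
    ∃ σ', Carries σ' (R ++ [c.root]) (ss ++ [s]) := by
  obtain ⟨τ, hτ, hτe⟩ := c.reach h hs
  refine ⟨σ * τ, M24.mul_mem hσ.1 hτ.1, ?_⟩
  rw [List.map_append, ← hσ.2]
  congr 1
  · exact List.map_congr_left fun m hm => by rw [mul_smul, hτ.2 m hm]
  · rw [List.map_singleton, mul_smul, hτe, setOf_maskOf, smul_inv_smul]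

/-- Two configurations normalised to the same roots are carried into each other. -/
theorem exists_map_of_carries {R : List ℕ} {σ τ : Equiv.Perm GolayPt}
    {ss tt : List (Finset GolayPt)} (hσ : Carries σ R ss) (hτ : Carries τ R tt) :
    ∃ g ∈ M24, ss.map (g • ·) = tt := by
  refine ⟨τ * σ⁻¹, M24.mul_mem hτ.1 (M24.inv_mem hσ.1), ?_⟩
  rw [← hσ.2, ← hτ.2, List.map_map]
  exact List.map_congr_left fun m _ => by
    simp only [Function.comp, mul_smul, inv_smul_smul]

/-! ### Invariance -/

theorem card_smul_inter (σ : Equiv.Perm GolayPt) (s t : Finset GolayPt) :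
    ((σ • s) ∩ (σ • t)).card = (s ∩ t).card := by
  rw [← Finset.smul_finset_inter, Finset.card_smul_finset]

theorem card_inv_smul_inter (σ : Equiv.Perm GolayPt) (m : ℕ) (s : Finset GolayPt) :
    pop24 (Nat.land m (maskOf (σ⁻¹ • s))) = ((σ • setOf m) ∩ s).card := by
  show pop24 (m &&& _) = _
  rw [← card_setOf, setOf_land, setOf_maskOf, ← card_smul_inter σ, smul_inv_smul]

theorem ncard_smul_transport {σ : Equiv.Perm GolayPt} {P Q : Finset GolayPt → Prop}
    (h : ∀ s, P s ↔ Q (σ • s)) : {s | Q s}.ncard = {s | P s}.ncard := by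
  have : {s | Q s} = (σ • ·) '' {s | P s} := by
    ext s
    simp only [Set.mem_image, Set.mem_ofPred_eq]
    constructor
    · exact fun hs => ⟨σ⁻¹ • s, by rw [h, smul_inv_smul]; exact hs, smul_inv_smul _ _⟩
    · rintro ⟨t, ht, rfl⟩; exact (h t).1 ht
  rw [this, Set.ncard_image_of_injective _ (MulAction.injective σ)]

/-- Count a family of sets described, after pulling back by `σ`, by a list of masks. -/
theorem ncard_of_pullback {σ : Equiv.Perm GolayPt} {Q : Finset GolayPt → Prop} (l : List ℕ)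
    (hn : l.Nodup) (hlt : ∀ m ∈ l, m < 2 ^ 24) (h : ∀ s, Q s ↔ maskOf (σ⁻¹ • s) ∈ l) :
    {s | Q s}.ncard = l.length := by
  rw [ncard_smul_transport (σ := σ) (P := fun s => maskOf s ∈ l)
    (fun s => by rw [h, inv_smul_smul])]
  exact ncard_of_list l hn (fun _ => Iff.rfl) hlt

theorem inv_smul_mem_octads_iff {σ : Equiv.Perm GolayPt} (hσ : σ ∈ M24) (s : Finset GolayPt) :
    maskOf (σ⁻¹ • s) ∈ weightList 8 ↔ s ∈ octads := by
  rw [← mem_octads_iff]
  exact ⟨fun h => by simpa using smul_mem_octads hσ h, smul_mem_octads (M24.inv_mem hσ)⟩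

theorem inv_smul_mem_dodecads_iff {σ : Equiv.Perm GolayPt} (hσ : σ ∈ M24) (s : Finset GolayPt) :
    maskOf (σ⁻¹ • s) ∈ weightList 12 ↔ s ∈ dodecads := by
  rw [← mem_dodecads_iff]
  exact ⟨fun h => by simpa using smul_mem_dodecads hσ h, smul_mem_dodecads (M24.inv_mem hσ)⟩

/-! ### Subsets of a given size -/

/-- All masks below `2 ^ n` with `k` bits set. -/
def combTo : ℕ → ℕ → List ℕ
  | 0, 0 => [0]
  | 0, _ + 1 => []
  | n + 1, 0 => combTo n 0
  | n + 1, k + 1 => combTo n (k + 1) ++ (combTo n k).map (Nat.lor (Nat.shiftLeft 1 n))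

/-- All masks of `k`-subsets of the 24 points. -/
def combList (k : ℕ) : List ℕ := combTo 24 k

theorem popTo_congr {a b n : ℕ} (h : ∀ i < n, a.testBit i = b.testBit i) :
    popTo a n = popTo b n := by
  rw [popTo_eq_sum, popTo_eq_sum]
  exact Finset.sum_congr rfl fun i _ => by rw [h i i.isLt]

theorem mem_combTo_iff : ∀ (n k m : ℕ), m ∈ combTo n k ↔ m < 2 ^ n ∧ popTo m n = k
  | 0, 0, m => by simp [combTo, popTo]
  | 0, k + 1, m => by simp [combTo, popTo]
  | n + 1, k, m => by
    have hhi : ∀ a, a < 2 ^ n → popTo ((1 <<< n) ||| a) (n + 1) = 1 + popTo a n ∧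
        (1 <<< n) ||| a < 2 ^ (n + 1) := by
      intro a ha
      refine ⟨?_, Nat.or_lt_two_pow (by rw [Nat.one_shiftLeft]; gcongr <;> norm_num)
        (lt_of_lt_of_le ha (Nat.pow_le_pow_right (by norm_num) (by omega)))⟩
      rw [popTo_eq_sum, popTo_eq_sum, Fin.sum_univ_castSucc, add_comm]
      congr 1
      · simp [Nat.testBit_or, Nat.one_shiftLeft]
      · exact Finset.sum_congr rfl fun i _ => by
          simp [Nat.testBit_or, Nat.one_shiftLeft, Nat.testBit_two_pow, (ne_of_lt i.isLt).symm]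
    have hlo : ∀ a, a < 2 ^ n → popTo a (n + 1) = popTo a n := by
      intro a ha
      rw [popTo_eq_sum, popTo_eq_sum, Fin.sum_univ_castSucc]
      simp [Nat.testBit_lt_two_pow ha]
    have hsplit : m < 2 ^ (n + 1) → m < 2 ^ n ∨ ∃ a < 2 ^ n, m = (1 <<< n) ||| a := by
      intro hm
      by_cases h : m < 2 ^ n
      · exact Or.inl h
      · refine Or.inr ⟨m % 2 ^ n, Nat.mod_lt _ (Nat.two_pow_pos n), ?_⟩
        apply Nat.eq_of_testBit_eq
        intro i
        rw [Nat.testBit_or, Nat.one_shiftLeft, Nat.testBit_two_pow, Nat.testBit_mod_two_pow]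
        rcases lt_trichotomy i n with h1 | h1 | h1
        · simp [h1, (ne_of_lt h1).symm]
        · subst h1
          simp [Nat.testBit_of_two_pow_le_and_two_pow_add_one_gt (Nat.not_lt.1 h) hm]
        · simp [ne_of_lt h1, Nat.not_lt.2 h1.le,
            Nat.testBit_lt_two_pow (lt_of_lt_of_le hm (Nat.pow_le_pow_right (by norm_num) h1))]
    cases k with
    | zero =>
      rw [combTo, mem_combTo_iff n 0 m]
      constructor
      · rintro ⟨h1, h2⟩
        exact ⟨lt_of_lt_of_le h1 (Nat.pow_le_pow_right (by norm_num) (by omega)), by rw [hlo m h1, h2]⟩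
      · rintro ⟨h1, h2⟩
        rcases hsplit h1 with h | ⟨a, ha, rfl⟩
        · exact ⟨h, by rw [← hlo m h, h2]⟩
        · rw [(hhi a ha).1] at h2; omega
    | succ k =>
      rw [combTo, List.mem_append, List.mem_map, mem_combTo_iff n (k + 1) m]
      constructor
      · rintro (⟨h1, h2⟩ | ⟨a, ha, rfl⟩)
        · exact ⟨lt_of_lt_of_le h1 (Nat.pow_le_pow_right (by norm_num) (by omega)),
            by rw [hlo m h1, h2]⟩
        · obtain ⟨ha1, ha2⟩ := (mem_combTo_iff n k a).1 ha
          exact ⟨(hhi a ha1).2, by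
            show popTo ((1 <<< n) ||| a) (n + 1) = k + 1
            rw [(hhi a ha1).1, ha2, add_comm]⟩
      · rintro ⟨h1, h2⟩
        rcases hsplit h1 with h | ⟨a, ha, rfl⟩
        · exact Or.inl ⟨h, by rw [← hlo m h, h2]⟩
        · exact Or.inr ⟨a, (mem_combTo_iff n k a).2 ⟨ha, by rw [(hhi a ha).1] at h2; omega⟩, rfl⟩

theorem mem_combList_iff {k : ℕ} {s : Finset GolayPt} : maskOf s ∈ combList k ↔ s.card = k := by
  rw [combList, mem_combTo_iff, card_eq_pop24, pop24_eq_popTo]
  exact ⟨fun h => h.2, fun h => ⟨maskOf_lt s, h⟩⟩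

theorem combList_lt {k m : ℕ} (h : m ∈ combList k) : m < 2 ^ 24 := ((mem_combTo_iff _ _ _).1 h).1

theorem combTo_nodup : ∀ n k : ℕ, (combTo n k).Nodup
  | 0, 0 => by simp [combTo]
  | 0, k + 1 => by simp [combTo]
  | n + 1, 0 => by rw [combTo]; exact combTo_nodup n 0
  | n + 1, k + 1 => by
    rw [combTo, List.nodup_append]
    refine ⟨combTo_nodup n (k + 1), ?_, ?_⟩
    · refine List.Nodup.map_on (fun a ha b hb h => ?_) (combTo_nodup n k)
      have ha' := ((mem_combTo_iff n k a).1 ha).1
      have hb' := ((mem_combTo_iff n k b).1 hb).1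
      apply Nat.eq_of_testBit_eq
      intro i
      have h' : ((1 <<< n) ||| a).testBit i = ((1 <<< n) ||| b).testBit i :=
        congrArg (fun x => Nat.testBit x i) h
      by_cases hi : i = n
      · subst hi; rw [Nat.testBit_lt_two_pow ha', Nat.testBit_lt_two_pow hb']
      · simpa [Nat.testBit_or, Nat.one_shiftLeft, Nat.testBit_two_pow, Ne.symm hi] using h'
    · intro a ha b hb hab
      subst hab
      obtain ⟨c, -, rfl⟩ := List.mem_map.1 hb
      have h1 := ((mem_combTo_iff n (k + 1) _).1 ha).1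
      have : 1 <<< n ≤ (1 <<< n) ||| c := Nat.left_le_or
      rw [Nat.one_shiftLeft] at this
      exact absurd (lt_of_le_of_lt (Nat.one_shiftLeft n ▸ Nat.left_le_or) h1) (lt_irrefl _)

theorem combList_nodup (k : ℕ) : (combList k).Nodup := combTo_nodup 24 k

/-- Masks of a family cut in prescribed sizes by the listed masks. -/
def cutList (base : List ℕ) (cuts : List (ℕ × ℕ)) : List ℕ :=
  base.filter fun s => cuts.all fun c => pop24 (Nat.land c.1 s) == c.2

theorem mem_cutList_iff {σ : Equiv.Perm GolayPt} {base : List ℕ} {cuts : List (ℕ × ℕ)}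
    {s : Finset GolayPt} :
    maskOf (σ⁻¹ • s) ∈ cutList base cuts ↔ maskOf (σ⁻¹ • s) ∈ base ∧
      ∀ c ∈ cuts, ((σ • setOf c.1) ∩ s).card = c.2 := by
  simp only [cutList, List.mem_filter, List.all_eq_true, beq_iff_eq, card_inv_smul_inter]

theorem cutList_nodup {base : List ℕ} (h : base.Nodup) (cuts : List (ℕ × ℕ)) :
    (cutList base cuts).Nodup := h.filter _

theorem cutList_lt {base : List ℕ} (h : ∀ m ∈ base, m < 2 ^ 24) (cuts : List (ℕ × ℕ)) :
    ∀ m ∈ cutList base cuts, m < 2 ^ 24 := fun m hm => h m (List.mem_of_mem_filter hm)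

end

end Cfsg.Agent.Golay24
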