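import Cfsg.Agent.Lib.Golay.Mathieu

/-!
Stabilisers of arbitrary points, tuples of points and dodecads are conjugate to the standard ones.
-/

set_option autoImplicit false

namespace Cfsg.Agent.Golay24

noncomputable section

open Cfsg
open scoped Pointwise

theorem exists_map_le_five {n : ℕ} (hn : n ≤ 5) (x y : Fin n ↪ GolayPt) :
    ∃ σ ∈ M24, ∀ i, σ (x i) = y i := by
  obtain ⟨σ, hσ, -, h⟩ := exists_embedding_map (K := M24) m24Cover_ok
    (fun p hp => chain_mem (fun _ hg => gen_mem_M24 hg) p (List.mem_of_mem_take hp))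
    (show n ≤ (m24Chain.take 5).length by rw [List.length_take, m24Chain_len]; simpa using hn) x y
    (fun i => by rw [setOf_full]; exact Finset.mem_univ _)
    (fun i => by rw [setOf_full]; exact Finset.mem_univ _)
  exact ⟨σ, hσ, h⟩

theorem stab_pair_eq {G α β : Type*} [Group G] [MulAction G α] [MulAction G β] (a : α) (b : β) :
    MulAction.stabilizer G (a, b) = MulAction.stabilizer G a ⊓ MulAction.stabilizer G b := by
  ext g
  simp [Prod.ext_iff]

theorem stab_one_equiv (p : GolayPt) :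
    Nonempty (MulAction.stabilizer M24 p ≃* Spor.M23) := by
  obtain ⟨σ, hσ, h⟩ := exists_map_le_five (n := 1) (by norm_num)
    ⟨fun _ => none, fun a b _ => Subsingleton.elim a b⟩
    ⟨fun _ => p, fun a b _ => Subsingleton.elim a b⟩
  have hg : p = (⟨σ, hσ⟩ : M24) • (none : GolayPt) := (h 0).symm
  exact ⟨((MulAction.stabilizerEquivStabilizer hg).symm).trans (stabInfEquiv M24 _)⟩

theorem stab_two_equiv (p q : GolayPt) (hpq : p ≠ q) :
    Nonempty (↥(MulAction.stabilizer M24 p ⊓ MulAction.stabilizer M24 q) ≃* Spor.M22) := by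
  obtain ⟨g, hga, hgb⟩ := M24_twoTrans.pairs none (Set.mem_univ _) (some 0) (Set.mem_univ _) p
    (Set.mem_univ _) q (Set.mem_univ _) (by simp) hpq
  rw [← stab_pair_eq]
  have hg : (p, q) = g • ((none : GolayPt), (some 0 : GolayPt)) := by
    rw [Prod.smul_mk, hga, hgb]
  refine ⟨((MulAction.stabilizerEquivStabilizer hg).symm).trans ((stabInfEquiv M24 _).trans
    (MulEquiv.subgroupCongr ?_))⟩
  rw [stab_pair_eq, Spor.M22, Spor.M23, inf_assoc]

theorem stab_three_equiv (p q r : GolayPt) (hpq : p ≠ q) (hpr : p ≠ r) (hqr : q ≠ r) :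
    Nonempty (↥(MulAction.stabilizer M24 p ⊓ MulAction.stabilizer M24 q ⊓
      MulAction.stabilizer M24 r) ≃* M21) := by
  obtain ⟨σ, hσ, h⟩ := exists_map_le_five (n := 3) (by norm_num)
    ⟨![none, some 0, some 1], by decide +kernel⟩
    ⟨![p, q, r], List.nodup_ofFn.1 (by simp [hpq, hpr, hqr])⟩
  rw [← stab_pair_eq, ← stab_pair_eq]
  have hg : ((p, q), r) = (⟨σ, hσ⟩ : M24) •
      (((none : GolayPt), (some 0 : GolayPt)), (some 1 : GolayPt)) :=
    Prod.ext (Prod.ext (h 0).symm (h 1).symm) (h 2).symm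
  refine ⟨((MulAction.stabilizerEquivStabilizer hg).symm).trans ((stabInfEquiv M24 _).trans
    (MulEquiv.subgroupCongr ?_))⟩
  rw [stab_pair_eq, stab_pair_eq, M21, Spor.M22, Spor.M23, inf_assoc, inf_assoc, inf_assoc]

theorem stab_dodecad_equiv (d : Finset GolayPt) (hd : d ∈ dodecads) :
    Nonempty (MulAction.stabilizer M24 d ≃* Spor.M12) := by
  obtain ⟨σ, hσ, h⟩ := exists_sqDod_map hd
  have hg : d = (⟨σ, hσ⟩ : M24) • Spor.squareDodecad := by rw [← setOf_sqDod]; exact h.symm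
  exact ⟨((MulAction.stabilizerEquivStabilizer hg).symm).trans (stabInfEquiv M24 _)⟩

theorem exists_sqDod_point_map (d : Finset GolayPt) (hd : d ∈ dodecads) (p : GolayPt) (hp : p ∈ d) :
    ∃ σ ∈ M24, σ • setOf sqDod = d ∧ σ (some 0) = p := by
  obtain ⟨σ, hσ, h⟩ := exists_sqDod_map hd
  have hq : σ⁻¹ p ∈ setOf sqDod := by
    rw [← h, Finset.mem_smul_finset] at hp
    obtain ⟨y, hy, rfl⟩ := hp
    simpa [Equiv.Perm.smul_def] using hy
  have hc := m12Cert_ok
  simp only [Bool.and_eq_true, beq_iff_eq] at hc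
  obtain ⟨τ, hτ, hτ0⟩ := m12Cert.exists_point_map hc.1.1.1.1 m12_grp.le m12Cert_cover
    (by rw [hc.2]) (by norm_num) (show (some 0 : GolayPt) ∈ setOf sqDod by decide +kernel) hq
  refine ⟨σ * τ, M24.mul_mem hσ hτ.1, ?_, ?_⟩
  · rw [mul_smul, setOf_sqDod, hτ.2, ← setOf_sqDod, h]
  · rw [Equiv.Perm.mul_apply, show τ (some 0) = σ⁻¹ p from hτ0]
    simp

theorem stab_dodecad_point_equiv (d : Finset GolayPt) (hd : d ∈ dodecads) (p : GolayPt)
    (hp : p ∈ d) :
    Nonempty (↥(MulAction.stabilizer M24 d ⊓ MulAction.stabilizer M24 p) ≃* Spor.M11) := by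
  obtain ⟨σ, hσ, h, h0⟩ := exists_sqDod_point_map d hd p hp
  rw [← stab_pair_eq]
  have hg : (d, p) = (⟨σ, hσ⟩ : M24) • (Spor.squareDodecad, (some 0 : GolayPt)) := by
    rw [← setOf_sqDod]; exact Prod.ext h.symm h0.symm
  refine ⟨((MulAction.stabilizerEquivStabilizer hg).symm).trans ((stabInfEquiv M24 _).trans
    (MulEquiv.subgroupCongr ?_))⟩
  rw [stab_pair_eq, Spor.M11, Spor.M12, inf_assoc]

end

end Cfsg.Agent.Golay24
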