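import Cfsg.Agent.Lib.Golay.LeadData
import Cfsg.Agent.Lib.Golay.Carry

/-!
Cosets of the code: short representatives, the sets of four points with the five octads
through them, and the punctured code.
-/

set_option autoImplicit false

namespace Cfsg.Agent.Golay24

noncomputable section

open Cfsg
open scoped Pointwise

attribute [local irreducible] weightList codeList combTo

theorem cast2_eq_iff (a b : ℕ) : (a : ZMod 2) = (b : ZMod 2) ↔ a % 2 = b % 2 :=
  ZMod.natCast_eq_natCast_iff' a b 2

/-- The twelve parities of a mask. -/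
def syn (m : ℕ) : ℕ :=
  basisMasks.foldr (fun b r => 2 * r + pop24 (Nat.land b m) % 2) 0

/-- A leader has few bits, and if four then the last position is among them. -/
def leadShapeOk (m : ℕ) : Bool :=
  Nat.blt m 16777216 && (Nat.ble (pop24 m) 3 || ((pop24 m == 4) && Nat.testBit m 23))

/-- Consecutive entries are leaders of consecutive syndromes. -/
def leadSeqOk : ℕ → List ℕ → Bool
  | _, [] => true
  | k, m :: l => leadShapeOk m && (syn m == k) && leadSeqOk (k + 1) l

theorem leadSeqOk_append : ∀ (l l' : List ℕ) (k : ℕ),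
    leadSeqOk k (l ++ l') = (leadSeqOk k l && leadSeqOk (k + l.length) l')
  | [], l', k => by simp [leadSeqOk]
  | m :: l, l', k => by
    simp only [List.cons_append, leadSeqOk, leadSeqOk_append l l' (k + 1), List.length_cons,
      Bool.and_assoc, Nat.add_assoc, Nat.add_comm 1]

theorem leadSeqOk_spec : ∀ (l : List ℕ) (k i : ℕ), leadSeqOk k l = true → i < l.length →
    leadShapeOk (l.getD i 0) = true ∧ syn (l.getD i 0) = k + i
  | [], _, _, _, h => by simp at h
  | m :: l, k, 0, h, _ => by
    simp only [leadSeqOk, Bool.and_eq_true, beq_iff_eq] at h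
    exact ⟨h.1.1, h.1.2⟩
  | m :: l, k, i + 1, h, hi => by
    simp only [leadSeqOk, Bool.and_eq_true, beq_iff_eq] at h
    have := leadSeqOk_spec l (k + 1) i h.2 (by simpa using hi)
    rw [List.getD_cons_succ]
    exact ⟨this.1, by omega⟩

theorem cosetLead0_ok : leadSeqOk 0 cosetLead0 = true ∧ cosetLead0.length = 256 := by decide +kernel

theorem cosetLead1_ok : leadSeqOk 256 cosetLead1 = true ∧ cosetLead1.length = 256 := by decide +kernel

theorem cosetLead2_ok : leadSeqOk 512 cosetLead2 = true ∧ cosetLead2.length = 256 := by decide +kernel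

theorem cosetLead3_ok : leadSeqOk 768 cosetLead3 = true ∧ cosetLead3.length = 256 := by decide +kernel

theorem cosetLead4_ok : leadSeqOk 1024 cosetLead4 = true ∧ cosetLead4.length = 256 := by decide +kernel

theorem cosetLead5_ok : leadSeqOk 1280 cosetLead5 = true ∧ cosetLead5.length = 256 := by decide +kernel

theorem cosetLead6_ok : leadSeqOk 1536 cosetLead6 = true ∧ cosetLead6.length = 256 := by decide +kernel

theorem cosetLead7_ok : leadSeqOk 1792 cosetLead7 = true ∧ cosetLead7.length = 256 := by decide +kernel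

theorem cosetLead8_ok : leadSeqOk 2048 cosetLead8 = true ∧ cosetLead8.length = 256 := by decide +kernel

theorem cosetLead9_ok : leadSeqOk 2304 cosetLead9 = true ∧ cosetLead9.length = 256 := by decide +kernel

theorem cosetLead10_ok : leadSeqOk 2560 cosetLead10 = true ∧ cosetLead10.length = 256 := by decide +kernel

theorem cosetLead11_ok : leadSeqOk 2816 cosetLead11 = true ∧ cosetLead11.length = 256 := by decide +kernel

theorem cosetLead12_ok : leadSeqOk 3072 cosetLead12 = true ∧ cosetLead12.length = 256 := by decide +kernel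

theorem cosetLead13_ok : leadSeqOk 3328 cosetLead13 = true ∧ cosetLead13.length = 256 := by decide +kernel

theorem cosetLead14_ok : leadSeqOk 3584 cosetLead14 = true ∧ cosetLead14.length = 256 := by decide +kernel

theorem cosetLead15_ok : leadSeqOk 3840 cosetLead15 = true ∧ cosetLead15.length = 256 := by decide +kernel

theorem cosetLeads_spec : cosetLeads.length = 4096 ∧ leadSeqOk 0 cosetLeads = true := by
  refine ⟨?_, ?_⟩
  · simp only [cosetLeads, List.length_append, cosetLead0_ok.2, cosetLead1_ok.2, cosetLead2_ok.2, cosetLead3_ok.2, cosetLead4_ok.2, cosetLead5_ok.2, cosetLead6_ok.2, cosetLead7_ok.2, cosetLead8_ok.2, cosetLead9_ok.2, cosetLead10_ok.2, cosetLead11_ok.2, cosetLead12_ok.2, cosetLead13_ok.2, cosetLead14_ok.2, cosetLead15_ok.2]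
  · simp only [cosetLeads, leadSeqOk_append, List.length_append, cosetLead0_ok.2, cosetLead1_ok.2, cosetLead2_ok.2, cosetLead3_ok.2, cosetLead4_ok.2, cosetLead5_ok.2, cosetLead6_ok.2, cosetLead7_ok.2, cosetLead8_ok.2, cosetLead9_ok.2, cosetLead10_ok.2, cosetLead11_ok.2, cosetLead12_ok.2, cosetLead13_ok.2, cosetLead14_ok.2, cosetLead15_ok.2, cosetLead0_ok.1, cosetLead1_ok.1, cosetLead2_ok.1, cosetLead3_ok.1, cosetLead4_ok.1, cosetLead5_ok.1, cosetLead6_ok.1, cosetLead7_ok.1, cosetLead8_ok.1, cosetLead9_ok.1, cosetLead10_ok.1, cosetLead11_ok.1, cosetLead12_ok.1, cosetLead13_ok.1, cosetLead14_ok.1, cosetLead15_ok.1, Nat.zero_add, Nat.reduceAdd, Bool.and_self]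

theorem foldr_parity_lt : ∀ (l : List ℕ) (m : ℕ),
    l.foldr (fun b r => 2 * r + pop24 (Nat.land b m) % 2) 0 < 2 ^ l.length
  | [], _ => by simp
  | b :: l, m => by
    have := foldr_parity_lt l m
    simp only [List.foldr_cons, List.length_cons, pow_succ]
    omega

theorem syn_lt (m : ℕ) : syn m < 4096 := foldr_parity_lt basisMasks m

theorem foldr_parity_inj : ∀ (l : List ℕ) (a b : ℕ),
    l.foldr (fun c r => 2 * r + pop24 (Nat.land c a) % 2) 0 =
      l.foldr (fun c r => 2 * r + pop24 (Nat.land c b) % 2) 0 →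
    ∀ c ∈ l, pop24 (Nat.land c a) % 2 = pop24 (Nat.land c b) % 2
  | [], _, _, _, c, hc => by simp at hc
  | d :: l, a, b, h, c, hc => by
    simp only [List.foldr_cons] at h
    rcases List.mem_cons.1 hc with rfl | hc
    · omega
    · exact foldr_parity_inj l a b (by omega) c hc

/-- Equal syndromes: the same coset. -/
theorem add_mem_of_syn_eq {v w : GolayPt → ZMod 2}
    (h : syn (maskOf (support₂ v)) = syn (maskOf (support₂ w))) : w - v ∈ golayCode := by
  rw [mem_golayCode_iff_dot]
  intro i
  rw [map_sub, sub_eq_zero, basisWord, dot_wordOf, dot_wordOf, cast2_eq_iff]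
  refine (foldr_parity_inj basisMasks _ _ h _ ?_).symm
  rw [List.getD_eq_getElem _ _ i.isLt]
  exact List.getElem_mem _

/-- Every coset contains a word of weight at most three, or of weight four through the last
position. -/
theorem exists_leader (w : GolayPt → ZMod 2) : ∃ v : GolayPt → ZMod 2, w - v ∈ golayCode ∧
    (hammingNorm v ≤ 3 ∨ (hammingNorm v = 4 ∧ v none ≠ 0)) := by
  have hlen : syn (maskOf (support₂ w)) < cosetLeads.length := by
    rw [cosetLeads_spec.1]; exact syn_lt _
  obtain ⟨hok, hsy⟩ := leadSeqOk_spec _ 0 _ cosetLeads_spec.2 hlen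
  rw [Nat.zero_add] at hsy
  set m := cosetLeads.getD (syn (maskOf (support₂ w))) 0 with hm
  simp only [leadShapeOk, Bool.and_eq_true, Nat.blt_eq, Bool.or_eq_true, Nat.ble_eq,
    beq_iff_eq] at hok
  have hmask : maskOf (support₂ (wordOf m)) = m := by
    rw [support₂_wordOf, maskOf_setOf (by simpa using hok.1)]
  refine ⟨wordOf m, add_mem_of_syn_eq (by rw [hmask]; exact hsy), ?_⟩
  rw [hammingNorm_eq_pop24, hmask]
  rcases hok.2 with h3 | ⟨h4, hb⟩
  · exact Or.inl h3
  · refine Or.inr ⟨h4, ?_⟩
    have : (idx none : ℕ) = 23 := by decide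
    simp [wordOf, this, hb]

theorem weight_of_mem {w : GolayPt → ZMod 2} (h : w ∈ golayCode) :
    hammingNorm w = 0 ∨ hammingNorm w = 8 ∨ hammingNorm w = 12 ∨ hammingNorm w = 16 ∨
      hammingNorm w = 24 := by
  rw [hammingNorm_eq_pop24]
  exact weight_cases (mem_golayCode_iff_list.1 h)

theorem support₂_sub (v w : GolayPt → ZMod 2) :
    support₂ (w - v) = symmDiff (support₂ w) (support₂ v) := by
  ext x
  simp only [support₂, Finset.mem_symmDiff, Finset.mem_filter, Finset.mem_univ, true_and,
    Pi.sub_apply]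
  rcases zmod2_cases (v x) with h1 | h1 <;> rcases zmod2_cases (w x) with h2 | h2 <;>
    simp [h1, h2]

/-- Two short words in one coset: equal, or both of weight four with an octad as union. -/
theorem short_words {v u : GolayPt → ZMod 2} (hv : hammingNorm v ≤ 4) (hu : hammingNorm u ≤ 4)
    (h : u - v ∈ golayCode) :
    u = v ∨ (hammingNorm v = 4 ∧ hammingNorm u = 4 ∧ Disjoint (support₂ v) (support₂ u) ∧
      support₂ v ∪ support₂ u ∈ octads) := by
  rw [hammingNorm_eq_card] at hv hu
  have hw := weight_of_mem h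
  rw [hammingNorm_eq_card, support₂_sub] at hw
  have he := card_symmDiff_add (support₂ u) (support₂ v)
  rcases hw with hw | hw
  · left
    apply support₂_injective
    exact symmDiff_eq_bot.1 (Finset.card_eq_zero.1 hw)
  right
  have h8 : (symmDiff (support₂ u) (support₂ v)).card = 8 := by omega
  have hi : (support₂ u ∩ support₂ v).card = 0 := by omega
  have hd : Disjoint (support₂ v) (support₂ u) := by
    rw [disjoint_comm, Finset.disjoint_iff_inter_eq_empty]
    exact Finset.card_eq_zero.1 hi
  refine ⟨?_, ?_, hd, ?_⟩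
  · rw [hammingNorm_eq_card]; omega
  · rw [hammingNorm_eq_card]; omega
  · have e : support₂ v ∪ support₂ u = symmDiff (support₂ u) (support₂ v) := by
      rw [symmDiff_comm]; exact hd.symmDiff_eq_sup.symm
    rw [e]
    exact ⟨⟨_, h, support₂_sub v u⟩, h8⟩

theorem five_octads (t : Finset GolayPt) (ht : t.card = 4) :
    {o | o ∈ octads ∧ t ⊆ o}.ncard = 5 := by
  obtain ⟨σ, hσ, h⟩ := exists_map_le_five (n := 4) (by norm_num)
    ⟨![none, some 0, some 1, some 2], by decide +kernel⟩
    ((t.equivFinOfCardEq ht).symm.toEmbedding.trans (Function.Embedding.subtype _))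
  have hsub : σ • setOf 8388615 ⊆ t := by
    intro y hy
    obtain ⟨x, hx, rfl⟩ := Finset.mem_smul_finset.1 hy
    have e : setOf 8388615 = {none, some 0, some 1, some 2} := by decide +kernel
    have hxi : ∃ i : Fin 4, (![none, some 0, some 1, some 2] : Fin 4 → GolayPt) i = x := by
      rw [e] at hx
      simp only [Finset.mem_insert, Finset.mem_singleton] at hx
      rcases hx with rfl | rfl | rfl | rfl
      exacts [⟨0, rfl⟩, ⟨1, rfl⟩, ⟨2, rfl⟩, ⟨3, rfl⟩]
    obtain ⟨i, rfl⟩ := hxi
    have := h i
    rw [Equiv.Perm.smul_def, show σ ((![none, some 0, some 1, some 2] : Fin 4 → GolayPt) i) = _ from this]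
    exact Subtype.prop _
  have hσt : σ • setOf 8388615 = t := Finset.eq_of_subset_of_card_le hsub
    (by rw [ht, Finset.card_smul_finset, card_setOf, show pop24 8388615 = 4 by decide +kernel])
  have hc : Carries σ [8388615] [t] := ⟨hσ, by simp [hσt]⟩
  rw [ncard_of_pullback (σ := σ) (cutList (weightList 8) ([8388615].zip [4]))
    (cutList_nodup (weightList_nodup 8) _) (cutList_lt (fun _ => weightList_lt) _) fun o => by
      rw [mem_cutList_carries (ks := [4]) hc (by rfl), inv_smul_mem_octads_iff hσ]
      simp only [List.map_cons, List.map_nil, List.cons.injEq, and_true]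
      refine and_congr Iff.rfl ⟨fun hto => ?_, fun hc4 => ?_⟩
      · rw [Finset.inter_eq_left.2 hto, ht]
      · exact Finset.inter_eq_left.1 (Finset.eq_of_subset_of_card_le Finset.inter_subset_left
          (by rw [hc4, ht]))]
  decide +kernel

/-! ### The punctured code -/

/-- The punctured word of a mask. -/
def punctWord (m : ℕ) : ZMod 23 → ZMod 2 := fun x => wordOf m (some x)

theorem hammingNorm_split (v : GolayPt → ZMod 2) :
    hammingNorm v = hammingNorm (fun x : ZMod 23 => v (some x)) + if v none ≠ 0 then 1 else 0 := by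
  simp only [hammingNorm, Finset.card_filter]
  rw [Fintype.sum_option, add_comm]

theorem punct_norm (m : ℕ) : hammingNorm (punctWord m) = pop24 (Nat.land m 8388607) := by
  rw [← card_setOf]
  show (Finset.univ.filter fun x : ZMod 23 => punctWord m x ≠ 0).card = _
  rw [← Finset.card_map Function.Embedding.some]
  congr 1
  ext p
  have hbit : ∀ i : Fin 24, (8388607 : ℕ).testBit i = decide (i.val < 23) := by decide +kernel
  have e : Nat.land m 8388607 = m &&& 8388607 := rfl
  rw [mem_setOf, e, Nat.testBit_and, hbit]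
  cases p with
  | none => simp [show (idx none : ℕ) = 23 by decide]
  | some x =>
    have hx : (idx (some x) : ℕ) < 23 := x.val_lt
    simp [punctWord, wordOf, hx]

theorem punct_weights : (codeList.all fun m =>
    m == 0 || Nat.ble 7 (pop24 (Nat.land m 8388607))) = true := by decide +kernel

theorem punct_injOn : Set.InjOn punctWord {m | m ∈ codeList} := by
  intro a ha b hb h
  simp only [Set.mem_ofPred_eq] at ha hb
  have hab : wordOf a - wordOf b ∈ golayCode :=
    golayCode.sub_mem ((wordOf_mem_iff (codeList_lt ha)).2 ha) ((wordOf_mem_iff (codeList_lt hb)).2 hb)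
  have h0 : hammingNorm (fun x : ZMod 23 => (wordOf a - wordOf b) (some x)) = 0 := by
    rw [hammingNorm_eq_zero]
    funext x
    exact sub_eq_zero.2 (congrFun h x)
  have hs := hammingNorm_split (wordOf a - wordOf b)
  rw [h0] at hs
  have hw := weight_of_mem hab
  have hz : hammingNorm (wordOf a - wordOf b) = 0 := by
    split at hs <;> omega
  rw [hammingNorm_eq_zero, sub_eq_zero] at hz
  have := congrArg (fun w => maskOf (support₂ w)) hz
  simpa [support₂_wordOf, maskOf_setOf (codeList_lt ha), maskOf_setOf (codeList_lt hb)] using this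

theorem mem_punctured_iff (u : ZMod 23 → ZMod 2) :
    (∃ w ∈ golayCode, ∀ x : ZMod 23, u x = w (some x)) ↔ ∃ m ∈ codeList, punctWord m = u := by
  constructor
  · rintro ⟨w, hw, h⟩
    refine ⟨_, mem_golayCode_iff_list.1 hw, funext fun x => ?_⟩
    rw [h, punctWord, wordOf_maskOf_support]
  · rintro ⟨m, hm, rfl⟩
    exact ⟨wordOf m, (wordOf_mem_iff (codeList_lt hm)).2 hm, fun _ => rfl⟩

theorem punct_ncard (p : (ZMod 23 → ZMod 2) → Prop) (q : ℕ → Bool)
    (hpq : ∀ m ∈ codeList, p (punctWord m) ↔ q m = true) :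
    {u : ZMod 23 → ZMod 2 | (∃ w ∈ golayCode, ∀ x : ZMod 23, u x = w (some x)) ∧ p u}.ncard =
      (codeList.filter q).length := by
  classical
  have : {u : ZMod 23 → ZMod 2 | (∃ w ∈ golayCode, ∀ x : ZMod 23, u x = w (some x)) ∧ p u} =
      punctWord '' ↑(codeList.filter q).toFinset := by
    ext u
    simp only [Set.mem_ofPred_eq, mem_punctured_iff, Set.mem_image, List.coe_toFinset,
      List.mem_filter]
    constructor
    · rintro ⟨⟨m, hm, rfl⟩, hp⟩; exact ⟨m, ⟨hm, (hpq m hm).1 hp⟩, rfl⟩
    · rintro ⟨m, ⟨hm, hq⟩, rfl⟩; exact ⟨⟨m, hm, rfl⟩, (hpq m hm).2 hq⟩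
  rw [this, Set.InjOn.ncard_image, Set.ncard_coe_finset,
    List.toFinset_card_of_nodup (codeList_nodup.filter _)]
  exact punct_injOn.mono fun m hm => by
    simp only [List.coe_toFinset, Set.mem_ofPred_eq, List.mem_filter] at hm
    exact hm.1

end

end Cfsg.Agent.Golay24
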