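import Cfsg.Agent.Lib.Golay.SextetData

/-!
The stabiliser of a sextet: order, generators, suborbits, action on the six members.
-/

set_option autoImplicit false

namespace Cfsg.Agent.Golay24

noncomputable section

open Cfsg
open scoped Pointwise

attribute [local irreducible] weightList codeList combTo

/-- The standard sextet. -/
def stdSextet : Finset (Finset GolayPt) := semSext 8388615

/-- The action on names. -/
def sextAct (g x : ℕ) : ℕ := canon4 (img g x)

/-- A name has four bits. -/
def fourB (m : ℕ) : Bool := Nat.blt m 16777216 && (pop24 m == 4)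

theorem fourB_card {m : ℕ} (h : fourB m = true) : m < 2 ^ 24 ∧ pop24 m = 4 ∧ (setOf m).card = 4 := by
  simp only [fourB, Bool.and_eq_true, Nat.blt_eq, beq_iff_eq] at h
  exact ⟨by simpa using h.1, h.2, by rw [card_setOf, h.2]⟩

theorem semSext_act {g x : ℕ} (hg : inM24 g = true) (hx : fourB x = true) :
    semSext (sextAct g x) = toPerm g • semSext x := by
  obtain ⟨-, -, hc⟩ := fourB_card hx
  have hv := valid_of_inM24 hg
  have h4 : pop24 (img g x) = 4 := by
    rw [← card_setOf, ← smul_setOf hv, Finset.card_smul_finset, hc]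
  rw [sextAct, (canon4_spec (img_lt hv x) h4).2.2.2]
  simp only [semSext]
  rw [← smul_setOf hv, smul_sextOf (toPerm_mem_M24 hg) hc]

theorem stdSextet_mem : stdSextet ∈ sextets :=
  (sextOf_mem (fourB_card (m := 8388615) (by decide +kernel)).2.2).1

theorem exists_sextet_map {S : Finset (Finset GolayPt)} (hS : S ∈ sextets) :
    ∃ σ ∈ M24, σ • stdSextet = S := by
  obtain ⟨t, ht⟩ := Finset.card_pos.1 (by rw [hS.1]; norm_num : 0 < S.card)
  have hc : t.card = 4 := hS.2.1 t ht
  have h0 : (setOf 8388615).card = 4 := (fourB_card (by decide +kernel)).2.2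
  obtain ⟨σ, hσ, h⟩ := exists_map_le_five (n := 4) (by norm_num)
    (((setOf 8388615).equivFinOfCardEq h0).symm.toEmbedding.trans (Function.Embedding.subtype _))
    ((t.equivFinOfCardEq hc).symm.toEmbedding.trans (Function.Embedding.subtype _))
  have he : σ • setOf 8388615 = t := by
    refine Finset.eq_of_subset_of_card_le (fun y hy => ?_) (by rw [Finset.card_smul_finset, h0, hc])
    obtain ⟨x, hx, rfl⟩ := Finset.mem_smul_finset.1 hy
    have := h ((setOf 8388615).equivFinOfCardEq h0 ⟨x, hx⟩)
    simp only [Function.Embedding.trans_apply, Equiv.coe_toEmbedding, Equiv.symm_apply_apply,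
      Function.Embedding.coe_subtype] at this
    rw [Equiv.Perm.smul_def, this]
    exact Subtype.prop _
  exact ⟨σ, hσ, by rw [stdSextet, semSext, smul_sextOf hσ h0, he, ← eq_sextOf hS ht]⟩

theorem sextets_ncard : sextets.ncard = 1771 := by
  classical
  have hn : sextList.Nodup := by
    refine List.Nodup.filter _ ?_
    rw [List.nodup_iff_injective_getElem]
    intro i j h
    obtain ⟨-, hi⟩ := leadSeqOk_spec cosetLeads 0 i.1 cosetLeads_spec.2 i.2
    obtain ⟨-, hj⟩ := leadSeqOk_spec cosetLeads 0 j.1 cosetLeads_spec.2 j.2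
    rw [List.getD_eq_getElem _ _ i.2, show cosetLeads[i.1] = cosetLeads[j.1] from h] at hi
    rw [List.getD_eq_getElem _ _ j.2] at hj
    exact Fin.ext (by omega)
  rw [sextets_eq, semSext_injOn.ncard_image,
    show {m | m ∈ sextList} = (↑sextList.toFinset : Set ℕ) by ext; simp, Set.ncard_coe_finset,
    List.toFinset_card_of_nodup hn]
  decide +kernel

/-- The stabiliser of the standard sextet in the group of the code. -/
abbrev sextStab : Subgroup (Equiv.Perm GolayPt) :=
  M24 ⊓ MulAction.stabilizer (Equiv.Perm GolayPt) stdSextet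

theorem card_sextStab : Nat.card sextStab = 138240 := by
  refine card_inf_stabilizer (S := sextets) M24 stdSextet (n := 1771) stdSextet_mem
    (fun g hg y hy => smul_mem_sextets hg hy) (fun y hy => ?_) sextets_ncard (by rw [card_M24])
    (by norm_num)
  obtain ⟨σ, hσ, h⟩ := exists_sextet_map hy
  exact ⟨σ, hσ, h⟩

theorem sextGC_ok : (sextGC.ok && (chainProd sextGC.chain == 138240) &&
    sextGC.gens.all (fun g => inM24 g && (sextAct g 8388615 == 8388615))) = true := by decide +kernel

theorem sextGC_gens {g : ℕ} (hg : g ∈ sextGC.gens) :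
    inM24 g = true ∧ toPerm g • stdSextet = stdSextet := by
  have h := sextGC_ok
  simp only [Bool.and_eq_true, List.all_eq_true, beq_iff_eq] at h
  refine ⟨(h.2 g hg).1, ?_⟩
  rw [stdSextet, ← semSext_act (h.2 g hg).1 (by decide +kernel), (h.2 g hg).2]

theorem sextStab_eq : sextStab = Subgroup.closure {τ | ∃ g ∈ sextGC.gens, toPerm g = τ} := by
  have h := sextGC_ok
  simp only [Bool.and_eq_true, beq_iff_eq] at h
  exact (sextGC.grp_eq (H := sextStab) h.1.1 (fun g hg => ⟨toPerm_mem_M24 (sextGC_gens hg).1, (sextGC_gens hg).2⟩)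
    (by rw [card_sextStab, h.1.2])).symm

/-- The four suborbits. -/
def sextOrbs : List OrbCert := [sextOrb0, sextOrb1, sextOrb2, sextOrb3]

theorem sextOrbs_ok : (sextOrbs.all fun c => c.ok sextAct sextGC.gens 24 && c.orb.all fourB) = true := by
  decide +kernel

theorem sextOrbs_fam :
    ((sextOrbs.map (·.orb.length)) == [1, 90, 240, 1440]) = true := by decide +kernel

theorem sextPos_ok : covTree 24 (packSlots 24 (sextOrb0.orb ++ sextOrb1.orb ++ sextOrb2.orb ++ sextOrb3.orb))
    1771 sextList sextPos = true := by decide +kernel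

theorem sextCat_slots : slotsOk 24 (packSlots 24 (sextOrb0.orb ++ sextOrb1.orb ++ sextOrb2.orb ++ sextOrb3.orb))
    0 (sextOrb0.orb ++ sextOrb1.orb ++ sextOrb2.orb ++ sextOrb3.orb) = true := by decide +kernel

theorem sextList_closed : (sextOrbs.all fun c => c.orb.all fun x => canon4 x == x) = true := by
  decide +kernel

theorem sextOrb_acts {c : OrbCert} (hc : c ∈ sextOrbs) : ActsLike semSext sextAct c.orb := by
  intro g hg x hx
  have h := List.all_eq_true.1 sextOrbs_ok c hc
  simp only [Bool.and_eq_true, List.all_eq_true] at h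
  exact semSext_act hg (h.2 x hx)

theorem sextOrb_sub {c : OrbCert} (hc : c ∈ sextOrbs) {x : ℕ} (hx : x ∈ c.orb) : x ∈ sextList := by
  have h := List.all_eq_true.1 sextOrbs_ok c hc
  simp only [Bool.and_eq_true, List.all_eq_true] at h
  have h2 := List.all_eq_true.1 (List.all_eq_true.1 sextList_closed c hc) x hx
  rw [beq_iff_eq] at h2
  have h4 := (fourB_card (h.2 x hx)).2.1
  rw [sextList, List.mem_filter, beq_iff_eq]
  refine ⟨?_, h4⟩
  rw [← h2, canon4, leadTab_spec _ (syn_lt _),
    List.getD_eq_getElem _ _ (by rw [cosetLeads_spec.1]; exact syn_lt _)]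
  exact List.getElem_mem _

theorem sextOrb_orbit {c : OrbCert} (hc : c ∈ sextOrbs) :
    MulAction.orbit sextStab (semSext c.root) = semSext '' {x | x ∈ c.orb} ∧
      (semSext '' {x | x ∈ c.orb}).ncard = c.orb.length := by
  have h := List.all_eq_true.1 sextOrbs_ok c hc
  simp only [Bool.and_eq_true] at h
  exact ⟨c.orbit_eq h.1 (fun g hg => (sextGC_gens hg).1) (sextOrb_acts hc) sextStab_eq,
    c.ncard_image h.1 (semSext_injOn.mono fun x hx => sextOrb_sub hc hx)⟩

theorem sextets_split : sextets = {stdSextet} ∪ semSext '' {x | x ∈ sextOrb1.orb} ∪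
    semSext '' {x | x ∈ sextOrb2.orb} ∪ semSext '' {x | x ∈ sextOrb3.orb} := by
  have h0 : sextOrb0.orb = [8388615] := by decide +kernel
  have hlen : (sextOrb0.orb ++ sextOrb1.orb ++ sextOrb2.orb ++ sextOrb3.orb).length = 1771 := by
    decide +kernel
  rw [sextets_eq]
  ext X
  constructor
  · rintro ⟨m, hm, rfl⟩
    obtain ⟨k, hk, he⟩ := covTree_spec _ _ sextPos_ok m hm
    have := slotsOk_spec _ _ sextCat_slots k (by omega)
    rw [Nat.zero_add, he] at this
    have hmem : m ∈ sextOrb0.orb ++ sextOrb1.orb ++ sextOrb2.orb ++ sextOrb3.orb :=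
      this ▸ List.getElem_mem _
    simp only [List.mem_append] at hmem
    rcases hmem with ((hm' | hm') | hm') | hm'
    · rw [h0, List.mem_singleton] at hm'
      exact Or.inl (Or.inl (Or.inl (by rw [Set.mem_singleton_iff, hm']; rfl)))
    · exact Or.inl (Or.inl (Or.inr ⟨m, hm', rfl⟩))
    · exact Or.inl (Or.inr ⟨m, hm', rfl⟩)
    · exact Or.inr ⟨m, hm', rfl⟩
  · rintro (((hX | ⟨m, hm, rfl⟩) | ⟨m, hm, rfl⟩) | ⟨m, hm, rfl⟩)
    · rw [Set.mem_singleton_iff] at hX
      exact ⟨8388615, sextOrb_sub (c := sextOrb0) (by simp [sextOrbs]) (by rw [h0]; simp), hX.symm⟩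
    · exact ⟨m, sextOrb_sub (c := sextOrb1) (by simp [sextOrbs]) hm, rfl⟩
    · exact ⟨m, sextOrb_sub (c := sextOrb2) (by simp [sextOrbs]) hm, rfl⟩
    · exact ⟨m, sextOrb_sub (c := sextOrb3) (by simp [sextOrbs]) hm, rfl⟩

theorem sextGrow_ok : (growOk sextAct sextGC.gens 8388615 sextOrb1.root sextGrow1 sextGrowProg1 sextGrowIx1 &&
    growOk sextAct sextGC.gens 8388615 sextOrb2.root sextGrow2 sextGrowProg2 sextGrowIx2 &&
    growOk sextAct sextGC.gens 8388615 sextOrb3.root sextGrow3 sextGrowProg3 sextGrowIx3) = true := by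
  decide +kernel

theorem sextStab_isCoatom {S : Finset (Finset GolayPt)} (hS : S ∈ sextets) :
    IsCoatom (MulAction.stabilizer M24 S) := by
  obtain ⟨σ, hσ, rfl⟩ := exists_sextet_map hS
  have hg := sextGrow_ok
  simp only [Bool.and_eq_true] at hg
  have hact0 : ∀ g, inM24 g = true → semSext (sextAct g 8388615) = toPerm g • semSext 8388615 :=
    fun g hg => semSext_act hg (by decide +kernel)
  have key : ∀ {c : OrbCert}, c ∈ sextOrbs → ∀ {g₀ : ℕ} {prog : List (ℕ × ℕ)} {ix : List ℕ},
      growOk sextAct sextGC.gens 8388615 c.root g₀ prog ix = true →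
      ∀ {K : Subgroup (Equiv.Perm GolayPt)}, sextStab ≤ K → ∀ {g : Equiv.Perm GolayPt}, g ∈ K →
      g ∈ M24 → g • stdSextet ∈ semSext '' {x | x ∈ c.orb} → M24 ≤ K := by
    intro c hc g₀ prog ix hgrow K hK g hgK hgM hm
    have h := List.all_eq_true.1 sextOrbs_ok c hc
    simp only [Bool.and_eq_true] at h
    exact M24_le_of_grow h.1 (fun g hg => (sextGC_gens hg).1) (sextOrb_acts hc) hact0 hgrow
      (fun g hg => (sextGC_gens hg).2) hK hgK hgM hm
  refine isCoatom_of_suborbits hσ ⟨toPerm sextGrow1, toPerm_mem_M24 (by decide +kernel), ?_⟩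
    fun K hK g hgK hgM hne => ?_
  · rw [stdSextet, ← hact0 _ (by decide +kernel)]
    intro e
    have := semSext_injOn (sextOrb_sub (c := sextOrb1) (by simp [sextOrbs])
        (x := sextAct sextGrow1 8388615) (by decide +kernel))
      (sextOrb_sub (c := sextOrb0) (by simp [sextOrbs]) (x := 8388615) (by decide +kernel)) e
    exact absurd this (by decide +kernel)
  · have hmem : g • stdSextet ∈ sextets := smul_mem_sextets hgM stdSextet_mem
    rw [sextets_split] at hmem
    rcases hmem with ((h | h) | h) | h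
    · exact absurd (Set.mem_singleton_iff.1 h) hne
    · exact key (c := sextOrb1) (by simp [sextOrbs]) hg.1.1 hK hgK hgM h
    · exact key (c := sextOrb2) (by simp [sextOrbs]) hg.1.2 hK hgK hgM h
    · exact key (c := sextOrb3) (by simp [sextOrbs]) hg.2 hK hgK hgM h

end

end Cfsg.Agent.Golay24
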