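import Cfsg.Agent.Lib.Golay.TrioData
import Cfsg.Agent.Lib.Golay.StepsA
import Cfsg.Agent.Lib.Golay.Carry
import Cfsg.Prelude.Def_SporadicCombinatorics

/-!
Trios: names, order of the stabiliser, suborbits.
-/

set_option autoImplicit false

namespace Cfsg.Agent.Golay24

noncomputable section

open Cfsg
open scoped Pointwise

attribute [local irreducible] weightList codeList combTo

/-- The three masks of a name. -/
def trioMembers (x : ℕ) : List ℕ :=
  [Nat.land x 16777215, Nat.shiftRight x 24,
    Nat.xor (Nat.xor (Nat.land x 16777215) (Nat.shiftRight x 24)) 16777215]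

/-- The trio of a name. -/
def semTrio (x : ℕ) : Finset (Finset GolayPt) := ((trioMembers x).map setOf).toFinset

/-- The name of three masks. -/
def packTrio (a b c : ℕ) : ℕ :=
  if Nat.testBit a 23 then Nat.lor a (Nat.shiftLeft (if Nat.ble b c then b else c) 24)
  else if Nat.testBit b 23 then Nat.lor b (Nat.shiftLeft (if Nat.ble a c then a else c) 24)
  else Nat.lor c (Nat.shiftLeft (if Nat.ble a b then a else b) 24)

/-- The action on names. -/
def trioAct (g x : ℕ) : ℕ :=
  let a := img g (Nat.land x 16777215)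
  let b := img g (Nat.shiftRight x 24)
  packTrio a b (Nat.xor (Nat.xor a b) 16777215)

/-- Three masks in the standard order name themselves. -/
def trioNameOk (x : ℕ) : Bool :=
  Nat.blt (Nat.shiftRight x 24) 16777216 && Nat.testBit x 23 &&
    !Nat.testBit (Nat.shiftRight x 24) 23 &&
    Nat.ble (Nat.shiftRight x 24)
      (Nat.xor (Nat.xor (Nat.land x 16777215) (Nat.shiftRight x 24)) 16777215) &&
    !Nat.testBit (Nat.xor (Nat.xor (Nat.land x 16777215) (Nat.shiftRight x 24)) 16777215) 23

theorem land_full_lt (x : ℕ) : Nat.land x 16777215 < 2 ^ 24 := by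
  show x &&& 16777215 < 2 ^ 24
  exact lt_of_le_of_lt Nat.and_le_right (by norm_num)

theorem setOf_xor' (a b : ℕ) : setOf (Nat.xor a b) = symmDiff (setOf a) (setOf b) := setOf_xor a b

theorem semTrio_pack {A B : ℕ} (hA : A < 2 ^ 24) (hB : B < 2 ^ 24) :
    semTrio (Nat.lor A (Nat.shiftLeft B 24)) =
      {setOf A, setOf B, setOf (Nat.xor (Nat.xor A B) 16777215)} := by
  have h1 : Nat.land (Nat.lor A (Nat.shiftLeft B 24)) 16777215 = A := by
    show (A ||| B <<< 24) &&& 16777215 = A
    rw [show (16777215 : ℕ) = 2 ^ 24 - 1 from rfl, Nat.and_two_pow_sub_one_eq_mod,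
      Nat.or_comm, ← Nat.shiftLeft_add_eq_or_of_lt hA, Nat.shiftLeft_eq]
    omega
  have h2 : Nat.shiftRight (Nat.lor A (Nat.shiftLeft B 24)) 24 = B := by
    show (A ||| B <<< 24) >>> 24 = B
    rw [Nat.or_comm, ← Nat.shiftLeft_add_eq_or_of_lt hA, Nat.shiftLeft_eq, Nat.shiftRight_eq_div_pow]
    omega
  rw [semTrio, trioMembers, h1, h2]
  simp

theorem xor3_left (a b c : ℕ) : a ^^^ (a ^^^ b ^^^ c) ^^^ c = b := by
  apply Nat.eq_of_testBit_eq; intro i; simp only [Nat.testBit_xor]
  cases a.testBit i <;> cases b.testBit i <;> cases c.testBit i <;> rfl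

theorem xor3_right (a b c : ℕ) : b ^^^ (a ^^^ b ^^^ c) ^^^ c = a := by
  apply Nat.eq_of_testBit_eq; intro i; simp only [Nat.testBit_xor]
  cases a.testBit i <;> cases b.testBit i <;> cases c.testBit i <;> rfl

theorem xor3_left' (a b c : ℕ) : (a ^^^ b ^^^ c) ^^^ a ^^^ c = b := by
  apply Nat.eq_of_testBit_eq; intro i; simp only [Nat.testBit_xor]
  cases a.testBit i <;> cases b.testBit i <;> cases c.testBit i <;> rfl

theorem xor3_right' (a b c : ℕ) : (a ^^^ b ^^^ c) ^^^ b ^^^ c = a := by
  apply Nat.eq_of_testBit_eq; intro i; simp only [Nat.testBit_xor]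
  cases a.testBit i <;> cases b.testBit i <;> cases c.testBit i <;> rfl

theorem semTrio_act {g : ℕ} (hg : inM24 g = true) {x : ℕ} :
    semTrio (trioAct g x) = toPerm g • semTrio x := by
  have hv := valid_of_inM24 hg
  set A := Nat.land x 16777215
  set B := Nat.shiftRight x 24
  have hc : toPerm g • setOf (Nat.xor (Nat.xor A B) 16777215) =
      setOf (Nat.xor (Nat.xor (img g A) (img g B)) 16777215) := by
    rw [setOf_xor', setOf_xor', Finset.smul_finset_symmDiff, Finset.smul_finset_symmDiff,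
      smul_setOf hv, smul_setOf hv, setOf_xor', setOf_xor', setOf_full, Finset.smul_finset_univ]
  have hrhs : toPerm g • semTrio x =
      {setOf (img g A), setOf (img g B), setOf (Nat.xor (Nat.xor (img g A) (img g B)) 16777215)} := by
    rw [← smul_setOf hv, ← smul_setOf hv, ← hc]
    simp [semTrio, trioMembers, Finset.smul_finset_insert, A, B]
  rw [hrhs]
  set a := img g A with ha
  set b := img g B with hb
  have hal : a < 2 ^ 24 := img_lt hv _
  have hbl : b < 2 ^ 24 := img_lt hv _
  have hcl : Nat.xor (Nat.xor a b) 16777215 < 2 ^ 24 := by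
    show a ^^^ b ^^^ 16777215 < 2 ^ 24
    exact Nat.xor_lt_two_pow (Nat.xor_lt_two_pow hal hbl) (by norm_num)
  have e1 : ∀ u v : ℕ, Nat.xor (Nat.xor u v) 16777215 = u ^^^ v ^^^ 16777215 := fun _ _ => rfl
  show semTrio (packTrio a b (Nat.xor (Nat.xor a b) 16777215)) = _
  rw [packTrio]
  split_ifs <;> rw [semTrio_pack (by assumption) (by assumption)] <;>
    simp only [e1, xor3_left, xor3_right, xor3_left', xor3_right', Nat.xor_comm b a] <;>
    (ext t; simp only [Finset.mem_insert, Finset.mem_singleton]; tauto)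

theorem trioAll_ok : (trioAll.ok trioAct m24Gens 48 && (trioAll.orb.all trioNameOk) &&
    (trioAll.orb.length == 3795) && (trioAll.root == trioRoot)) = true := by decide +kernel

/-- The standard trio. -/
def stdTrio : Finset (Finset GolayPt) := semTrio trioRoot

theorem trioRoot_facts : (isOct (Nat.land trioRoot 16777215) && isOct (Nat.shiftRight trioRoot 24) &&
    isOct (Nat.xor (Nat.xor (Nat.land trioRoot 16777215) (Nat.shiftRight trioRoot 24)) 16777215) &&
    (pop24 (Nat.land (Nat.land trioRoot 16777215) (Nat.shiftRight trioRoot 24)) == 0)) = true := by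
  decide +kernel

theorem trio_third {T : Finset (Finset GolayPt)} (hT : T ∈ trios) {a b c : Finset GolayPt}
    (ha : a ∈ T) (hb : b ∈ T) (hc : c ∈ T) (hab : a ≠ b) (hac : a ≠ c) (hbc : b ≠ c) :
    c = symmDiff (symmDiff a b) Finset.univ := by
  have hd := hT.2.2 a ha b hb hab
  rw [hd.symmDiff_eq_sup, ← Finset.top_eq_univ, symmDiff_top]
  show c = (a ∪ b)ᶜ
  refine Finset.eq_of_subset_of_card_le ?_ ?_
  · intro z hz
    rw [Finset.mem_compl]
    rw [Finset.mem_union]
    rintro (h | h)
    · exact Finset.disjoint_left.1 (hT.2.2 a ha c hc hac) h hz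
    · exact Finset.disjoint_left.1 (hT.2.2 b hb c hc hbc) h hz
  · show ((a ∪ b)ᶜ).card ≤ _
    rw [Finset.card_compl, Finset.card_union_of_disjoint hd, (hT.2.1 a ha).2, (hT.2.1 b hb).2,
      (hT.2.1 c hc).2]
    simp

theorem stdTrio_mem : stdTrio ∈ trios := by
  have h := trioRoot_facts
  simp only [Bool.and_eq_true, beq_iff_eq] at h
  obtain ⟨⟨⟨hA, hB⟩, hC⟩, h0⟩ := h
  set A := Nat.land trioRoot 16777215 with hAd
  set B := Nat.shiftRight trioRoot 24 with hBd
  set C := Nat.xor (Nat.xor A B) 16777215 with hCd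
  have hdAB : Disjoint (setOf A) (setOf B) := by
    rw [Finset.disjoint_iff_inter_eq_empty, ← Finset.card_eq_zero, ← setOf_land, card_setOf]
    exact h0
  have eC : setOf C = (setOf A ∪ setOf B)ᶜ := by
    rw [hCd, setOf_xor', setOf_xor', setOf_full, hdAB.symmDiff_eq_sup, ← Finset.top_eq_univ, symmDiff_top]
    rfl
  have hdAC : Disjoint (setOf A) (setOf C) := by
    rw [eC]; exact disjoint_compl_right.mono_left Finset.subset_union_left
  have hdBC : Disjoint (setOf B) (setOf C) := by
    rw [eC]; exact disjoint_compl_right.mono_left Finset.subset_union_right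
  have hne : ∀ {s t : Finset GolayPt}, s ∈ octads → Disjoint s t → s ≠ t := fun hs hd e => by
    subst e
    have := hs.2
    rw [disjoint_self.1 hd] at this
    simp at this
  have oA := setOf_mem_octads hA
  have oB := setOf_mem_octads hB
  have oC := setOf_mem_octads hC
  have e : stdTrio = {setOf A, setOf B, setOf C} := by
    simp [stdTrio, semTrio, trioMembers, A, B, C]
  rw [e]
  refine ⟨Finset.card_eq_three.2 ⟨_, _, _, hne oA hdAB, hne oA hdAC, hne oB hdBC, rfl⟩, ?_, ?_⟩
  · intro z hz
    simp only [Finset.mem_insert, Finset.mem_singleton] at hz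
    rcases hz with rfl | rfl | rfl
    exacts [oA, oB, oC]
  · intro x hx y hy hxy
    simp only [Finset.mem_insert, Finset.mem_singleton] at hx hy
    rcases hx with rfl | rfl | rfl <;> rcases hy with rfl | rfl | rfl
    exacts [absurd rfl hxy, hdAB, hdAC, hdAB.symm, absurd rfl hxy, hdBC, hdAC.symm, hdBC.symm,
      absurd rfl hxy]

theorem smul_mem_trios {σ : Equiv.Perm GolayPt} (hσ : σ ∈ M24) {T : Finset (Finset GolayPt)}
    (hT : T ∈ trios) : σ • T ∈ trios := by
  refine ⟨(Finset.card_smul_finset σ T).trans hT.1, ?_, ?_⟩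
  · intro o ho
    obtain ⟨u, hu, rfl⟩ := Finset.mem_smul_finset.1 ho
    exact smul_mem_octads hσ (hT.2.1 u hu)
  · intro o ho u hu hne
    obtain ⟨o', ho', rfl⟩ := Finset.mem_smul_finset.1 ho
    obtain ⟨u', hu', rfl⟩ := Finset.mem_smul_finset.1 hu
    have hd := hT.2.2 o' ho' u' hu' fun e => hne (e ▸ rfl)
    rw [Finset.disjoint_iff_inter_eq_empty] at hd ⊢
    rw [← Finset.smul_finset_inter, hd]
    rfl

theorem exists_trio_map {T : Finset (Finset GolayPt)} (hT : T ∈ trios) :
    ∃ σ ∈ M24, σ • stdTrio = T := by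
  obtain ⟨a, b, c, hab, hac, hbc, rfl⟩ := Finset.card_eq_three.1 hT.1
  have h := trioRoot_facts
  simp only [Bool.and_eq_true, beq_iff_eq] at h
  obtain ⟨⟨⟨hA, hB⟩, -⟩, h0⟩ := h
  set A := Nat.land trioRoot 16777215 with hAd
  set B := Nat.shiftRight trioRoot 24 with hBd
  -- move everything to the standard octad first
  have key : ∀ u v : Finset GolayPt, u ∈ octads → v ∈ octads → Disjoint u v →
      ∃ σ ∈ M24, σ • setOf m24Octad = u ∧ σ • setOf octOct0.root = v := by
    intro u v hu hv hd
    obtain ⟨σ₀, hσ₀⟩ := carries_octad hu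
    obtain ⟨σ, hσ, hσe⟩ := octOct0.extend (fam := cutList (weightList 8) ([m24Octad].zip [0]))
      (by decide +kernel) hσ₀ (s := v) ((mem_cutList_carries (ks := [0]) hσ₀ (by rfl)).2
        ⟨(inv_smul_mem_octads_iff hσ₀.1 _).2 hv, by
          simp [Finset.disjoint_iff_inter_eq_empty.1 hd]⟩)
    simp only [List.map_append, List.map_cons, List.map_nil, List.cons_append, List.nil_append,
      List.cons.injEq, and_true] at hσe
    exact ⟨σ, hσ, hσe.1, hσe.2⟩
  have hdAB : Disjoint (setOf A) (setOf B) := by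
    rw [Finset.disjoint_iff_inter_eq_empty, ← Finset.card_eq_zero, ← setOf_land, card_setOf]
    exact h0
  obtain ⟨τ, hτ, hτA, hτB⟩ := key _ _ (setOf_mem_octads hA) (setOf_mem_octads hB) hdAB
  obtain ⟨σ, hσ, hσa, hσb⟩ := key a b (hT.2.1 a (by simp)) (hT.2.1 b (by simp))
    (hT.2.2 a (by simp) b (by simp) hab)
  refine ⟨σ * τ⁻¹, M24.mul_mem hσ (M24.inv_mem hτ), ?_⟩
  have eA : (σ * τ⁻¹) • setOf A = a := by rw [mul_smul, inv_smul_eq_iff.2 hτA.symm, hσa]
  have eB : (σ * τ⁻¹) • setOf B = b := by rw [mul_smul, inv_smul_eq_iff.2 hτB.symm, hσb]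
  have ec := trio_third hT (a := a) (b := b) (c := c) (by simp) (by simp) (by simp) hab hac hbc
  have eC : (σ * τ⁻¹) • setOf (Nat.xor (Nat.xor A B) 16777215) = c := by
    rw [setOf_xor', setOf_xor', Finset.smul_finset_symmDiff, Finset.smul_finset_symmDiff, eA, eB,
      setOf_full, Finset.smul_finset_univ, ← ec]
  rw [show stdTrio = {setOf A, setOf B, setOf (Nat.xor (Nat.xor A B) 16777215)} by
    simp [stdTrio, semTrio, trioMembers, A, B]]
  rw [Finset.smul_finset_insert, Finset.smul_finset_insert, Finset.smul_finset_singleton, eA, eB, eC]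

theorem trios_eq : trios = semTrio '' {x | x ∈ trioAll.orb} := by
  have h := trioAll_ok
  simp only [Bool.and_eq_true, beq_iff_eq] at h
  have ho := trioAll.orbit_eq (sem := semTrio) h.1.1.1
    (fun g hg => List.all_eq_true.1 m24Gens_inM24 g hg) (fun g hg x _ => semTrio_act hg) M24_eq_closure
  rw [h.2] at ho
  rw [← ho]
  ext T
  constructor
  · intro hT
    obtain ⟨σ, hσ, he⟩ := exists_trio_map hT
    exact ⟨⟨σ, hσ⟩, he⟩
  · rintro ⟨g, rfl⟩
    exact smul_mem_trios g.2 stdTrio_mem

theorem semTrio_injOn : Set.InjOn semTrio {x | x ∈ trioAll.orb} := by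
  intro x hx y hy h
  have hall := trioAll_ok
  simp only [Bool.and_eq_true, List.all_eq_true] at hall
  have hX := hall.1.1.2 x hx
  have hY := hall.1.1.2 y hy
  simp only [trioNameOk, Bool.and_eq_true, Nat.blt_eq, Nat.ble_eq, Bool.not_eq_true'] at hX hY
  obtain ⟨⟨⟨⟨hxl, hx23⟩, hxb⟩, hxle⟩, hxc⟩ := hX
  obtain ⟨⟨⟨⟨hyl, hy23⟩, hyb⟩, hyle⟩, hyc⟩ := hY
  set A := Nat.land x 16777215 with hA
  set B := Nat.shiftRight x 24 with hB
  set C := Nat.xor (Nat.xor A B) 16777215 with hC
  set A' := Nat.land y 16777215 with hA'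
  set B' := Nat.shiftRight y 24 with hB'
  set C' := Nat.xor (Nat.xor A' B') 16777215 with hC'
  have hlA : A < 2 ^ 24 := land_full_lt x
  have hlA' : A' < 2 ^ 24 := land_full_lt y
  have hlB : B < 2 ^ 24 := by simpa using hxl
  have hlB' : B' < 2 ^ 24 := by simpa using hyl
  have hlC : C < 2 ^ 24 := by
    show A ^^^ B ^^^ 16777215 < 2 ^ 24
    exact Nat.xor_lt_two_pow (Nat.xor_lt_two_pow hlA hlB) (by norm_num)
  have hlC' : C' < 2 ^ 24 := by
    show A' ^^^ B' ^^^ 16777215 < 2 ^ 24
    exact Nat.xor_lt_two_pow (Nat.xor_lt_two_pow hlA' hlB') (by norm_num)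
  have hA23 : A.testBit 23 = true := by
    show (x &&& 16777215).testBit 23 = true
    rw [Nat.testBit_and, hx23]; decide
  have hA'23 : A'.testBit 23 = true := by
    show (y &&& 16777215).testBit 23 = true
    rw [Nat.testBit_and, hy23]; decide
  have hmem : ∀ u, u < 2 ^ 24 → setOf u ∈ semTrio y → u = A' ∨ u = B' ∨ u = C' := by
    intro u hu hm
    simp only [semTrio, trioMembers, List.map_cons, List.map_nil, List.toFinset_cons,
      List.toFinset_nil, Finset.mem_insert, Finset.notMem_empty, or_false] at hm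
    rcases hm with e | e | e
    · exact Or.inl (setOf_inj hu hlA' e)
    · exact Or.inr (Or.inl (setOf_inj hu hlB' e))
    · exact Or.inr (Or.inr (setOf_inj hu hlC' e))
  have hmem' : ∀ u, u < 2 ^ 24 → setOf u ∈ semTrio x → u = A ∨ u = B ∨ u = C := by
    intro u hu hm
    simp only [semTrio, trioMembers, List.map_cons, List.map_nil, List.toFinset_cons,
      List.toFinset_nil, Finset.mem_insert, Finset.notMem_empty, or_false] at hm
    rcases hm with e | e | e
    · exact Or.inl (setOf_inj hu hlA e)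
    · exact Or.inr (Or.inl (setOf_inj hu hlB e))
    · exact Or.inr (Or.inr (setOf_inj hu hlC e))
  have inx : ∀ z, setOf (Nat.land z 16777215) ∈ semTrio z ∧ setOf (Nat.shiftRight z 24) ∈ semTrio z := by
    intro z; simp [semTrio, trioMembers]
  have eA : A = A' := by
    rcases hmem A hlA (h ▸ (inx x).1) with e | e | e
    · exact e
    · rw [e, hyb] at hA23; exact absurd hA23 (by simp)
    · rw [e, hyc] at hA23; exact absurd hA23 (by simp)
  have hBA : B ≠ A := fun e => by rw [e, hA23] at hxb; simp at hxb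
  have hBA' : B' ≠ A' := fun e => by rw [e, hA'23] at hyb; simp at hyb
  have eB : B = B' := by
    rcases hmem B hlB (h ▸ (inx x).2) with e | e | e
    · exact absurd (e.trans eA.symm) hBA
    · exact e
    · rcases hmem' B' hlB' (h.symm ▸ (inx y).2) with e' | e' | e'
      · exact absurd (e'.trans eA) hBA'
      · exact e'.symm
      · omega
  have hx' : x = B * 2 ^ 24 + A := by
    show x = x >>> 24 * 2 ^ 24 + (x &&& 16777215)
    rw [show (16777215 : ℕ) = 2 ^ 24 - 1 from rfl, Nat.and_two_pow_sub_one_eq_mod,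
      Nat.shiftRight_eq_div_pow, Nat.div_add_mod']
  have hy' : y = B' * 2 ^ 24 + A' := by
    show y = y >>> 24 * 2 ^ 24 + (y &&& 16777215)
    rw [show (16777215 : ℕ) = 2 ^ 24 - 1 from rfl, Nat.and_two_pow_sub_one_eq_mod,
      Nat.shiftRight_eq_div_pow, Nat.div_add_mod']
  rw [hx', hy', eA, eB]

theorem trios_ncard : trios.ncard = 3795 := by
  have h := trioAll_ok
  simp only [Bool.and_eq_true, beq_iff_eq] at h
  rw [trios_eq, trioAll.ncard_image h.1.1.1 semTrio_injOn, h.1.2]

/-- The stabiliser of the standard trio in the group of the code. -/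
abbrev trioStab : Subgroup (Equiv.Perm GolayPt) :=
  M24 ⊓ MulAction.stabilizer (Equiv.Perm GolayPt) stdTrio

theorem card_trioStab : Nat.card trioStab = 64512 := by
  refine card_inf_stabilizer (S := trios) M24 stdTrio (n := 3795) stdTrio_mem
    (fun g hg y hy => smul_mem_trios hg hy) (fun y hy => ?_) trios_ncard (by rw [card_M24])
    (by norm_num)
  obtain ⟨σ, hσ, h⟩ := exists_trio_map hy
  exact ⟨σ, hσ, h⟩

theorem trioGC_ok : (trioGC.ok && (chainProd trioGC.chain == 64512) &&
    trioGC.gens.all (fun g => inM24 g && (trioAct g trioRoot == trioRoot))) = true := by decide +kernel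

theorem trioGC_gens {g : ℕ} (hg : g ∈ trioGC.gens) :
    inM24 g = true ∧ toPerm g • stdTrio = stdTrio := by
  have h := trioGC_ok
  simp only [Bool.and_eq_true, List.all_eq_true, beq_iff_eq] at h
  refine ⟨(h.2 g hg).1, ?_⟩
  rw [stdTrio, ← semTrio_act (h.2 g hg).1, (h.2 g hg).2]

theorem trioStab_eq : trioStab = Subgroup.closure {τ | ∃ g ∈ trioGC.gens, toPerm g = τ} := by
  have h := trioGC_ok
  simp only [Bool.and_eq_true, beq_iff_eq] at h
  exact (trioGC.grp_eq (H := trioStab) h.1.1
    (fun g hg => ⟨toPerm_mem_M24 (trioGC_gens hg).1, (trioGC_gens hg).2⟩)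
    (by rw [card_trioStab, h.1.2])).symm

/-- The five suborbits. -/
def trioOrbs : List OrbCert := [trioOrb0, trioOrb1, trioOrb2, trioOrb3, trioOrb4]

/-- All suborbit names in a row. -/
def trioCat : List ℕ := trioOrb0.orb ++ trioOrb1.orb ++ trioOrb2.orb ++ trioOrb3.orb ++ trioOrb4.orb

theorem trioOrbs_ok : (trioOrbs.all fun c => c.ok trioAct trioGC.gens 48) = true := by decide +kernel

theorem trioPos_ok : (covTree 48 (packSlots 48 trioCat) 3795 trioAll.orb trioPos &&
    slotsOk 48 (packSlots 48 trioCat) 0 trioCat && (trioCat.length == 3795)) = true := by decide +kernel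

/-- Each suborbit name is a trio name, by position. -/
theorem trioAll_slots : slotsOk 48 (trioAll.tab 48) 0 trioAll.orb = true := by decide +kernel

theorem trioCat_sub {x : ℕ} (hx : x ∈ trioCat) : x ∈ trioAll.orb := by
  classical
  have h := trioPos_ok
  simp only [Bool.and_eq_true, beq_iff_eq] at h
  obtain ⟨⟨hcov, hs⟩, hl⟩ := h
  have hsub : trioAll.orb.toFinset ⊆ trioCat.toFinset := fun m hm => by
    obtain ⟨k, hk, he⟩ := covTree_spec _ _ hcov m (List.mem_toFinset.1 hm)
    have := slotsOk_spec _ _ hs k (by omega)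
    rw [Nat.zero_add, he] at this
    exact List.mem_toFinset.2 (this ▸ List.getElem_mem _)
  have ha := trioAll_ok
  simp only [Bool.and_eq_true, beq_iff_eq] at ha
  have heq : trioAll.orb.toFinset = trioCat.toFinset := Finset.eq_of_subset_of_card_le hsub (by
    refine le_trans (List.toFinset_card_le _) ?_
    rw [List.toFinset_card_of_nodup (trioAll.nodup ha.1.1.1), hl, ha.1.2])
  rw [← List.mem_toFinset, heq, List.mem_toFinset]
  exact hx

theorem trioOrb_orbit {c : OrbCert} (hc : c ∈ trioOrbs) :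
    MulAction.orbit trioStab (semTrio c.root) = semTrio '' {x | x ∈ c.orb} ∧
      (semTrio '' {x | x ∈ c.orb}).ncard = c.orb.length := by
  have h := List.all_eq_true.1 trioOrbs_ok c hc
  refine ⟨c.orbit_eq h (fun g hg => (trioGC_gens hg).1) (fun g hg x _ => semTrio_act hg) trioStab_eq,
    c.ncard_image h (semTrio_injOn.mono fun x hx => trioCat_sub ?_)⟩
  simp only [trioOrbs, List.mem_cons, List.not_mem_nil, or_false] at hc
  simp only [trioCat, List.mem_append]
  rcases hc with rfl | rfl | rfl | rfl | rfl <;> simp_all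

theorem trios_split : trios = {stdTrio} ∪ semTrio '' {x | x ∈ trioOrb1.orb} ∪
    semTrio '' {x | x ∈ trioOrb2.orb} ∪ semTrio '' {x | x ∈ trioOrb3.orb} ∪
    semTrio '' {x | x ∈ trioOrb4.orb} := by
  have h0 : trioOrb0.orb = [trioRoot] := by decide +kernel
  have h := trioPos_ok
  simp only [Bool.and_eq_true, beq_iff_eq] at h
  obtain ⟨⟨hcov, hs⟩, hl⟩ := h
  rw [trios_eq]
  ext X
  constructor
  · rintro ⟨m, hm, rfl⟩
    obtain ⟨k, hk, he⟩ := covTree_spec _ _ hcov m hm
    have := slotsOk_spec _ _ hs k (by omega)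
    rw [Nat.zero_add, he] at this
    have hmem : m ∈ trioCat := this ▸ List.getElem_mem _
    simp only [trioCat, List.mem_append] at hmem
    rcases hmem with (((hm' | hm') | hm') | hm') | hm'
    · rw [h0, List.mem_singleton] at hm'
      exact Or.inl (Or.inl (Or.inl (Or.inl (by rw [Set.mem_singleton_iff, hm']; rfl))))
    · exact Or.inl (Or.inl (Or.inl (Or.inr ⟨m, hm', rfl⟩)))
    · exact Or.inl (Or.inl (Or.inr ⟨m, hm', rfl⟩))
    · exact Or.inl (Or.inr ⟨m, hm', rfl⟩)
    · exact Or.inr ⟨m, hm', rfl⟩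
  · rintro ((((hX | ⟨m, hm, rfl⟩) | ⟨m, hm, rfl⟩) | ⟨m, hm, rfl⟩) | ⟨m, hm, rfl⟩)
    · rw [Set.mem_singleton_iff] at hX
      exact ⟨trioRoot, trioCat_sub (by simp [trioCat, h0]), hX.symm⟩
    all_goals
      refine ⟨m, trioCat_sub ?_, rfl⟩
      simp only [trioCat, List.mem_append]
      first
      | exact Or.inl (Or.inl (Or.inl (Or.inr hm)))
      | exact Or.inl (Or.inl (Or.inr hm))
      | exact Or.inl (Or.inr hm)
      | exact Or.inr hm

theorem trioGrow_ok : (growOk trioAct trioGC.gens trioRoot trioOrb1.root trioGrow1 trioGrowProg1 trioGrowIx1 &&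
    growOk trioAct trioGC.gens trioRoot trioOrb2.root trioGrow2 trioGrowProg2 trioGrowIx2 &&
    growOk trioAct trioGC.gens trioRoot trioOrb3.root trioGrow3 trioGrowProg3 trioGrowIx3 &&
    growOk trioAct trioGC.gens trioRoot trioOrb4.root trioGrow4 trioGrowProg4 trioGrowIx4) = true := by
  decide +kernel

theorem trioStab_isCoatom {T : Finset (Finset GolayPt)} (hT : T ∈ trios) :
    IsCoatom (MulAction.stabilizer M24 T) := by
  obtain ⟨σ, hσ, rfl⟩ := exists_trio_map hT
  have hg := trioGrow_ok
  simp only [Bool.and_eq_true] at hg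
  obtain ⟨⟨⟨hg1, hg2⟩, hg3⟩, hg4⟩ := hg
  have key : ∀ {c : OrbCert}, c ∈ trioOrbs → ∀ {g₀ : ℕ} {prog : List (ℕ × ℕ)} {ix : List ℕ},
      growOk trioAct trioGC.gens trioRoot c.root g₀ prog ix = true →
      ∀ {K : Subgroup (Equiv.Perm GolayPt)}, trioStab ≤ K → ∀ {g : Equiv.Perm GolayPt}, g ∈ K →
      g ∈ M24 → g • stdTrio ∈ semTrio '' {x | x ∈ c.orb} → M24 ≤ K := by
    intro c hc g₀ prog ix hgrow K hK g hgK hgM hm
    exact M24_le_of_grow (List.all_eq_true.1 trioOrbs_ok c hc) (fun g hg => (trioGC_gens hg).1)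
      (fun g hg x _ => semTrio_act hg) (fun g hg => semTrio_act hg) hgrow
      (fun g hg => (trioGC_gens hg).2) hK hgK hgM hm
  refine isCoatom_of_suborbits hσ ⟨toPerm trioGrow1, toPerm_mem_M24 (by decide +kernel), ?_⟩
    fun K hK g hgK hgM hne => ?_
  · rw [stdTrio, ← semTrio_act (by decide +kernel)]
    intro e
    have h0 : trioOrb0.orb = [trioRoot] := by decide +kernel
    have h1 : trioAct trioGrow1 trioRoot ∈ trioOrb1.orb := by decide +kernel
    have := semTrio_injOn (trioCat_sub (x := trioAct trioGrow1 trioRoot) (by simp [trioCat, h1]))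
      (trioCat_sub (x := trioRoot) (by simp [trioCat, h0])) e
    exact absurd this (by decide +kernel)
  · have hmem : g • stdTrio ∈ trios := smul_mem_trios hgM stdTrio_mem
    rw [trios_split] at hmem
    rcases hmem with (((h | h) | h) | h) | h
    · exact absurd (Set.mem_singleton_iff.1 h) hne
    · exact key (c := trioOrb1) (by simp [trioOrbs]) hg1 hK hgK hgM h
    · exact key (c := trioOrb2) (by simp [trioOrbs]) hg2 hK hgK hgM h
    · exact key (c := trioOrb3) (by simp [trioOrbs]) hg3 hK hgK hgM h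
    · exact key (c := trioOrb4) (by simp [trioOrbs]) hg4 hK hgK hgM h

end

end Cfsg.Agent.Golay24
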