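import Cfsg.Agent.Lib.Golay.Classes
import Cfsg.Agent.Lib.Golay.SextetStab
import Cfsg.Agent.Lib.Golay.TrioStab

/-!
Octads, dodecads, sextets and trios fixed by elements of M24.
-/

set_option autoImplicit false

namespace Cfsg.Agent.Golay24

noncomputable section

open Cfsg
open scoped Pointwise

attribute [local irreducible] weightList codeList combTo cosetLeads sextList m24Prog

/-- Fixed members of a stable family are counted on any conjugate. -/
theorem ncard_fixed_conj {β : Type*} [MulAction (Equiv.Perm GolayPt) β] {F : Set β}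
    (hF : ∀ σ ∈ M24, ∀ x ∈ F, σ • x ∈ F) {k g r : Equiv.Perm GolayPt} (hk : k ∈ M24)
    (h : k * g * k⁻¹ = r) :
    {x | x ∈ F ∧ g • x = x}.ncard = {x | x ∈ F ∧ r • x = x}.ncard := by
  have he : (k • ·) '' {x | x ∈ F ∧ g • x = x} = {x | x ∈ F ∧ r • x = x} := by
    ext x
    simp only [Set.mem_image, Set.mem_ofPred_eq]
    constructor
    · rintro ⟨y, ⟨hy, hgy⟩, rfl⟩
      refine ⟨hF k hk y hy, ?_⟩
      rw [← h, mul_smul, mul_smul, inv_smul_smul, hgy]
    · rintro ⟨hx, hrx⟩
      refine ⟨k⁻¹ • x, ⟨hF _ (M24.inv_mem hk) x hx, ?_⟩, smul_inv_smul _ _⟩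
      rw [← h, mul_smul, mul_smul] at hrx
      rwa [eq_inv_smul_iff]
  rw [← he, Set.ncard_image_of_injective _ (MulAction.injective k)]

theorem ncard_setOf_filter {l : List ℕ} (hl : ∀ m ∈ l, m < 2 ^ 24) (hn : l.Nodup) :
    (setOf '' {m | m ∈ l}).ncard = l.length := by
  have hinj : Set.InjOn setOf {m | m ∈ l} := fun a ha b hb e => setOf_inj (hl a ha) (hl b hb) e
  rw [hinj.ncard_image,
    show {m | m ∈ l} = (↑l.toFinset : Set ℕ) by ext; simp, Set.ncard_coe_finset,
    List.toFinset_card_of_nodup hn]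

/-- The number of listed masks fixed by a packed code. -/
def fixedInList (r : ℕ) (l : List ℕ) : ℕ := (l.filter fun m => img r m == m).length

theorem ncard_fixed_words {F : Set (Finset GolayPt)} {n : ℕ}
    (hF : ∀ s, s ∈ F ↔ maskOf s ∈ weightList n) {r : ℕ} (hr : validP r = true) :
    {s | s ∈ F ∧ toPerm r • s = s}.ncard = fixedInList r (weightList n) := by
  have hlt : ∀ m ∈ (weightList n).filter (fun m => img r m == m), m < 2 ^ 24 := fun m hm =>
    weightList_lt (List.mem_filter.1 hm).1
  rw [fixedInList, ← ncard_setOf_filter hlt ((weightList_nodup n).filter _)]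
  congr 1
  ext s
  simp only [Set.mem_image, Set.mem_ofPred_eq, List.mem_filter, beq_iff_eq]
  constructor
  · rintro ⟨hs, hfix⟩
    exact ⟨maskOf s, ⟨(hF s).1 hs, by rw [← maskOf_smul hr, hfix]⟩, setOf_maskOf s⟩
  · rintro ⟨m, ⟨hm, hfix⟩, rfl⟩
    exact ⟨(hF _).2 (by rwa [maskOf_setOf (weightList_lt hm)]), by rw [smul_setOf hr, hfix]⟩

theorem ncard_fixed_sextets {r : ℕ} (hr : inM24 r = true) :
    {S | S ∈ sextets ∧ toPerm r • S = S}.ncard =
      (sextList.filter fun x => sextAct r x == x).length := by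
  have hcanon : ∀ x ∈ sextList, semSext (sextAct r x) = toPerm r • semSext x ∧
      sextAct r x ∈ sextList := by
    intro x hx
    obtain ⟨hlt, h4, -⟩ := sextList_props hx
    have hb : fourB x = true := by
      simp only [fourB, Bool.and_eq_true, Nat.blt_eq, beq_iff_eq]
      exact ⟨by simpa using hlt, h4⟩
    refine ⟨semSext_act hr hb, ?_⟩
    have hv := valid_of_inM24 hr
    have h4' : pop24 (img r x) = 4 := by
      rw [← card_setOf, ← smul_setOf hv, Finset.card_smul_finset, card_setOf, h4]
    have hsp := (canon4_spec (img_lt hv x) h4').2.1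
    have hs : syn (img r x) < cosetLeads.length := by rw [cosetLeads_spec.1]; exact syn_lt _
    show canon4 (img r x) ∈ sextList
    unfold sextList
    rw [List.mem_filter, beq_iff_eq]
    refine ⟨?_, hsp⟩
    rw [canon4, leadTab_spec _ (syn_lt _), List.getD_eq_getElem _ _ hs]
    exact List.getElem_mem _
  have hnd : sextList.Nodup := by
    unfold sextList
    refine List.Nodup.filter _ ?_
    rw [List.nodup_iff_injective_get]
    intro a b hab
    have ha := leadSeqOk_spec cosetLeads 0 a cosetLeads_spec.2 a.isLt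
    have hb := leadSeqOk_spec cosetLeads 0 b cosetLeads_spec.2 b.isLt
    rw [List.getD_eq_getElem _ _ a.isLt] at ha
    rw [List.getD_eq_getElem _ _ b.isLt] at hb
    have he : cosetLeads[(a : ℕ)] = cosetLeads[(b : ℕ)] := hab
    rw [he, hb.2] at ha
    exact Fin.ext (by omega)
  rw [← List.toFinset_card_of_nodup (hnd.filter _), ← Set.ncard_coe_finset,
    ← Set.InjOn.ncard_image (f := semSext) (fun a ha b hb e => semSext_injOn
      (List.mem_filter.1 (List.mem_toFinset.1 ha)).1 (List.mem_filter.1 (List.mem_toFinset.1 hb)).1 e)]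
  congr 1
  ext S
  simp only [Set.mem_image, Set.mem_ofPred_eq, List.coe_toFinset, List.mem_filter, beq_iff_eq]
  constructor
  · rintro ⟨hS, hfix⟩
    rw [sextets_eq] at hS
    obtain ⟨x, hx, rfl⟩ := hS
    refine ⟨x, ⟨hx, semSext_injOn (hcanon x hx).2 hx ?_⟩, rfl⟩
    rw [(hcanon x hx).1, hfix]
  · rintro ⟨x, ⟨hx, hfix⟩, rfl⟩
    refine ⟨by rw [sextets_eq]; exact ⟨x, hx, rfl⟩, ?_⟩
    rw [← (hcanon x hx).1, hfix]

/-- The masks of a name are permuted among themselves. -/
def trioFixed (r x : ℕ) : Bool :=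
  (trioMembers x).all fun m => (trioMembers x).contains (img r m)

theorem trioMembers_lt {x : ℕ} (hx : trioNameOk x = true) : ∀ m ∈ trioMembers x, m < 2 ^ 24 := by
  simp only [trioNameOk, Bool.and_eq_true, Nat.blt_eq] at hx
  have hB : x >>> 24 < 2 ^ 24 := by simpa using hx.1.1.1.1
  intro m hm
  simp only [trioMembers, List.mem_cons, List.not_mem_nil, or_false] at hm
  rcases hm with rfl | rfl | rfl
  · exact land_full_lt x
  · exact hB
  · exact Nat.xor_lt_two_pow (Nat.xor_lt_two_pow (land_full_lt x) hB) (by norm_num)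

theorem ncard_fixed_trios {r : ℕ} (hr : validP r = true) :
    {T | T ∈ trios ∧ toPerm r • T = T}.ncard = (trioAll.orb.filter (trioFixed r)).length := by
  have h := trioAll_ok
  simp only [Bool.and_eq_true, List.all_eq_true] at h
  have hok : ∀ x ∈ trioAll.orb, trioNameOk x = true := h.1.1.2
  have hnd : trioAll.orb.Nodup := trioAll.nodup h.1.1.1
  have key : ∀ x ∈ trioAll.orb, trioFixed r x = true ↔ toPerm r • semTrio x = semTrio x := by
    intro x hx
    have hlt := trioMembers_lt (hok x hx)
    simp only [trioFixed, List.all_eq_true, List.contains_iff_mem]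
    constructor
    · intro hall
      refine Finset.eq_of_subset_of_card_le (fun t ht => ?_) (by rw [Finset.card_smul_finset])
      obtain ⟨u, hu, rfl⟩ := Finset.mem_smul_finset.1 ht
      simp only [semTrio, List.mem_toFinset, List.mem_map] at hu ⊢
      obtain ⟨m, hm, rfl⟩ := hu
      exact ⟨_, hall m hm, (smul_setOf hr m).symm⟩
    · intro hfix m hm
      have : toPerm r • setOf m ∈ semTrio x := by
        rw [← hfix]
        exact Finset.smul_mem_smul_finset (List.mem_toFinset.2 (List.mem_map.2 ⟨m, hm, rfl⟩))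
      simp only [semTrio, List.mem_toFinset, List.mem_map] at this
      obtain ⟨u, hu, he⟩ := this
      rw [smul_setOf hr] at he
      rwa [← setOf_inj (hlt u hu) (img_lt hr m) he]
  rw [← List.toFinset_card_of_nodup (hnd.filter _), ← Set.ncard_coe_finset,
    ← Set.InjOn.ncard_image (f := semTrio) (fun a ha b hb e => semTrio_injOn
      (List.mem_filter.1 (List.mem_toFinset.1 ha)).1 (List.mem_filter.1 (List.mem_toFinset.1 hb)).1 e)]
  congr 1
  ext T
  simp only [Set.mem_image, Set.mem_ofPred_eq, List.coe_toFinset, List.mem_filter]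
  constructor
  · rintro ⟨hT, hfix⟩
    rw [trios_eq] at hT
    obtain ⟨x, hx, rfl⟩ := hT
    exact ⟨x, ⟨hx, (key x hx).2 hfix⟩, rfl⟩
  · rintro ⟨x, ⟨hx, hfix⟩, rfl⟩
    exact ⟨by rw [trios_eq]; exact ⟨x, hx, rfl⟩, (key x hx).1 hfix⟩

/-- The four counts of one representative. -/
def countsOk (r o t s : ℕ) : Bool :=
  (fixedInList r (weightList 8) == o) &&
    ((trioAll.orb.filter (trioFixed r)).length == t) &&
    ((sextList.filter fun x => sextAct r x == x).length == s)

theorem counts_eight : countsOk invEight 71 99 91 = true := by decide +kernel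

theorem counts_none : countsOk invNone 15 75 51 = true := by decide +kernel

theorem counts_triSix : countsOk triSix 21 15 16 = true := by decide +kernel

theorem counts_triSix_dod : fixedInList triSix (weightList 12) = 20 := by decide +kernel

theorem counts_triNone : countsOk triNone 0 15 7 = true := by decide +kernel

theorem counts_transport {r o t s : ℕ} (h : countsOk r o t s = true) (hr : inM24 r = true)
    {k g : Equiv.Perm GolayPt} (hk : k ∈ M24) (hc : k * g * k⁻¹ = toPerm r) :
    {x : Finset GolayPt | x ∈ octads ∧ g • x = x}.ncard = o ∧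
      {T : Finset (Finset GolayPt) | T ∈ trios ∧ g • T = T}.ncard = t ∧
      {S : Finset (Finset GolayPt) | S ∈ sextets ∧ g • S = S}.ncard = s := by
  simp only [countsOk, Bool.and_eq_true, beq_iff_eq] at h
  refine ⟨?_, ?_, ?_⟩
  · rw [ncard_fixed_conj (fun σ hσ x hx => smul_mem_octads hσ hx) hk hc,
      ncard_fixed_words (fun s => mem_octads_iff) (valid_of_inM24 hr), h.1.1]
  · rw [ncard_fixed_conj (fun σ hσ x hx => smul_mem_trios hσ hx) hk hc,
      ncard_fixed_trios (valid_of_inM24 hr), h.1.2]
  · rw [ncard_fixed_conj (fun σ hσ x hx => smul_mem_sextets hσ hx) hk hc,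
      ncard_fixed_sextets hr, h.2]

theorem reps_inM24 : inM24 invEight = true ∧ inM24 invNone = true ∧ inM24 triSix = true ∧
    inM24 triNone = true := by
  have h := classReps_ok
  simp only [Bool.and_eq_true, List.all_cons, List.all_nil, beq_iff_eq] at h
  exact ⟨h.1.1.1.1.1.1.1, h.1.1.1.1.1.2.1.1, h.1.1.1.1.2.1.1, h.1.1.1.1.2.2.1.1⟩

end

end Cfsg.Agent.Golay24
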