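import Cfsg.Agent.Lib.Golay.Conj

/-!
Named permutations in the group of the code, and the octad description of that group.
-/

set_option autoImplicit false

namespace Cfsg.Agent.Golay24

noncomputable section

open Cfsg
open scoped Pointwise

/-- The packed code of a permutation of the points. -/
def permCodeTo (f : GolayPt → GolayPt) : ℕ → ℕ
  | 0 => 0
  | n + 1 => Nat.lor (Nat.shiftLeft ((idx (f (pt ⟨n % 24, Nat.mod_lt _ (by norm_num)⟩))).val) (5 * n))
      (permCodeTo f n)

/-- The packed code of a function on the points agrees with it and preserves the code. -/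
def agreesM24 (f : GolayPt → GolayPt) : Bool :=
  inM24 (permCodeTo f 24) && decide (∀ x : GolayPt, (idx (f x) : ℕ) = app (permCodeTo f 24) (idx x))

theorem mem_M24_of_agrees {σ : Equiv.Perm GolayPt} (h : agreesM24 σ = true) : σ ∈ M24 := by
  simp only [agreesM24, Bool.and_eq_true, decide_eq_true_eq] at h
  have e : σ = toPerm (permCodeTo σ 24) := Equiv.ext fun x =>
    idx_inj.1 (Fin.ext (by rw [idx_toPerm (valid_of_inM24 h.1), h.2]))
  rw [e]
  exact toPerm_mem_M24 h.1

theorem shift_mem_M24 : Equiv.optionCongr (Equiv.addRight (1 : ZMod 23)) ∈ M24 :=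
  mem_M24_of_agrees (by decide +kernel)

theorem mulLeft_mem_M24 (u : (ZMod 23)ˣ) (hu : IsSquare u) :
    Equiv.optionCongr (Units.mulLeft u) ∈ M24 := by
  have key : ∀ v : ZMod 23, v ≠ 0 → agreesM24 (fun x => x.map (v * v * ·)) = true := by decide +kernel
  obtain ⟨v, rfl⟩ := hu
  refine mem_M24_of_agrees ?_
  have e : (⇑(Equiv.optionCongr (Units.mulLeft (v * v))) : GolayPt → GolayPt) =
      fun x => x.map ((v : ZMod 23) * (v : ZMod 23) * ·) := by
    funext x; cases x <;> simp [Units.mulLeft]
  rw [e]
  have : Fact (Nat.Prime 23) := ⟨by norm_num⟩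
  exact key v v.ne_zero

theorem projInv_mem_M24 : projInv ∈ M24 := mem_M24_of_agrees (by decide +kernel)

theorem cubeTwist_eq : (⇑cubeTwist : GolayPt → GolayPt) = cubeTwistFun := rfl

theorem cubeTwist_mem_M24 : cubeTwist ∈ M24 :=
  mem_M24_of_agrees (by rw [cubeTwist_eq]; decide +kernel)

theorem gens_eq : {σ | ∃ g ∈ m24Gens, toPerm g = σ} =
    ({Equiv.optionCongr (Equiv.addRight (1 : ZMod 23)), projInv, cubeTwist} :
      Set (Equiv.Perm GolayPt)) := by
  have h0 : validP (m24Gens.getD 0 0) = true := by decide +kernel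
  have h1 : validP (m24Gens.getD 1 0) = true := by decide +kernel
  have h2 : validP (m24Gens.getD 2 0) = true := by decide +kernel
  have e0 : toPerm (m24Gens.getD 0 0) = Equiv.optionCongr (Equiv.addRight (1 : ZMod 23)) :=
    Equiv.ext fun x => by rw [toPerm_apply h0]; revert x; decide +kernel
  have e1 : toPerm (m24Gens.getD 1 0) = projInv :=
    Equiv.ext fun x => by rw [toPerm_apply h1]; revert x; decide +kernel
  have e2 : toPerm (m24Gens.getD 2 0) = cubeTwist :=
    Equiv.ext fun x => by
      rw [toPerm_apply h2, cubeTwist_eq]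
      revert x; decide +kernel
  have hl : m24Gens = [m24Gens.getD 0 0, m24Gens.getD 1 0, m24Gens.getD 2 0] := rfl
  rw [← e0, ← e1, ← e2]
  ext σ
  rw [hl]
  simp [eq_comm]

/-- Octads whose symmetric differences give the basis words. -/
def basisOctads : List (ℕ × ℕ) := [(14919680, 0), (11654144, 0), (8077824, 0),
  (4038912, 0), (2019456, 0), (15515712, 0),
  (11952160, 0), (10170384, 0), (7221256, 0),
  (13938692, 0), (4845570, 0), (13062145, 0)]

theorem mem_M24_of_octads {σ : Equiv.Perm GolayPt} (h : ∀ o ∈ octads, σ • o ∈ octads) :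
    σ ∈ M24 := by
  have hb : ∀ i : Fin 12, (isOct (basisOctads.getD i (0, 0)).1 &&
      ((basisOctads.getD i (0, 0)).2 == 0 || isOct (basisOctads.getD i (0, 0)).2) &&
      ((basisOctads.getD i (0, 0)).1 ^^^ (basisOctads.getD i (0, 0)).2 == basisMasks.getD i 0)) =
        true := by decide +kernel
  let f : (GolayPt → ZMod 2) →ₗ[ZMod 2] (GolayPt → ZMod 2) :=
    LinearMap.funLeft (ZMod 2) (ZMod 2) σ.symm
  have hoct : ∀ m, isOct m = true → f (wordOf m) ∈ golayCode := by
    intro m hm
    obtain ⟨w, hw, he⟩ := (h _ (setOf_mem_octads hm)).1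
    have : f (wordOf m) = w := by
      apply support₂_injective
      rw [he, ← support₂_wordOf, smul_support₂]
      rfl
    exact this ▸ hw
  have : golayCode ≤ golayCode.comap f := by
    conv_lhs => rw [golayCode_eq_span]
    rw [Submodule.span_le]
    rintro w ⟨i, rfl⟩
    show f (basisWord i) ∈ golayCode
    have := hb i
    simp only [Bool.and_eq_true, Bool.or_eq_true, beq_iff_eq] at this
    rw [basisWord, ← this.2, wordOf_xor, map_add]
    refine Submodule.add_mem _ (hoct _ this.1.1) ?_
    rcases this.1.2 with h0 | h0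
    · rw [h0, wordOf_zero, map_zero]; exact Submodule.zero_mem _
    · exact hoct _ h0
  exact mem_M24_iff_maps.2 fun w hw => this hw

theorem M24_eq_octadAut : M24 = setSystemAut octads := by
  refine le_antisymm (fun σ hσ => ?_) (fun σ hσ => mem_M24_of_octads fun o ho => ?_)
  · rw [MulAction.mem_stabilizer_iff]
    apply Set.eq_of_subset_of_ncard_le
    · rintro _ ⟨o, ho, rfl⟩
      exact smul_mem_octads hσ ho
    · rw [← Set.image_smul, Set.ncard_image_of_injective _ (MulAction.injective σ)]
    · exact Set.toFinite _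
  · have := Set.smul_mem_smul_set (a := σ) ho
    rwa [MulAction.mem_stabilizer_iff.1 hσ] at this

end

end Cfsg.Agent.Golay24
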