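import Cfsg.Agent.Lib.Golay.SylowM22Data
import Cfsg.Agent.Lib.Golay.SylowCrit
import Cfsg.Agent.Lib.Golay.Sharp

/-!
A Sylow 2-subgroup of M22: self-normalising, simple fusion system.
-/

set_option autoImplicit false

namespace Cfsg.Agent.Golay24

noncomputable section

open Cfsg
open scoped Pointwise

/-- The hypotheses of the certificate for M22. -/
def m22SylHyp : SylHyp m22Syl Spor.M22 where
  inH g := inM24 g && app g 23 == 23 && app g 0 == 0
  mem g hg := by
    simp only [Bool.and_eq_true, beq_iff_eq] at hg
    exact ⟨⟨toPerm_mem_M24 hg.1.1,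
        pt23 ▸ toPerm_mem_stabilizer (by norm_num) (valid_of_inM24 hg.1.1) hg.1.2⟩,
      toPerm_mem_stabilizer (b := 0) (by norm_num) (valid_of_inM24 hg.1.1) hg.2⟩
  le := inf_le_left.trans inf_le_left
  k := 7
  m := 3465
  card := by rw [card_M22]; norm_num
  odd := by decide
  len := by decide +kernel
  pos := by decide
  grp := by decide +kernel
  closed := by decide +kernel
  F₀ := [23, 0]
  sets₀ := []
  fix₀ g hg x hx := by
    rw [List.mem_cons, List.mem_singleton] at hx
    rcases hx with hx | hx
    · rw [idx_inj.1 (Fin.ext (hx.trans (by decide : 23 = ((idx none : Fin 24) : ℕ))))]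
      exact hg.1.2
    · rw [idx_inj.1 (Fin.ext (hx.trans (by decide : 0 = ((idx (some 0) : Fin 24) : ℕ))))]
      exact hg.2
  setsFix _ _ s hs := by simp at hs
  nz := by decide +kernel
  fin g hg hF := eq_one_of_stages hg.1.1 m22SylStages _ (by decide +kernel) (fixesMask_prefMask hF)

end

end Cfsg.Agent.Golay24
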