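import Cfsg.Agent.Lib.Golay.SylowCert

/-!
Small subgroups of the group of the code given by all their elements, and isomorphisms read
from tables.
-/

set_option autoImplicit false

namespace Cfsg.Agent.Golay24.ListGroup

noncomputable section

open Cfsg

/-- Generators, all elements, and how each arises from an earlier one. -/
structure ListCert where
  gens : List ℕ
  elems : List ℕ
  tree : List (ℕ × ℕ)

/-- All checks. -/
def ListCert.ok (c : ListCert) : Bool :=
  c.gens.all inM24 && c.elems.all (fun x => validP x && (compP x idP == x)) &&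
    decide c.elems.Nodup && (c.elems.getD 0 0 == idP) && (c.tree.length + 1 == c.elems.length) &&
    (c.tree.zip (List.range c.tree.length)).all (fun e => Nat.ble e.1.1 e.2 &&
      Nat.blt e.1.2 c.gens.length &&
      (compP (c.gens.getD e.1.2 0) (c.elems.getD e.1.1 0) == c.elems.getD (e.2 + 1) 0))

/-- The subgroup generated. -/
def ListCert.grp (c : ListCert) : Subgroup (Equiv.Perm GolayPt) :=
  Subgroup.closure {τ | ∃ g ∈ c.gens, toPerm g = τ}

theorem ListCert.props {c : ListCert} (h : c.ok = true) {x : ℕ} (hx : x ∈ c.elems) :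
    validP x = true ∧ compP x idP = x ∧ toPerm x ∈ c.grp := by
  simp only [ListCert.ok, Bool.and_eq_true, List.all_eq_true, beq_iff_eq, Nat.ble_eq,
    Nat.blt_eq] at h
  obtain ⟨⟨⟨⟨⟨hg, hval⟩, -⟩, h0⟩, htl⟩, htree⟩ := h
  have key : ∀ i, i < c.elems.length → toPerm (c.elems.getD i 0) ∈ c.grp := by
    intro i
    induction i using Nat.strong_induction_on with
    | _ i ih =>
      intro hi
      cases i with
      | zero => rw [h0, toPerm_idP]; exact Subgroup.one_mem _
      | succ k =>
        have hk : k < c.tree.length := by omega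
        obtain ⟨⟨hj, hgl⟩, he⟩ := htree (c.tree[k], k)
          (List.mem_iff_getElem.2 ⟨k, by simp [hk], by simp⟩)
        have hj' : c.tree[k].1 ≤ k := hj
        have hmemj : c.elems.getD c.tree[k].1 0 ∈ c.elems := by
          rw [List.getD_eq_getElem _ _ (by omega)]; exact List.getElem_mem _
        have hgm : c.gens.getD c.tree[k].2 0 ∈ c.gens := by
          rw [List.getD_eq_getElem _ _ hgl]; exact List.getElem_mem _
        rw [← he, toPerm_compP (valid_of_inM24 (hg _ hgm)) (hval _ hmemj).1]
        exact c.grp.mul_mem (Subgroup.subset_closure ⟨_, hgm, rfl⟩) (ih _ (by omega) (by omega))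
  obtain ⟨i, hi, rfl⟩ := List.mem_iff_getElem.1 hx
  have hk := key i hi
  rw [List.getD_eq_getElem _ _ hi] at hk
  exact ⟨(hval _ hx).1, (hval _ hx).2, hk⟩

/-- A subgroup of the right order containing the generators is the one listed. -/
theorem ListCert.eq_of_card {c : ListCert} (h : c.ok = true) {K : Subgroup (Equiv.Perm GolayPt)}
    (hle : ∀ g ∈ c.gens, toPerm g ∈ K) {n : ℕ} (hn : c.elems.length = n) (hK : Nat.card K = n) :
    K = c.grp ∧ ∀ g ∈ K, ∃ x ∈ c.elems, toPerm x = g := by
  classical
  have hprops := fun x (hx : x ∈ c.elems) => c.props h hx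
  have hnd : c.elems.Nodup := by
    simp only [ListCert.ok, Bool.and_eq_true, decide_eq_true_eq] at h
    exact h.1.1.1.2
  have hgK : c.grp ≤ K := by
    rw [ListCert.grp, Subgroup.closure_le]
    rintro _ ⟨g, hg, rfl⟩
    exact hle g hg
  have hinj : Set.InjOn toPerm {x | x ∈ c.elems} := fun a ha b hb e =>
    toPerm_inj (hprops a ha).1 (hprops b hb).1 (hprops a ha).2.1 (hprops b hb).2.1 e
  have hsub : toPerm '' {x | x ∈ c.elems} ⊆ (K : Set (Equiv.Perm GolayPt)) := by
    rintro _ ⟨x, hx, rfl⟩
    exact hgK (hprops x hx).2.2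
  have heq : toPerm '' {x | x ∈ c.elems} = (K : Set (Equiv.Perm GolayPt)) := by
    refine Set.eq_of_subset_of_ncard_le hsub ?_ (Set.toFinite _)
    rw [hinj.ncard_image, show {x | x ∈ c.elems} = (↑c.elems.toFinset : Set ℕ) by ext; simp,
      Set.ncard_coe_finset, List.toFinset_card_of_nodup hnd, hn, ← hK]
    exact le_of_eq (Nat.card_coe_set_eq _).symm
  have hlist : ∀ g ∈ K, ∃ x ∈ c.elems, toPerm x = g := fun g hg => heq.symm.subset hg
  refine ⟨le_antisymm (fun g hg => ?_) hgK, hlist⟩
  obtain ⟨x, hx, rfl⟩ := hlist g hg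
  exact (hprops x hx).2.2

/-- Two bijective tables that agree on left multiplication by generators give an isomorphism. -/
theorem equiv_of_table {G K ι : Type*} [Group G] [Finite G] [Group K] (f : ι → G) (k : ι → K)
    (hf : Function.Bijective f) (hk : Function.Bijective k) (i₀ : ι) (h₀ : f i₀ = 1)
    (h₀' : k i₀ = 1) (D : Set ι) (hgen : Subgroup.closure (f '' D) = ⊤)
    (hstep : ∀ a ∈ D, ∀ i, ∃ j, f a * f i = f j ∧ k a * k i = k j) : Nonempty (G ≃* K) := by
  let e := Equiv.ofBijective f hf
  let φ : G → K := fun g => k (e.symm g)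
  have hφ : ∀ i, φ (f i) = k i := fun i => congrArg k (e.symm_apply_apply i)
  have hbij : Function.Bijective φ := hk.comp e.symm.bijective
  have key : ∀ d ∈ Subgroup.closure (f '' D), ∀ x : G, φ (d * x) = φ d * φ x := by
    intro d hd
    rw [← SetLike.mem_coe, ← Subgroup.coe_toSubmonoid, Subgroup.closure_toSubmonoid_of_finite,
      SetLike.mem_coe] at hd
    induction hd using Submonoid.closure_induction with
    | mem y hy =>
      obtain ⟨a, ha, rfl⟩ := hy
      intro x
      obtain ⟨i, rfl⟩ := hf.surjective x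
      obtain ⟨j, h1, h2⟩ := hstep a ha i
      rw [h1, hφ, hφ, hφ, h2]
    | one =>
      intro x
      rw [one_mul, show φ 1 = 1 by rw [← h₀, hφ, h₀'], one_mul]
    | mul y z _ _ hy hz =>
      intro x
      rw [mul_assoc, hy (z * x), hz x, hy z, mul_assoc]
  exact ⟨MulEquiv.ofBijective (MonoidHom.mk' φ fun a b => key a (hgen ▸ Subgroup.mem_top a) b) hbij⟩

end

end Cfsg.Agent.Golay24.ListGroup
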