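import Cfsg.Agent.Lib.Golay.SylowM24Data
import Cfsg.Agent.Lib.Golay.SylowCrit
import Cfsg.Agent.Lib.Golay.Sharp

/-!
A Sylow 2-subgroup of M24: self-normalising, simple fusion system.
-/

set_option autoImplicit false

namespace Cfsg.Agent.Golay24

noncomputable section

open Cfsg
open scoped Pointwise

/-- The hypotheses of the certificate for M24. -/
def m24SylHyp : SylHyp m24Syl M24 where
  inH g := inM24 g
  mem g hg := toPerm_mem_M24 hg
  le := le_rfl
  k := 10
  m := 239085
  card := by rw [card_M24]; norm_num
  odd := by decide
  len := by decide +kernel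
  pos := by decide
  grp := by decide +kernel
  closed := by decide +kernel
  F₀ := []
  sets₀ := []
  fix₀ _ _ x hx := by simp at hx
  setsFix _ _ s hs := by simp at hs
  nz := by decide +kernel
  fin g hg hF := eq_one_of_stages hg m24SylStages _ (by decide +kernel) (fixesMask_prefMask hF)

end

end Cfsg.Agent.Golay24
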