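import Cfsg.Agent.Lib.Golay.Classes
import Cfsg.Agent.Lib.Golay.OctadStab

/-!
The centralizer of an involution fixing an octad has the kernel of the octad as a self-centralizing
normal subgroup.
-/

set_option autoImplicit false

namespace Cfsg.Agent.Golay24

open Cfsg
open scoped Pointwise

theorem complStages_ok : stagesOk (Nat.xor 16777215 m24Octad)
    [[14919680, 11654144, 5621792, 7221256, 13938692, 4845570]] = true := by decide +kernel

/-- Only the identity fixes the outside of an octad. -/
theorem eq_one_of_fix_outside {o : Finset GolayPt} (ho : o ∈ octads) {g : Equiv.Perm GolayPt}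
    (hg : g ∈ M24) (hfix : ∀ z ∉ o, g z = z) : g = 1 := by
  obtain ⟨σ, hσM, hσ⟩ := carries_octad ho
  have hs : σ • setOf m24Octad = o := by simpa using hσ
  have h1 := eq_one_of_stages (M24.mul_mem (M24.mul_mem (M24.inv_mem hσM) hg) hσM) _ _ complStages_ok
    fun x hx => by
      have hx' : σ x ∉ o := by
        rw [← hs, ← Equiv.Perm.smul_def, Finset.smul_mem_smul_finset_iff, mem_setOf]
        rw [mem_setOf] at hx
        have e : Nat.xor 16777215 m24Octad = 16777215 ^^^ m24Octad := rfl
        rw [e, Nat.testBit_xor] at hx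
        have hf : ∀ i : Fin 24, (16777215 : ℕ).testBit i = true := by decide
        rw [hf] at hx
        simpa using hx
      simp [hfix _ hx']
  calc g = σ * (σ⁻¹ * g * σ) * σ⁻¹ := by group
    _ = 1 := by rw [h1]; group

/-- The fixed points of an involution with eight fixed points form an octad. -/
theorem fix_mem_octads {g : Equiv.Perm GolayPt} (hg : g ∈ M24) (h2 : orderOf g = 2)
    (hf : fixCount g = 8) : (Finset.univ.filter fun p => g p = p) ∈ octads := by
  have h8rep : (Finset.univ.filter fun p => toPerm invEight p = p) ∈ octads := by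
    have hv : validP invEight = true := by decide +kernel
    have e : (Finset.univ.filter fun p => toPerm invEight p = p) =
        Finset.univ.filter fun x : GolayPt => app invEight (idx x) = (idx x : ℕ) :=
      Finset.filter_congr fun x _ => by
        rw [← idx_toPerm hv, ← Fin.ext_iff, idx_inj]
    rw [e, mem_octads_iff]
    decide +kernel
  obtain ⟨k, hk, hc⟩ := conj_eight hg h2 hf
  have e : (Finset.univ.filter fun p => g p = p) =
      k⁻¹ • (Finset.univ.filter fun p => toPerm invEight p = p) := by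
    ext p
    rw [Finset.mem_inv_smul_finset_iff]
    simp [← hc]
  rw [e]
  exact smul_mem_octads (M24.inv_mem hk) h8rep

/-- The local structure at an involution fixing an octad, in a subgroup containing the kernel. -/
theorem local_eight {H : Subgroup (Equiv.Perm GolayPt)} (hH : H ≤ M24) (x : H) {o : Finset GolayPt}
    (ho : o ∈ octads) (hfix : ∀ z, (x : Equiv.Perm GolayPt) z = z ↔ z ∈ o) (hle : octFix o ≤ H) :
    ∃ P : Subgroup H, IsPGroup 2 P ∧ P ≤ Subgroup.centralizer ({x} : Set H) ∧
      (∀ g ∈ Subgroup.centralizer ({x} : Set H), ∀ q ∈ P, g * q * g⁻¹ ∈ P) ∧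
      Subgroup.centralizer ({x} : Set H) ⊓ Subgroup.centralizer (P : Set H) ≤ P := by
  obtain ⟨hsq, htr, -⟩ := octFix_spec ho
  have hxP : (x : Equiv.Perm GolayPt) ∈ octFix o := mem_octFix.2 ⟨hH x.2, fun z hz => (hfix z).2 hz⟩
  have hcomm : ∀ a ∈ octFix o, ∀ b ∈ octFix o, a * b = b * a := fun a ha b hb => by
    have ea := inv_eq_of_mul_eq_one_right (hsq a ha)
    have eb := inv_eq_of_mul_eq_one_right (hsq b hb)
    have eab := inv_eq_of_mul_eq_one_right (hsq _ ((octFix o).mul_mem ha hb))
    rw [← eab, mul_inv_rev, ea, eb]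
  have hkeep : ∀ g ∈ Subgroup.centralizer ({x} : Set H), ∀ z,
      ((g : Equiv.Perm GolayPt) z ∈ o ↔ z ∈ o) := fun g hg z => by
    have e : ∀ w, (x : Equiv.Perm GolayPt) ((g : Equiv.Perm GolayPt) w) =
        (g : Equiv.Perm GolayPt) ((x : Equiv.Perm GolayPt) w) := fun w => by
      have h := congrArg (fun u : H => (u : Equiv.Perm GolayPt) w) (Subgroup.mem_centralizer_singleton_iff.1 hg)
      simpa using h.symm
    rw [← hfix, ← hfix, e, (g : Equiv.Perm GolayPt).injective.eq_iff]
  refine ⟨(octFix o).subgroupOf H, fun g => ⟨1, ?_⟩, fun g hg => ?_, fun g hg q hq => ?_,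
    fun g hg => ?_⟩
  · rw [pow_one, pow_two]
    exact Subtype.ext (Subtype.ext (hsq _ g.2))
  · exact Subgroup.mem_centralizer_singleton_iff.2 (Subtype.ext (hcomm _ hg _ hxP))
  · rw [Subgroup.mem_subgroupOf] at hq ⊢
    obtain ⟨hqM, hqf⟩ := mem_octFix.1 hq
    refine mem_octFix.2 ⟨hH (g * q * g⁻¹).2, fun z hz => ?_⟩
    have hz' : (g : Equiv.Perm GolayPt)⁻¹ z ∈ o := by
      rw [← hkeep g hg]; simpa using hz
    simp only [Subgroup.coe_mul, Subgroup.coe_inv, Equiv.Perm.mul_apply]
    rw [hqf _ hz']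
    simp
  · obtain ⟨hgx, hgP⟩ := hg
    rw [Subgroup.mem_subgroupOf]
    have hc : oᶜ.card = 16 := by rw [Finset.card_compl, ho.2]; simp
    obtain ⟨z, hz⟩ := Finset.card_pos.1 (by omega : 0 < oᶜ.card)
    rw [Finset.mem_compl] at hz
    obtain ⟨k, hk, hkz⟩ := htr z hz ((g : Equiv.Perm GolayPt) z) (fun h => hz ((hkeep g hgx z).1 h))
    have hu : k⁻¹ * (g : Equiv.Perm GolayPt) = 1 := by
      refine eq_one_of_fix_outside ho (M24.mul_mem (M24.inv_mem (mem_octFix.1 hk).1) (hH g.2)) fun w hw => ?_
      obtain ⟨a, ha, haz⟩ := htr z hz w hw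
      have e1 : a * (g : Equiv.Perm GolayPt) = g * a :=
        congrArg Subtype.val (Subgroup.mem_centralizer_iff.1 hgP ⟨a, hle ha⟩ ha)
      have e : a * (k⁻¹ * (g : Equiv.Perm GolayPt)) = k⁻¹ * g * a := by
        rw [← mul_assoc, hcomm a ha _ ((octFix o).inv_mem hk), mul_assoc, e1, mul_assoc]
      have huz : (k⁻¹ * (g : Equiv.Perm GolayPt)) z = z := by simp [← hkz]
      have e2 := congrArg (fun u : Equiv.Perm GolayPt => u z) e
      simp only [Equiv.Perm.mul_apply] at e2 huz ⊢
      rw [huz, haz] at e2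
      exact e2.symm
    rw [inv_mul_eq_one] at hu
    rw [← hu]
    exact hk

end Cfsg.Agent.Golay24
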