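import Cfsg.Agent.Lib.Golay.InvolutionLocal

/-!
The centralizer of a fixed-point-free involution has a self-centralizing normal 2-subgroup: the elements
centralizing it and fixing every octad that it fixes.
-/

set_option autoImplicit false
set_option Elab.async false

namespace Cfsg.Agent.Golay24

open Cfsg
open scoped Pointwise

noncomputable section

/-- Separating elements of the kernel on the fixed octads of the chosen involution. -/
def noneKer : List ℕ :=
  [883642573194107190078106924464262176, 402631587890510547576027763950336365,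
    966638849400475295351646046562846721, 892720893090760873649657968421373953,
    892720680202556804012612730060122144, 984818031572596889467972307742238721]

/-- Same pattern on the fixed octads, or separated by the kernel. -/
def noneOk (L : List ℕ) : Bool :=
  (noneKer.all fun p => inM24 p && (compP p invNone == compP invNone p) && L.all fun m => img p m == m) &&
    ((List.range 24).all fun z =>
      ((List.range 24).filter fun w => sigOf L w == sigOf L z).length == 4 &&
      !(app invNone z == z) &&
      (List.range 24).all fun w => sigOf L w == sigOf L z || noneKer.any fun p => app p z == z && !(app p w == w))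

/-- The octads fixed by the chosen involution. -/
def noneOctads : List ℕ := (weightList 8).filter fun m => img invNone m == m

theorem noneOk_true : noneOk noneOctads = true := by decide +kernel

/-- The elements centralizing `x` and fixing each octad fixed by `x`. -/
def fixKer (x : M24) : Subgroup M24 where
  carrier := {g | g * x = x * g ∧ ∀ o ∈ octads, (x : Equiv.Perm GolayPt) • o = o → (g : Equiv.Perm GolayPt) • o = o}
  one_mem' := ⟨by simp, fun o _ _ => by simp⟩
  mul_mem' {a b} ha hb := ⟨by rw [mul_assoc, hb.1, ← mul_assoc, ha.1, mul_assoc],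
    fun o ho hx => by rw [Subgroup.coe_mul, mul_smul, hb.2 o ho hx, ha.2 o ho hx]⟩
  inv_mem' {a} ha := ⟨(Commute.inv_left (show Commute a x from ha.1)).eq,
    fun o ho hx => by rw [Subgroup.coe_inv, inv_smul_eq_iff, ha.2 o ho hx]⟩

theorem mem_fixKer {x g : M24} : g ∈ fixKer x ↔
    g * x = x * g ∧ ∀ o ∈ octads, (x : Equiv.Perm GolayPt) • o = o → (g : Equiv.Perm GolayPt) • o = o :=
  Iff.rfl

/-- A permutation of four points commuting with a free involution of them has order dividing four. -/
theorem pow_four_of_class {g x : Equiv.Perm GolayPt} (hc : ∀ w, g (x w) = x (g w)) (hx : ∀ w, x (x w) = w)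
    (hfree : ∀ w, x w ≠ w) {C : Finset GolayPt} (hC : C.card = 4) (hg : ∀ w ∈ C, g w ∈ C)
    (hxC : ∀ w ∈ C, x w ∈ C) {z : GolayPt} (hz : z ∈ C) : g (g (g (g z))) = z := by
  classical
  by_cases ha : g z = z
  · simp [ha]
  by_cases ha' : g z = x z
  · simp [ha', hc, hx]
  have hb : g (g z) ∈ C := hg _ (hg _ hz)
  have hsub : ({z, x z, g z, x (g z)} : Finset GolayPt) = C := by
    refine Finset.eq_of_subset_of_card_le ?_ ?_
    · intro w hw
      simp only [Finset.mem_insert, Finset.mem_singleton] at hw
      rcases hw with rfl | rfl | rfl | rfl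
      exacts [hz, hxC _ hz, hg _ hz, hxC _ (hg _ hz)]
    · rw [hC, Finset.card_eq_four.2 ⟨z, x z, g z, x (g z), (hfree z).symm, fun e => ha e.symm,
        fun e => ha' (by simpa [hx] using congrArg x e.symm), fun e => ha' e.symm,
        fun e => ha (x.injective e).symm, (hfree _).symm, rfl⟩]
  rw [← hsub] at hb
  simp only [Finset.mem_insert, Finset.mem_singleton] at hb
  rcases hb with h | h | h | h
  · simp [h]
  · simp [h, hc, hx]
  · exact absurd (g.injective h) ha
  · rw [← hc] at h
    exact absurd (g.injective h) ha'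

theorem local_none_rep (x : M24) (hx : (x : Equiv.Perm GolayPt) = toPerm invNone) :
    ∃ P : Subgroup M24, IsPGroup 2 P ∧ P ≤ Subgroup.centralizer ({x} : Set M24) ∧
      (∀ g ∈ Subgroup.centralizer ({x} : Set M24), ∀ q ∈ P, g * q * g⁻¹ ∈ P) ∧
      Subgroup.centralizer ({x} : Set M24) ⊓ Subgroup.centralizer (P : Set M24) ≤ P := by
  classical
  obtain ⟨hxM, hx2, -⟩ := invNone_spec
  have hok := noneOk_true
  simp only [noneOk, Bool.and_eq_true, List.all_eq_true, List.mem_range, beq_iff_eq, Bool.or_eq_true,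
    Bool.not_eq_true', List.any_eq_true, beq_eq_false_iff_ne] at hok
  obtain ⟨hker, hpts⟩ := hok
  have hxv : validP invNone = true := valid_of_inM24 (by decide +kernel)
  have hxx : ∀ w, toPerm invNone (toPerm invNone w) = w := fun w => by
    have := pow_orderOf_eq_one (toPerm invNone)
    rw [hx2, pow_two] at this
    exact Equiv.Perm.ext_iff.1 this w
  have hfree : ∀ w, toPerm invNone w ≠ w := fun w e => (hpts _ (idx w).isLt).1.2 (by
    rw [← idx_toPerm hxv, e])
  -- the listed octads
  have hL : ∀ m ∈ noneOctads, setOf m ∈ octads ∧ (x : Equiv.Perm GolayPt) • setOf m = setOf m := fun m hm => by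
    obtain ⟨h1, h2⟩ := List.mem_filter.1 hm
    refine ⟨?_, ?_⟩
    · rw [mem_octads_iff, maskOf_setOf (weightList_lt h1)]; exact h1
    · rw [hx, smul_setOf hxv, beq_iff_eq.1 h2]
  have hLc : ∀ o ∈ octads, (x : Equiv.Perm GolayPt) • o = o → maskOf o ∈ noneOctads := fun o ho h => by
    refine List.mem_filter.2 ⟨mem_octads_iff.1 ho, beq_iff_eq.2 ?_⟩
    rw [← maskOf_smul hxv, ← hx, h]
  -- the same pattern means the same membership in every fixed octad
  have hsig : ∀ a b : GolayPt, sigOf noneOctads (idx a) = sigOf noneOctads (idx b) ↔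
      ∀ m ∈ noneOctads, (a ∈ setOf m ↔ b ∈ setOf m) := fun a b => by
    simp only [sigOf, List.map_inj_left, mem_setOf, ← Bool.eq_iff_iff]
  have hkeep : ∀ g : M24, (∀ z, sigOf noneOctads (idx ((g : Equiv.Perm GolayPt) z)) = sigOf noneOctads (idx z)) →
      ∀ o ∈ octads, (x : Equiv.Perm GolayPt) • o = o → (g : Equiv.Perm GolayPt) • o = o := by
    intro g hg o ho h
    refine Finset.eq_of_subset_of_card_le (fun w hw => ?_) (le_of_eq (Finset.card_smul_finset _ _).symm)
    obtain ⟨z, hz, rfl⟩ := Finset.mem_smul_finset.1 hw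
    have := (hsig _ _).1 (hg z) _ (hLc o ho h)
    rw [setOf_maskOf] at this
    exact this.2 hz
  have hfix : ∀ g ∈ fixKer x, ∀ z,
      sigOf noneOctads (idx ((g : Equiv.Perm GolayPt) z)) = sigOf noneOctads (idx z) := by
    intro g hg z
    refine (hsig _ _).2 fun m hm => ?_
    conv_lhs => rw [← (mem_fixKer.1 hg).2 _ (hL m hm).1 (hL m hm).2, ← Equiv.Perm.smul_def,
      Finset.smul_mem_smul_finset_iff]
  have hxker : x ∈ fixKer x := ⟨rfl, fun o _ h => h⟩
  refine ⟨fixKer x, fun g => ⟨2, Subtype.ext (Subtype.ext (Equiv.ext fun z => ?_))⟩, fun g hg => ?_,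
    fun g hg q hq => ?_, fun g hg => ?_⟩
  · have hc : ∀ w, ((g : M24) : Equiv.Perm GolayPt) (toPerm invNone w) =
        toPerm invNone (((g : M24) : Equiv.Perm GolayPt) w) := fun w => by
      rw [← hx]
      exact congrArg (fun u : M24 => (u : Equiv.Perm GolayPt) w) (mem_fixKer.1 g.2).1
    simp only [show 2 ^ 2 = 4 from rfl, pow_succ, pow_zero, one_mul, Subgroup.coe_mul, Subgroup.coe_one,
      Equiv.Perm.mul_apply, Equiv.Perm.one_apply]
    refine pow_four_of_class hc hxx hfree
      (C := Finset.univ.filter fun w => sigOf noneOctads (idx w) = sigOf noneOctads (idx z))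
      ?_ (fun w hw => ?_) (fun w hw => ?_) (by simp)
    · have h4 := (hpts _ (idx z).isLt).1.1
      rw [← h4, ← List.toFinset_card_of_nodup (List.nodup_range.filter _)]
      refine Finset.card_bij (fun w _ => (idx w : ℕ)) (fun w hw => ?_)
        (fun a _ b _ e => idx_inj.1 (Fin.ext e)) fun i hi => ?_
      · simp only [List.mem_toFinset, List.mem_filter, List.mem_range, beq_iff_eq]
        exact ⟨(idx w).isLt, (Finset.mem_filter.1 hw).2⟩
      · simp only [List.mem_toFinset, List.mem_filter, List.mem_range, beq_iff_eq] at hi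
        exact ⟨pt ⟨i, hi.1⟩, by simp [idx_pt, hi.2], by rw [idx_pt]⟩
    · simp only [Finset.mem_filter, Finset.mem_univ, true_and] at hw ⊢
      rw [hfix _ g.2, hw]
    · simp only [Finset.mem_filter, Finset.mem_univ, true_and] at hw ⊢
      rw [← hx, hfix x hxker, hw]
  · exact Subgroup.mem_centralizer_singleton_iff.2 (mem_fixKer.1 hg).1
  · rw [Subgroup.mem_centralizer_singleton_iff] at hg
    obtain ⟨hq1, hq2⟩ := mem_fixKer.1 hq
    refine mem_fixKer.2 ⟨?_, fun o ho h => ?_⟩
    · have hg' : g⁻¹ * x = x * g⁻¹ := (Commute.inv_left (show Commute g x from hg)).eq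
      calc g * q * g⁻¹ * x = g * (q * x) * g⁻¹ := by rw [mul_assoc, hg']; group
        _ = g * x * q * g⁻¹ := by rw [hq1]; group
        _ = x * (g * q * g⁻¹) := by rw [hg]; group
    · have e : (x : Equiv.Perm GolayPt) * ((g : Equiv.Perm GolayPt))⁻¹ =
          ((g : Equiv.Perm GolayPt))⁻¹ * x := by
        have := congrArg (fun u : M24 => (u : Equiv.Perm GolayPt))
          (Commute.inv_left (show Commute g x from hg)).eq
        simpa using this.symm
      have h' : (x : Equiv.Perm GolayPt) • ((g : Equiv.Perm GolayPt)⁻¹ • o) = (g : Equiv.Perm GolayPt)⁻¹ • o := by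
        rw [← mul_smul, e, mul_smul, h]
      rw [Subgroup.coe_mul, Subgroup.coe_mul, Subgroup.coe_inv, mul_smul, mul_smul,
        hq2 _ (smul_mem_octads (M24.inv_mem g.2) ho) h', smul_inv_smul]
  · obtain ⟨hgx, hgP⟩ := hg
    refine mem_fixKer.2 ⟨Subgroup.mem_centralizer_singleton_iff.1 hgx, hkeep g fun z => ?_⟩
    rcases (hpts _ (idx z).isLt).2 _ (idx ((g : Equiv.Perm GolayPt) z)).isLt with h | ⟨p, hp, hpz, hpw⟩
    · exact h
    · exfalso
      obtain ⟨⟨hpM, hpc⟩, hpL⟩ := hker p hp
      have hpv := valid_of_inM24 hpM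
      have hp' : (⟨toPerm p, toPerm_mem_M24 hpM⟩ : M24) ∈ fixKer x := by
        refine mem_fixKer.2 ⟨Subtype.ext ?_, fun o ho h => ?_⟩
        · show toPerm p * (x : Equiv.Perm GolayPt) = x * toPerm p
          rw [hx, ← toPerm_compP hpv hxv, ← toPerm_compP hxv hpv, hpc]
        · show toPerm p • o = o
          rw [← setOf_maskOf o, smul_setOf hpv, hpL _ (hLc o ho h)]
      have e := congrArg (fun u : M24 => (u : Equiv.Perm GolayPt) z) (Subgroup.mem_centralizer_iff.1 hgP _ hp')
      simp only [Subgroup.coe_mul, Equiv.Perm.mul_apply] at e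
      have hz : toPerm p z = z := idx_inj.1 (Fin.ext (by rw [idx_toPerm hpv, hpz]))
      rw [hz] at e
      exact hpw (by rw [← idx_toPerm hpv, e])

/-- The local structure at every fixed-point-free involution of M24. -/
theorem local_none (x : M24) (h2 : orderOf x = 2) (hf : fixCount (x : Equiv.Perm GolayPt) = 0) :
    ∃ P : Subgroup M24, IsPGroup 2 P ∧ P ≤ Subgroup.centralizer ({x} : Set M24) ∧
      (∀ g ∈ Subgroup.centralizer ({x} : Set M24), ∀ q ∈ P, g * q * g⁻¹ ∈ P) ∧
      Subgroup.centralizer ({x} : Set M24) ⊓ Subgroup.centralizer (P : Set M24) ≤ P := by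
  obtain ⟨k, hk, hc⟩ := conj_none x.2 (by rw [Subgroup.orderOf_coe, h2]) hf
  set k' : M24 := ⟨k, hk⟩
  obtain ⟨P, hP, hle, hn, hC⟩ := local_none_rep (k' * x * k'⁻¹) hc
  set φ : M24 ≃* M24 := MulAut.conj k'
  have hcent : ∀ g : M24, g ∈ Subgroup.centralizer ({x} : Set M24) ↔
      φ g ∈ Subgroup.centralizer ({φ x} : Set M24) := fun g => by
    rw [Subgroup.mem_centralizer_singleton_iff, Subgroup.mem_centralizer_singleton_iff, ← map_mul, ← map_mul,
      φ.injective.eq_iff]
  refine ⟨P.comap φ.toMonoidHom, hP.comap_of_injective _ φ.injective, fun g hg => (hcent g).2 (hle hg),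
    fun g hg q hq => ?_, fun g hg => ?_⟩
  · show φ (g * q * g⁻¹) ∈ P
    rw [map_mul, map_mul, map_inv]
    exact hn _ ((hcent g).1 hg) _ hq
  · refine hC ⟨(hcent g).1 hg.1, Subgroup.mem_centralizer_iff.2 fun q hq => ?_⟩
    have h := Subgroup.mem_centralizer_iff.1 hg.2 (φ.symm q) (by
      show φ (φ.symm q) ∈ P
      rwa [φ.apply_symm_apply])
    simpa using congrArg φ h

end

end Cfsg.Agent.Golay24
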