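import Mathlib.GroupTheory.QuotientGroup.Basic
import Mathlib.Algebra.Group.Subgroup.Finite
import Mathlib.GroupTheory.OrderOfElement

/-!
Isomorphisms from matching tables of left multiplication by generators.
-/

set_option autoImplicit false

namespace Cfsg.Agent.Golay24

/-- Two groups of the same order enumerated compatibly with generators are isomorphic. -/
theorem nonempty_mulEquiv_of_tables {G K ι : Type*} [Group G] [Group K] [Finite G] {n : ℕ}
    (a : ι → G) (b : ι → K) (hgen : Subgroup.closure (Set.range a) = ⊤) (e : Fin n → G)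
    (f : Fin n → K) (r : ι → Fin n → Fin n) (he : ∀ j i, e (r j i) = a j * e i)
    (hf : ∀ j i, f (r j i) = b j * f i) (i₀ : Fin n) (he₀ : e i₀ = 1) (hf₀ : f i₀ = 1)
    (hG : Nat.card G = n) (hK : Nat.card K = n) (hinj : Function.Injective f) :
    Nonempty (G ≃* K) := by
  have hrange : ∀ x, x ∈ Set.range e := by
    intro x
    have hx : x ∈ Submonoid.closure (Set.range a) := by
      have : x ∈ Subgroup.closure (Set.range a) := hgen ▸ Subgroup.mem_top x
      rwa [← Subgroup.mem_toSubmonoid, Subgroup.closure_toSubmonoid_of_finite] at this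
    suffices h : ∀ y ∈ Set.range e, x * y ∈ Set.range e by simpa using h 1 ⟨i₀, he₀⟩
    induction hx using Submonoid.closure_induction with
    | mem z hz =>
      rintro _ ⟨i, rfl⟩
      obtain ⟨j, rfl⟩ := hz
      exact ⟨r j i, he j i⟩
    | one => intro y hy; rwa [one_mul]
    | mul u v _ _ hu hv => intro y hy; rw [mul_assoc]; exact hu _ (hv y hy)
  have he' : Function.Bijective e :=
    Function.Surjective.bijective_of_nat_card_le hrange (by simp [hG])
  have hfs : Function.Bijective f :=
    haveI : Finite K := Nat.finite_of_card_ne_zero (by rw [hK]; exact Fin.pos i₀ |>.ne')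
    Function.Injective.bijective_of_nat_card_le hinj (by simp [hK])
  let E := Equiv.ofBijective e he'
  have hE : ∀ i, E.symm (e i) = i := fun i => E.symm_apply_apply i
  refine ⟨MulEquiv.mk' (E.symm.trans (Equiv.ofBijective f hfs)) fun x y => ?_⟩
  show f (E.symm (x * y)) = f (E.symm x) * f (E.symm y)
  have hx : x ∈ Submonoid.closure (Set.range a) := by
    have : x ∈ Subgroup.closure (Set.range a) := hgen ▸ Subgroup.mem_top x
    rwa [← Subgroup.mem_toSubmonoid, Subgroup.closure_toSubmonoid_of_finite] at this
  induction hx using Submonoid.closure_induction generalizing y with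
  | mem z hz =>
    obtain ⟨j, rfl⟩ := hz
    obtain ⟨i, rfl⟩ := hrange y
    rw [← he, hE, hE, hf, show a j = e (r j i₀) by rw [he, he₀, mul_one], hE, hf, hf₀, mul_one]
  | one => rw [one_mul, ← he₀, hE, hf₀, one_mul]
  | mul u v _ _ hu hv => rw [mul_assoc, hu, hv, hu v, mul_assoc]

end Cfsg.Agent.Golay24
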