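import Cfsg.Agent.Lib.Golay.Classes
import Cfsg.Agent.Lib.Golay.Mathieu
import Cfsg.Agent.Lib.Golay.SylowCert
import Cfsg.Agent.Lib.Golay.M23GenData
import Cfsg.Agent.Lib.PermGp.ScottBound

/-!
Generation of `M₂₃` by two elements of prime order whose product has prime order: witnesses, and
the obstruction coming from orbit numbers on the 23 points.
-/

set_option autoImplicit false

namespace Cfsg.Agent.Golay24.M23Gen

noncomputable section

open Cfsg
open scoped Pointwise

/-- The triples that do not occur. -/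
def Excl (p q r : ℕ) : Prop :=
  (p = 2 ∧ q = 3) ∨ (p = 2 ∧ q = 5 ∧ r = 5) ∨ (p = 2 ∧ q = 5 ∧ r = 7) ∨ (p = 3 ∧ q = 3 ∧ r ≤ 7)

instance (p q r : ℕ) : Decidable (Excl p q r) := by unfold Excl; infer_instance

/-- The value of a word given by bits. -/
def wordP (x y : ℕ) : ℕ → ℕ → ℕ
  | 0, _ => idP
  | n + 1, bits => compP (bif bits % 2 == 1 then y else x) (wordP x y n (bits / 2))

theorem wordP_spec {x y : ℕ} (hx : validP x = true) (hy : validP y = true)
    {K : Subgroup (Equiv.Perm GolayPt)} (kx : toPerm x ∈ K) (ky : toPerm y ∈ K) :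
    ∀ n bits, validP (wordP x y n bits) = true ∧ toPerm (wordP x y n bits) ∈ K
  | 0, _ => ⟨idP_spec.1, by rw [wordP, toPerm_idP]; exact K.one_mem⟩
  | n + 1, bits => by
    obtain ⟨h1, h2⟩ := wordP_spec hx hy kx ky n (bits / 2)
    rw [wordP]
    cases (bits % 2 == 1)
    · exact ⟨validP_compP hx h1, by rw [cond_false, toPerm_compP hx h1]; exact K.mul_mem kx h2⟩
    · exact ⟨validP_compP hy h1, by rw [cond_true, toPerm_compP hy h1]; exact K.mul_mem ky h2⟩

/-- The checks on one witness. -/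
def witOk (w : Wit) : Bool :=
  inM24 w.x && inM24 w.y && (app w.x 23 == 23) && (app w.y 23 == 23) &&
    isIdP (powP w.x w.p) && !isIdP w.x && isIdP (powP w.y w.q) && !isIdP w.y &&
    isIdP (powP (compP w.x w.y) w.r) && !isIdP (compP w.x w.y) &&
    (w.w.length == m23Cert.gens.length) &&
    (w.w.zip m23Cert.gens).all (fun e =>
      compP (wordP w.x w.y e.1.2 e.1.1) idP == compP e.2 idP)

theorem wits_ok : wits.all witOk = true := by decide +kernel

/-- The primes dividing the order. -/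
def primesM23 : List ℕ := [2, 3, 5, 7, 11, 23]

theorem wits_cover : ∀ i j k : Fin 6, i ≤ j → j ≤ k →
    primesM23.getD i 0 ≠ 2 ∨ primesM23.getD j 0 ≠ 2 →
    ¬ Excl (primesM23.getD i 0) (primesM23.getD j 0) (primesM23.getD k 0) →
    wits.any (fun w => w.p == primesM23.getD i 0 && w.q == primesM23.getD j 0 &&
      w.r == primesM23.getD k 0) = true := by decide +kernel

theorem orderOf_toPerm {g n : ℕ} (hn : n.Prime) (hv : validP g = true)
    (h : isIdP (powP g n) = true) (hne : isIdP g = false) : orderOf (toPerm g) = n := by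
  obtain ⟨m, rfl⟩ : ∃ m, n = m + 1 := ⟨n - 1, by have := hn.one_lt; omega⟩
  haveI := Fact.mk hn
  obtain ⟨h1, h2⟩ := toPerm_powP hv m
  refine orderOf_eq_prime (by rw [← h2]; exact toPerm_eq_one_of_isIdP h1 h) fun e => ?_
  have : isIdP g = true := by
    simp only [isIdP, List.all_eq_true, List.mem_range, beq_iff_eq]
    intro i hi
    have := idx_toPerm hv (pt ⟨i, hi⟩)
    rw [e] at this
    simpa using this.symm
  rw [hne] at this
  exact Bool.false_ne_true this

theorem exists_witness {p q r : ℕ} (hp : p.Prime) (hq : q.Prime) (hr : r.Prime)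
    (h : wits.any (fun w => w.p == p && w.q == q && w.r == r) = true) :
    ∃ x y z : Spor.M23, orderOf x = p ∧ orderOf y = q ∧ orderOf z = r ∧ x * y * z = 1 ∧
      Subgroup.closure {x, y} = ⊤ := by
  simp only [List.any_eq_true, Bool.and_eq_true, beq_iff_eq] at h
  obtain ⟨w, hw, ⟨rfl, rfl⟩, rfl⟩ := h
  have hok := List.all_eq_true.1 wits_ok w hw
  simp only [witOk, Bool.and_eq_true, beq_iff_eq, Bool.not_eq_true', List.all_eq_true] at hok
  obtain ⟨⟨⟨⟨⟨⟨⟨⟨⟨⟨⟨hx, hy⟩, hx23⟩, hy23⟩, hxp⟩, hxne⟩, hyq⟩, hyne⟩, hrr⟩, hrne⟩, hlen⟩, hwords⟩ :=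
    hok
  have hvx := valid_of_inM24 hx
  have hvy := valid_of_inM24 hy
  have mX : toPerm w.x ∈ Spor.M23 :=
    ⟨toPerm_mem_M24 hx, pt23 ▸ toPerm_mem_stabilizer (by norm_num) hvx hx23⟩
  have mY : toPerm w.y ∈ Spor.M23 :=
    ⟨toPerm_mem_M24 hy, pt23 ▸ toPerm_mem_stabilizer (by norm_num) hvy hy23⟩
  set X : Spor.M23 := ⟨toPerm w.x, mX⟩
  set Y : Spor.M23 := ⟨toPerm w.y, mY⟩
  refine ⟨X, Y, (X * Y)⁻¹, ?_, ?_, ?_, mul_inv_cancel _, ?_⟩
  · rw [← Subgroup.orderOf_coe]; exact orderOf_toPerm hp hvx hxp hxne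
  · rw [← Subgroup.orderOf_coe]; exact orderOf_toPerm hq hvy hyq hyne
  · rw [orderOf_inv, ← Subgroup.orderOf_coe,
      show ((X * Y : Spor.M23) : Equiv.Perm GolayPt) = toPerm w.x * toPerm w.y from rfl,
      ← toPerm_compP hvx hvy]
    exact orderOf_toPerm hr (validP_compP hvx hvy) hrr hrne
  · have hle : Spor.M23 ≤ (Subgroup.closure {X, Y}).map Spor.M23.subtype := by
      refine le_trans m23_grp.ge ?_
      rw [GenCert.grp, Subgroup.closure_le]
      rintro _ ⟨g, hg, rfl⟩
      obtain ⟨i, hi, rfl⟩ := List.mem_iff_getElem.1 hg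
      have hiw : i < w.w.length := by omega
      have he := hwords (w.w[i], m23Cert.gens[i]) (List.mem_iff_getElem.2
        ⟨i, by simp; omega, List.getElem_zip⟩)
      have hgv : validP m23Cert.gens[i] = true := by
        have h := m23Cert_ok
        simp only [Bool.and_eq_true] at h
        exact m23Cert.gen_valid h.1.1.1.1 (List.getElem_mem hi)
      obtain ⟨h1, h2⟩ := wordP_spec hvx hvy
        (K := (Subgroup.closure {X, Y}).map Spor.M23.subtype)
        ⟨X, Subgroup.subset_closure (by simp), rfl⟩ ⟨Y, Subgroup.subset_closure (by simp), rfl⟩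
        w.w[i].2 w.w[i].1
      have := congrArg toPerm he
      rw [toPerm_compP h1 idP_spec.1, toPerm_compP hgv idP_spec.1, toPerm_idP, mul_one, mul_one] at this
      rw [← this]
      exact h2
    rw [eq_top_iff]
    intro g _
    obtain ⟨u, hu, e⟩ := hle g.2
    exact (Subtype.ext e : u = g) ▸ hu

/-- The 23 points. -/
abbrev Pts : Type := {x : GolayPt // x ≠ none}

theorem fix_none (g : Spor.M23) : (g : Equiv.Perm GolayPt) none = none := g.2.2

/-- The action on the 23 points. -/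
def res : Spor.M23 →* Equiv.Perm Pts where
  toFun g := (g : Equiv.Perm GolayPt).subtypePerm fun x => by
    constructor
    · intro h e; exact h (by rw [e]; exact fix_none g)
    · intro h e; exact h ((g : Equiv.Perm GolayPt).injective (e.trans (fix_none g).symm))
  map_one' := by ext; rfl
  map_mul' a b := by ext; rfl

theorem res_injective : Function.Injective res := by
  intro a b h
  refine Subtype.ext (Equiv.ext fun x => ?_)
  by_cases hx : x = none
  · rw [hx, fix_none, fix_none]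
  · exact congrArg Subtype.val (Equiv.ext_iff.1 h ⟨x, hx⟩)

theorem card_pts : Fintype.card Pts = 23 := by
  simp [Fintype.card_subtype_compl]

theorem fix_res (g : Spor.M23) :
    (Finset.univ.filter fun i => res g i = i).card + 1 = fixCount (g : Equiv.Perm GolayPt) := by
  classical
  have hnone : none ∈ Finset.univ.filter fun x : GolayPt => (g : Equiv.Perm GolayPt) x = x :=
    Finset.mem_filter.2 ⟨Finset.mem_univ _, fix_none g⟩
  rw [fixCount, ← Finset.card_erase_add_one hnone, ← Finset.card_map (Function.Embedding.subtype _)]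
  congr 2
  ext x
  simp only [Finset.mem_map, Finset.mem_filter, Finset.mem_univ, true_and, Finset.mem_erase,
    Function.Embedding.coe_subtype]
  constructor
  · rintro ⟨i, hi, rfl⟩
    exact ⟨i.2, congrArg Subtype.val hi⟩
  · rintro ⟨h1, h2⟩
    exact ⟨⟨x, h1⟩, Subtype.ext h2, rfl⟩

/-- Lower bound for the number of orbits. -/
theorem orb_bound (g : Spor.M23) {p : ℕ} (hp : p.Prime) (hg : orderOf g = p) :
    ∃ f, 23 + (p - 1) * f ≤ PermGp.ScottBound.orbCount (res g) * p ∧
      (p = 2 → f = 7) ∧ (p = 3 → f = 5) ∧ 23 % p = f % p := by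
  classical
  haveI := Fact.mk hp
  set f := (Finset.univ.filter fun i => res g i = i).card
  have ho : orderOf (res g) = p := by rw [orderOf_injective res res_injective, hg]
  have h := PermGp.ScottBound.orbCount_ge ho
  rw [card_pts] at h
  have hf := fix_res g
  have hg' : orderOf (g : Equiv.Perm GolayPt) = p := by rw [Subgroup.orderOf_coe, hg]
  refine ⟨f, h, fun h2 => ?_, fun h3 => ?_, ?_⟩
  · subst h2
    rcases involution_fix g.2.1 hg' with e | e <;> omega
  · subst h3
    rcases three_fix g.2.1 hg' with e | e <;> omega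
  · have hZ : IsPGroup p (Subgroup.zpowers (res g)) :=
      IsPGroup.of_card (n := 1) (by rw [Nat.card_zpowers, ho, pow_one])
    have := hZ.card_modEq_card_fixedPoints Pts
    rw [Nat.card_eq_fintype_card, card_pts] at this
    rw [this, show f = Nat.card ↥(Finset.univ.filter fun i => res g i = i) from (Nat.card_eq_finsetCard _).symm]
    refine congrArg (· % p) (Nat.card_congr (Equiv.subtypeEquivRight fun i => ?_))
    simp only [Finset.mem_filter, Finset.mem_univ, true_and]
    constructor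
    · intro hi
      exact hi ⟨res g, Subgroup.mem_zpowers _⟩
    · rintro hi ⟨a, k, rfl⟩
      exact Equiv.Perm.zpow_apply_eq_self_of_apply_eq_self hi k

theorem res_transitive {x y z : Spor.M23} (hgen : Subgroup.closure {x, y} = ⊤) :
    MulAction.IsPretransitive
      ↥(Subgroup.closure ({res x, res y, res z} : Set (Equiv.Perm Pts))) Pts := by
  classical
  refine ⟨fun a b => ?_⟩
  have h := m23Cert_ok
  simp only [Bool.and_eq_true, beq_iff_eq] at h
  obtain ⟨σ, hσ, hσab⟩ := m23Cert.exists_point_map h.1.1.1.1 m23_grp.le h.1.1.1.2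
    (by rw [h.2]; norm_num) (by norm_num) (x := a.1) (y := b.1)
    (by rw [setOf_erase_none]; simpa using a.2) (by rw [setOf_erase_none]; simpa using b.2)
  refine ⟨⟨res ⟨σ, hσ⟩, ?_⟩, Subtype.ext hσab⟩
  have : (⟨σ, hσ⟩ : Spor.M23) ∈ Subgroup.closure ({x, y} : Set Spor.M23) := hgen ▸ Subgroup.mem_top _
  have h2 := Subgroup.mem_map_of_mem res this
  rw [MonoidHom.map_closure] at h2
  refine Subgroup.closure_mono ?_ h2
  rintro _ ⟨w, hw | hw, rfl⟩ <;> simp_all

theorem prime_dvd_cases {p : ℕ} (hp : p.Prime) (h : p ∣ 10200960) :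
    p = 2 ∨ p = 3 ∨ p = 5 ∨ p = 7 ∨ p = 11 ∨ p = 23 := by
  have : p ∣ 2 ^ 7 * 3 ^ 2 * 5 * 7 * 11 * 23 := by norm_num; exact h
  have key : ∀ {a : ℕ}, a.Prime → p ∣ a → p = a := fun ha hd => (Nat.prime_dvd_prime_iff_eq hp ha).1 hd
  rcases (Nat.Prime.dvd_mul hp).1 this with h | h
  · rcases (Nat.Prime.dvd_mul hp).1 h with h | h
    · rcases (Nat.Prime.dvd_mul hp).1 h with h | h
      · rcases (Nat.Prime.dvd_mul hp).1 h with h | h
        · rcases (Nat.Prime.dvd_mul hp).1 h with h | h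
          · exact Or.inl (key Nat.prime_two (hp.dvd_of_dvd_pow h))
          · exact Or.inr (Or.inl (key Nat.prime_three (hp.dvd_of_dvd_pow h)))
        · exact Or.inr (Or.inr (Or.inl (key (by norm_num) h)))
      · exact Or.inr (Or.inr (Or.inr (Or.inl (key (by norm_num) h))))
    · exact Or.inr (Or.inr (Or.inr (Or.inr (Or.inl (key (by norm_num) h)))))
  · exact Or.inr (Or.inr (Or.inr (Or.inr (Or.inr (key (by norm_num) h)))))

theorem not_excl {p q r : ℕ} (hp : p.Prime) (hq : q.Prime) (hr : r.Prime) (hqr : q ≤ r)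
    (hdvd : r ∣ 10200960) {x y z : Spor.M23} (hx : orderOf x = p) (hy : orderOf y = q)
    (hz : orderOf z = r) (hxyz : x * y * z = 1) (hgen : Subgroup.closure {x, y} = ⊤) :
    ¬ Excl p q r := by
  intro hE
  haveI : Nonempty Pts := ⟨⟨some 0, Option.some_ne_none _⟩⟩
  have hs := PermGp.ScottBound.orbCount_le (res x) (res y) (res z)
    (by rw [← map_mul, ← map_mul, hxyz, map_one]) (res_transitive hgen)
  rw [card_pts] at hs
  obtain ⟨a, ha, ha2, ha3, ham⟩ := orb_bound x hp hx
  obtain ⟨b, hb, hb2, hb3, hbm⟩ := orb_bound y hq hy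
  obtain ⟨c, hc, hc2, hc3, hcm⟩ := orb_bound z hr hz
  rcases hE with ⟨rfl, rfl⟩ | ⟨rfl, rfl, rfl⟩ | ⟨rfl, rfl, rfl⟩ | ⟨rfl, rfl, h7⟩
  · rw [ha2 rfl] at ha; rw [hb3 rfl] at hb
    rcases prime_dvd_cases hr hdvd with rfl | rfl | rfl | rfl | rfl | rfl <;> omega
  · rw [ha2 rfl] at ha; omega
  · rw [ha2 rfl] at ha; omega
  · rw [ha3 rfl] at ha; rw [hb3 rfl] at hb
    rcases prime_dvd_cases hr hdvd with rfl | rfl | rfl | rfl | rfl | rfl <;> omega

theorem main {p q r : ℕ} (hp : p.Prime) (hq : q.Prime) (hr : r.Prime) (hpq : p ≤ q) (hqr : q ≤ r)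
    (hp2 : ¬ (p = 2 ∧ q = 2)) (hdvd : p ∣ 10200960 ∧ q ∣ 10200960 ∧ r ∣ 10200960) :
    (∃ x y z : Spor.M23, orderOf x = p ∧ orderOf y = q ∧ orderOf z = r ∧ x * y * z = 1 ∧
        Subgroup.closure {x, y} = ⊤) ↔ ¬ Excl p q r := by
  constructor
  · rintro ⟨x, y, z, hx, hy, hz, hxyz, hgen⟩
    exact not_excl hp hq hr hqr hdvd.2.2 hx hy hz hxyz hgen
  · intro hne
    have hidx : ∀ {s : ℕ}, s.Prime → s ∣ 10200960 → ∃ i : Fin 6, primesM23.getD i 0 = s := by
      intro s hs hsd
      rcases prime_dvd_cases hs hsd with rfl | rfl | rfl | rfl | rfl | rfl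
      exacts [⟨0, rfl⟩, ⟨1, rfl⟩, ⟨2, rfl⟩, ⟨3, rfl⟩, ⟨4, rfl⟩, ⟨5, rfl⟩]
    have hmono : ∀ i j : Fin 6, primesM23.getD i 0 ≤ primesM23.getD j 0 → i ≤ j := by decide
    obtain ⟨i, rfl⟩ := hidx hp hdvd.1
    obtain ⟨j, rfl⟩ := hidx hq hdvd.2.1
    obtain ⟨k, rfl⟩ := hidx hr hdvd.2.2
    exact exists_witness hp hq hr (wits_cover i j k (hmono i j hpq) (hmono j k hqr)
      (not_and_or.1 hp2) hne)

end

end Cfsg.Agent.Golay24.M23Gen
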