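import Cfsg.Agent.Lib.Golay.Perm

/-! Certificate data for the group of the length-24 code (produced by an offline script). -/

set_option autoImplicit false

namespace Cfsg.Agent.Golay24

noncomputable section

/-- Three generators: t+1, -1/t and the cube twist. -/
def m24Gens : List ℕ :=
  [
    956302485175575353788796878166559809,
    1795248432537898728475572672376535,
    974380510768821363662145534143076928]

/-- Straight-line program producing a transversal chain. -/
def m24Prog : List (ℕ × ℕ) :=
  [
    (0, 0), (0, 3), (3, 3), (4, 5), (5, 5), (7, 7), (6, 8), (0, 5),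
    (0, 10), (0, 7), (0, 12), (0, 13), (0, 14), (0, 15), (0, 16), (0, 17),
    (0, 8), (0, 19), (0, 20), (0, 21), (0, 22), (0, 23), (0, 1), (1, 25),
    (0, 25), (1, 27), (0, 27), (0, 28), (1, 29), (0, 29), (1, 30), (0, 30),
    (0, 31), (1, 32), (0, 32), (1, 34), (0, 34), (1, 35), (0, 36), (1, 37),
    (0, 37), (0, 38), (0, 41), (1, 44), (2, 2), (2, 47), (2, 48), (2, 0),
    (10, 50), (51, 47), (51, 48), (51, 49), (2, 51), (51, 51), (51, 52), (2, 53),
    (51, 53), (2, 55), (51, 55), (2, 56), (2, 57), (51, 57), (2, 60), (2, 62),
    (2, 64), (0, 50), (1, 50), (2, 50), (21, 70), (67, 67), (72, 72), (73, 73),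
    (72, 74), (75, 71), (76, 76), (76, 77), (76, 78), (68, 0), (8, 80), (75, 81),
    (82, 76), (82, 77), (82, 78), (82, 82), (76, 83), (82, 83), (76, 84), (76, 85),
    (82, 87), (76, 88), (82, 88), (76, 89), (76, 90), (82, 90), (82, 91), (50, 80),
    (6, 98), (63, 63), (100, 100), (100, 101), (102, 99), (103, 103), (103, 104), (69, 68),
    (1, 106), (16, 107), (2, 108), (84, 84), (110, 110), (110, 111), (112, 109), (103, 113),
    (114, 114), (114, 103), (114, 104), (114, 105), (103, 116), (114, 116), (103, 117), (114, 117),
    (103, 118), (114, 118), (114, 119), (103, 120), (103, 122), (114, 123), (103, 124), (103, 125),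
    (103, 128), (98, 68), (12, 132), (52, 52), (134, 134), (52, 135), (136, 133), (95, 95),
    (138, 138), (139, 137), (118, 118), (141, 141), (142, 140), (115, 143), (132, 70), (16, 145),
    (57, 57), (57, 147), (148, 146), (123, 149), (114, 150), (151, 144), (145, 70), (153, 70),
    (125, 125), (70, 80), (13, 156), (148, 157), (93, 93), (159, 159), (160, 158), (155, 161),
    (114, 162), (163, 144), (163, 151), (163, 152), (106, 154), (1, 167), (0, 168), (47, 169),
    (160, 170), (122, 122), (172, 171), (115, 173), (174, 144), (174, 151), (174, 152), (174, 163),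
    (174, 164), (174, 165), (174, 166)]

/-- Base positions with indices of transversal elements in the program output. -/
def m24Levels : List (ℕ × List ℕ) :=
  [
    (23, [
      1, 25, 27, 29, 32, 37, 43, 38, 44, 42, 40, 28,
      30, 34, 39, 31, 35, 36, 41, 45, 46, 33, 26, 9]),
    (0, [
      9, 0, 3, 4, 5, 10, 11, 6, 7, 12, 13, 14,
      15, 16, 17, 18, 8, 19, 20, 21, 22, 23, 24]),
    (1, [
      9, 48, 52, 47, 63, 49, 57, 53, 62, 54, 51, 66,
      56, 65, 61, 58, 59, 2, 55, 67, 64, 60]),
    (2, [
      9, 76, 82, 79, 94, 96, 92, 88, 86, 85, 93, 87,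
      78, 89, 95, 77, 90, 84, 83, 91, 97]),
    (3, [
      9, 116, 117, 124, 120, 130, 121, 103, 126, 131, 119, 104,
      127, 118, 122, 129, 125, 105, 128, 123]),
    (5, [
      9, 115, 114]),
    (4, [
      9, 179, 178, 163, 176, 177, 165, 166, 151, 174, 152, 164,
      181, 175, 180, 144])]

/-- The octad through the first five base positions. -/
def m24Octad : ℕ := 8536111

/-- Octads forcing an element fixing the seven base positions to be trivial. -/
def m24Stages : List (List ℕ) :=
  [[
    8978620, 8421811, 786999, 10486557, 5279, 12584506,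
    9963547, 10558, 8391797], [
    1134148]]

end

end Cfsg.Agent.Golay24
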