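import Mathlib
import Cfsg.Prelude.Def_Sporadic_a

/-!
Bitmask encoding of subsets and binary words on the 24 points of `Cfsg.GolayPt`,
chosen so that the kernel evaluates everything with accelerated `Nat` operations.
Residue `x` is position `x.val`, the extra point is position 23.
-/

set_option autoImplicit false

namespace Cfsg.Agent.Golay24

noncomputable section

open Cfsg

/-- The position of a point. -/
def idx : GolayPt → Fin 24
  | none => ⟨23, by omega⟩
  | some x => ⟨x.val, Nat.lt_succ_of_lt (ZMod.val_lt x)⟩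

/-- The point at a position. -/
def pt (i : Fin 24) : GolayPt := if i.val < 23 then some (i.val : ZMod 23) else none

/-- Points and positions. -/
def ptEquiv : GolayPt ≃ Fin 24 where
  toFun := idx
  invFun := pt
  left_inv := by decide
  right_inv := by decide

theorem idx_inj {x y : GolayPt} : idx x = idx y ↔ x = y := ptEquiv.injective.eq_iff

@[simp] theorem idx_pt (i : Fin 24) : idx (pt i) = i := ptEquiv.apply_symm_apply i
@[simp] theorem pt_idx (x : GolayPt) : pt (idx x) = x := ptEquiv.symm_apply_apply x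

/-- The set of points of a mask. -/
def setOf (m : ℕ) : Finset GolayPt := Finset.univ.filter fun x => m.testBit (idx x)

@[simp] theorem mem_setOf {m : ℕ} {x : GolayPt} : x ∈ setOf m ↔ m.testBit (idx x) = true := by
  simp [setOf]

/-- The mask of a set of points. -/
def maskOf (s : Finset GolayPt) : ℕ := Nat.ofBits fun i : Fin 24 => decide (pt i ∈ s)

theorem maskOf_lt (s : Finset GolayPt) : maskOf s < 2 ^ 24 := Nat.ofBits_lt_two_pow _

theorem testBit_maskOf (s : Finset GolayPt) (i : Fin 24) :
    (maskOf s).testBit i = decide (pt i ∈ s) := Nat.testBit_ofBits_lt _ _ i.isLt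

@[simp] theorem setOf_maskOf (s : Finset GolayPt) : setOf (maskOf s) = s := by
  ext x
  simp [testBit_maskOf]

theorem eq_of_testBit24 {a b : ℕ} (ha : a < 2 ^ 24) (hb : b < 2 ^ 24)
    (h : ∀ i : Fin 24, a.testBit i = b.testBit i) : a = b := by
  apply Nat.eq_of_testBit_eq
  intro i
  by_cases hi : i < 24
  · exact h ⟨i, hi⟩
  · have e : 2 ^ 24 ≤ 2 ^ i := Nat.pow_le_pow_right (by norm_num) (by omega)
    rw [Nat.testBit_lt_two_pow (lt_of_lt_of_le ha e), Nat.testBit_lt_two_pow (lt_of_lt_of_le hb e)]

theorem maskOf_setOf {m : ℕ} (h : m < 2 ^ 24) : maskOf (setOf m) = m :=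
  eq_of_testBit24 (maskOf_lt _) h fun i => by simp [testBit_maskOf]

theorem maskOf_injective : Function.Injective maskOf := fun s t h => by
  rw [← setOf_maskOf s, h, setOf_maskOf]

theorem setOf_inj {a b : ℕ} (ha : a < 2 ^ 24) (hb : b < 2 ^ 24) (h : setOf a = setOf b) :
    a = b := by rw [← maskOf_setOf ha, h, maskOf_setOf hb]

/-- Number of set bits below `n`. -/
def popTo (m : ℕ) : ℕ → ℕ
  | 0 => 0
  | n + 1 => Nat.land (Nat.shiftRight m n) 1 + popTo m n

/-- Number of set bits of a byte, by parallel addition. -/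
def pop8 (x : ℕ) : ℕ :=
  (fun a => (fun b => Nat.land (Nat.add b (Nat.shiftRight b 4)) 15)
    (Nat.add (Nat.land a 51) (Nat.land (Nat.shiftRight a 2) 51)))
    (Nat.sub x (Nat.land (Nat.shiftRight x 1) 85))

/-- Number of set bits among the 24 positions. -/
def pop24 (m : ℕ) : ℕ :=
  Nat.add (pop8 (Nat.land m 255))
    (Nat.add (pop8 (Nat.land (Nat.shiftRight m 8) 255)) (pop8 (Nat.land (Nat.shiftRight m 16) 255)))

theorem popTo_eq_sum (m n : ℕ) :
    popTo m n = ∑ i : Fin n, if m.testBit i then 1 else 0 := by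
  induction n with
  | zero => simp [popTo]
  | succ n ih =>
    rw [Fin.sum_univ_castSucc, popTo, ih]
    simp only [Fin.val_castSucc, Fin.val_last]
    rw [add_comm]
    congr 1
    have : Nat.land (Nat.shiftRight m n) 1 = (m >>> n) &&& 1 := rfl
    rw [this]
    simp only [Nat.testBit_eq_decide_div_mod_eq, Nat.shiftRight_eq_div_pow, Nat.and_one_is_mod]
    rcases Nat.mod_two_eq_zero_or_one (m / 2 ^ n) with h | h <;> simp [h]

theorem pop8_eq : ∀ i : Fin 256, pop8 i.val = popTo i.val 8 := by decide +kernel

theorem popTo_add (m a : ℕ) : ∀ b, popTo m (a + b) = popTo m a + popTo (m >>> a) b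
  | 0 => by simp [popTo]
  | b + 1 => by
    have e : Nat.shiftRight (m >>> a) b = Nat.shiftRight m (a + b) :=
      (Nat.shiftRight_add m a b).symm
    rw [← Nat.add_assoc, popTo, popTo, popTo_add m a b, e]
    omega

theorem pop8_land (m : ℕ) : pop8 (Nat.land m 255) = popTo m 8 := by
  have hlt : Nat.land m 255 < 256 := lt_of_le_of_lt Nat.and_le_right (by norm_num)
  rw [pop8_eq ⟨_, hlt⟩, popTo_eq_sum, popTo_eq_sum]
  refine Finset.sum_congr rfl fun i _ => ?_
  have hi : Nat.testBit 255 i = true := by revert i; decide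
  simp [Nat.testBit_and, hi]

theorem pop24_eq_popTo (m : ℕ) : pop24 m = popTo m 24 := by
  rw [show (24 : ℕ) = 8 + (8 + 8) from rfl, popTo_add, popTo_add, pop24, pop8_land, pop8_land,
    pop8_land]
  have : (m >>> 8) >>> 8 = m >>> 16 := (Nat.shiftRight_add m 8 8).symm
  rw [this]
  rfl

theorem card_setOf (m : ℕ) : (setOf m).card = pop24 m := by
  rw [pop24_eq_popTo, popTo_eq_sum, setOf, Finset.card_filter]
  exact Equiv.sum_comp ptEquiv (fun i : Fin 24 => if m.testBit i then 1 else 0)

theorem card_eq_pop24 (s : Finset GolayPt) : s.card = pop24 (maskOf s) := by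
  rw [← card_setOf, setOf_maskOf]

theorem setOf_land (a b : ℕ) : setOf (a &&& b) = setOf a ∩ setOf b := by
  ext x; simp

theorem setOf_lor (a b : ℕ) : setOf (a ||| b) = setOf a ∪ setOf b := by
  ext x; simp

theorem setOf_xor (a b : ℕ) : setOf (a ^^^ b) = symmDiff (setOf a) (setOf b) := by
  ext x
  simp [Finset.mem_symmDiff]
  cases a.testBit (idx x) <;> cases b.testBit (idx x) <;> simp

theorem setOf_zero : setOf 0 = ∅ := by
  ext x; simp

theorem setOf_full : setOf 16777215 = Finset.univ := by decide +kernel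

theorem maskOf_inter (s t : Finset GolayPt) : maskOf (s ∩ t) = maskOf s &&& maskOf t := by
  refine eq_of_testBit24 (maskOf_lt _) (Nat.and_lt_two_pow _ (maskOf_lt _)) fun i => ?_
  simp [testBit_maskOf, Nat.testBit_and]

theorem maskOf_union (s t : Finset GolayPt) : maskOf (s ∪ t) = maskOf s ||| maskOf t := by
  refine eq_of_testBit24 (maskOf_lt _) (Nat.or_lt_two_pow (maskOf_lt _) (maskOf_lt _)) fun i => ?_
  simp [testBit_maskOf, Nat.testBit_or]

theorem maskOf_symmDiff (s t : Finset GolayPt) :
    maskOf (symmDiff s t) = maskOf s ^^^ maskOf t := by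
  refine eq_of_testBit24 (maskOf_lt _) (Nat.xor_lt_two_pow (maskOf_lt _) (maskOf_lt _)) fun i => ?_
  simp [testBit_maskOf, Nat.testBit_xor, Finset.mem_symmDiff]
  by_cases h1 : pt i ∈ s <;> by_cases h2 : pt i ∈ t <;> simp [h1, h2]

theorem maskOf_compl (s : Finset GolayPt) : maskOf sᶜ = maskOf s ^^^ 16777215 := by
  have : sᶜ = symmDiff s Finset.univ := by ext x; simp [Finset.mem_symmDiff]
  rw [this, maskOf_symmDiff, ← setOf_full, maskOf_setOf (by norm_num)]

/-- Strictly increasing list of numbers. -/
def sortedB : List ℕ → Bool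
  | [] => true
  | a :: l => (match l with | [] => true | b :: _ => Nat.blt a b) && sortedB l

theorem sortedB_pairwise : ∀ {l : List ℕ}, sortedB l = true → l.Pairwise (· < ·) := by
  intro l
  induction l with
  | nil => simp
  | cons a l ih =>
    intro h
    simp only [sortedB, Bool.and_eq_true] at h
    have hp := ih h.2
    refine List.pairwise_cons.2 ⟨?_, hp⟩
    cases l with
    | nil => simp
    | cons b l =>
      intro c hc
      have hab : a < b := by simpa using h.1
      rcases List.mem_cons.1 hc with rfl | hc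
      · exact hab
      · exact lt_trans hab ((List.pairwise_cons.1 hp).1 c hc)

/-- Cardinality of a family of sets given by a duplicate-free list of masks. -/
theorem ncard_of_list {X : Set (Finset GolayPt)} (l : List ℕ) (hn : l.Nodup)
    (hX : ∀ s, s ∈ X ↔ maskOf s ∈ l) (hlt : ∀ m ∈ l, m < 2 ^ 24) : X.ncard = l.length := by
  classical
  have : X = setOf '' (↑l.toFinset) := by
    ext s
    simp only [Set.mem_image, List.coe_toFinset, Set.mem_ofPred_eq, hX]
    constructor
    · exact fun h => ⟨_, h, setOf_maskOf s⟩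
    · rintro ⟨m, hm, rfl⟩; rwa [maskOf_setOf (hlt m hm)]
  rw [this, Set.InjOn.ncard_image]
  · rw [Set.ncard_coe_finset, List.toFinset_card_of_nodup hn]
  · intro a ha b hb h
    simp only [List.coe_toFinset, Set.mem_ofPred_eq] at ha hb
    exact setOf_inj (hlt a ha) (hlt b hb) h

end

end Cfsg.Agent.Golay24
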