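import Cfsg.Agent.Lib.Golay.Cert

/-! Certificate data for point and dodecad stabilisers (produced by an offline script). -/

set_option autoImplicit false

namespace Cfsg.Agent.Golay24

noncomputable section

/-- Certificate for m23. -/
def m23Cert : GenCert where
  gens := [
    965779165760333218795700108634700161,
    967600960347983740586287216027445268]
  prog := [
    (0, 0), (0, 2), (2, 2), (3, 4), (4, 4), (6, 6), (5, 7), (0, 4),
    (0, 9), (0, 6), (0, 11), (0, 12), (0, 13), (0, 14), (0, 15), (0, 16),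
    (0, 7), (0, 18), (0, 19), (0, 20), (0, 21), (0, 22), (5, 1), (24, 24),
    (24, 25), (24, 26), (24, 27), (24, 28), (3, 1), (1, 0), (28, 31), (32, 32),
    (32, 26), (32, 27), (32, 28), (32, 29), (24, 34), (32, 34), (24, 35), (24, 36),
    (32, 36), (32, 37), (24, 39), (32, 41), (24, 44), (24, 45), (32, 47), (0, 1),
    (1, 1), (11, 50), (35, 35), (52, 51), (53, 53), (32, 53), (53, 54), (32, 54),
    (53, 55), (32, 55), (32, 56), (53, 57), (32, 57), (32, 58), (53, 59), (53, 60),
    (32, 60), (32, 63), (53, 64), (53, 65), (53, 66), (53, 69), (32, 69), (31, 49),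
    (13, 73), (26, 74), (53, 75), (76, 76), (32, 76), (76, 77), (32, 77), (76, 78),
    (32, 78), (76, 79), (32, 79), (76, 80), (32, 80), (76, 81), (32, 83), (32, 84),
    (76, 85), (32, 85), (76, 86), (32, 87), (76, 88), (50, 49), (2, 95), (27, 96),
    (53, 97), (76, 98), (32, 99), (30, 73), (22, 101), (43, 43), (103, 103), (104, 104),
    (103, 105), (106, 102), (65, 107), (91, 91), (109, 108), (110, 100), (73, 101), (22, 112),
    (29, 113), (71, 114), (115, 100), (115, 110), (115, 111), (101, 95), (23, 119), (47, 47),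
    (47, 121), (121, 121), (122, 123), (124, 120), (56, 125), (109, 126), (33, 127), (128, 100),
    (128, 110), (128, 111), (128, 115), (128, 116), (128, 117), (128, 118)]
  levels := [
    (0, [
      8, 0, 11, 6, 5, 19, 16, 17, 14, 18, 20, 3,
      2, 9, 12, 21, 10, 15, 22, 4, 7, 23, 13]),
    (1, [
      8, 44, 25, 24, 26, 38, 40, 43, 28, 27, 46, 35,
      47, 39, 48, 42, 34, 36, 45, 37, 41, 29]),
    (2, [
      8, 61, 59, 66, 67, 64, 69, 70, 53, 62, 55, 54,
      60, 57, 68, 56, 71, 63, 65, 58, 72]),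
    (3, [
      8, 91, 93, 83, 92, 82, 79, 90, 77, 85, 80, 87,
      86, 89, 94, 84, 81, 78, 88, 76]),
    (5, [
      8, 33, 32]),
    (4, [
      8, 116, 115, 129, 110, 111, 117, 118, 135, 133, 134, 128,
      130, 132, 131, 100])]

/-- Certificate for m22. -/
def m22Cert : GenCert where
  gens := [
    970296714854466432972701321677295040,
    977539952552827487134649595924337120]
  prog := [
    (0, 0), (0, 2), (2, 2), (4, 4), (3, 5), (0, 4), (0, 7), (0, 8),
    (0, 5), (0, 10), (1, 0), (1, 4), (1, 7), (1, 5), (1, 10), (0, 12),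
    (1, 12), (0, 14), (0, 16), (1, 18), (12, 12), (22, 22), (12, 23), (0, 1),
    (16, 16), (26, 26), (26, 27), (28, 25), (29, 29), (29, 30), (29, 31), (29, 32),
    (29, 33), (1, 1), (4, 35), (36, 30), (36, 31), (36, 34), (29, 36), (36, 36),
    (36, 37), (29, 39), (36, 39), (29, 40), (36, 40), (29, 41), (36, 42), (29, 46),
    (12, 25), (2, 50), (49, 51), (52, 52), (52, 53), (52, 54), (25, 35), (9, 56),
    (33, 57), (58, 52), (58, 53), (58, 54), (58, 55), (52, 59), (52, 60), (52, 62),
    (52, 64), (58, 64), (52, 65), (58, 65), (52, 66), (52, 67), (52, 69), (52, 72),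
    (2, 35), (56, 74), (24, 75), (29, 76), (66, 66), (66, 78), (79, 77), (80, 80),
    (74, 75), (15, 15), (83, 83), (84, 82), (32, 85), (65, 86), (81, 87), (88, 58),
    (50, 12), (12, 0), (8, 91), (32, 92), (93, 58), (93, 89), (91, 90), (10, 96),
    (44, 44), (98, 98), (99, 97), (72, 72), (101, 101), (102, 100), (103, 58), (103, 88),
    (103, 89), (103, 93), (103, 94), (103, 78), (103, 95)]
  levels := [
    (1, [
      6, 21, 11, 15, 8, 19, 20, 2, 4, 10, 5, 14,
      7, 0, 1, 16, 3, 12, 13, 17, 18, 9]),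
    (2, [
      6, 46, 32, 30, 41, 33, 43, 47, 49, 40, 38, 34,
      31, 42, 37, 45, 39, 36, 44, 29, 48]),
    (3, [
      6, 68, 63, 61, 71, 67, 72, 55, 70, 62, 69, 66,
      64, 60, 73, 52, 53, 59, 65, 54]),
    (5, [
      6, 80, 81]),
    (4, [
      6, 95, 58, 109, 107, 105, 108, 106, 89, 110, 94, 103,
      93, 104, 88, 78])]

/-- Certificate for m21. -/
def m21Cert : GenCert where
  gens := [
    982101181040543193282763601291191328,
    967638553524848038633153524500025376]
  prog := [
    (0, 0), (0, 2), (2, 2), (3, 4), (0, 4), (0, 6), (1, 0), (1, 3),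
    (1, 6), (0, 8), (1, 8), (0, 9), (0, 10), (1, 10), (0, 11), (1, 11),
    (0, 16), (0, 17), (0, 18), (8, 17), (11, 3), (0, 22), (14, 8), (21, 24),
    (18, 24), (10, 10), (27, 27), (27, 28), (29, 26), (30, 23), (25, 30), (24, 20),
    (2, 33), (31, 34), (35, 35), (35, 23), (35, 25), (35, 30), (35, 32), (25, 37),
    (35, 37), (23, 38), (25, 38), (23, 39), (25, 39), (23, 40), (30, 40), (35, 40),
    (25, 42), (20, 1), (29, 51), (26, 1), (21, 53), (50, 54), (55, 52), (33, 8),
    (46, 46), (58, 58), (59, 57), (35, 60), (61, 52), (61, 55), (61, 56), (8, 53),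
    (51, 8), (66, 65), (14, 67), (68, 52), (68, 55), (68, 56), (68, 61), (68, 62),
    (68, 63), (68, 64)]
  levels := [
    (2, [
      5, 8, 7, 4, 11, 13, 12, 0, 18, 20, 17, 2,
      15, 3, 16, 6, 14, 9, 1, 10, 19]),
    (3, [
      5, 23, 41, 46, 25, 50, 48, 40, 44, 47, 31, 39,
      38, 49, 30, 43, 37, 42, 32, 45]),
    (5, [
      5, 36, 35]),
    (4, [
      5, 52, 75, 72, 62, 71, 70, 61, 63, 56, 68, 55,
      64, 73, 69, 74])]

/-- Certificate for m12. -/
def m12Cert : GenCert where
  gens := [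
    479861175303740158528157376450792876,
    803108922855578580248525445756232896]
  prog := [
    (0, 0), (0, 2), (2, 2), (4, 4), (3, 5), (0, 4), (0, 7), (0, 8),
    (0, 5), (0, 10), (1, 1), (1, 12), (1, 13), (1, 14), (1, 15), (1, 16),
    (1, 17), (1, 18), (1, 19), (1, 7), (0, 1), (1, 22), (3, 23), (20, 24),
    (25, 25), (25, 26), (25, 27), (23, 1), (3, 29), (14, 30), (31, 31), (31, 25),
    (31, 26), (31, 28), (25, 33), (31, 33), (29, 0), (0, 38), (1, 39), (26, 40),
    (41, 41), (41, 42), (41, 31), (41, 32), (31, 44), (31, 45), (31, 46), (31, 47),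
    (38, 1), (0, 50), (35, 35), (52, 52), (53, 51), (47, 47), (47, 55), (56, 54),
    (57, 41), (57, 42), (57, 43)]
  levels := [
    (0, [
      6, 5, 7, 8, 9, 2, 3, 21, 0, 10, 11, 4]),
    (1, [
      6, 16, 18, 19, 1, 14, 17, 20, 13, 15, 12]),
    (2, [
      6, 37, 36, 28, 35, 27, 26, 33, 34, 25]),
    (3, [
      6, 49, 45, 47, 44, 46, 32, 48, 31]),
    (4, [
      6, 57, 41, 59, 42, 58, 43, 60])]

/-- Certificate for m11. -/
def m11Cert : GenCert where
  gens := [
    819508677184713798541838685204519424,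
    588949484145915972170866211791386112]
  prog := [
    (0, 0), (0, 2), (2, 2), (4, 4), (3, 5), (0, 4), (0, 7), (0, 8),
    (0, 5), (0, 10), (11, 1), (12, 12), (12, 13), (1, 2), (9, 15), (13, 16),
    (17, 17), (17, 18), (17, 12), (17, 13), (17, 14), (12, 21), (17, 22), (12, 23),
    (15, 1), (12, 26), (27, 27), (17, 27), (17, 28), (17, 29), (27, 30), (17, 30),
    (27, 31), (26, 1), (8, 35), (12, 36), (37, 17), (37, 18), (37, 19)]
  levels := [
    (1, [
      6, 9, 10, 4, 5, 7, 8, 11, 3, 0, 2]),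
    (2, [
      6, 23, 24, 22, 21, 25, 14, 13, 20, 12]),
    (3, [
      6, 34, 33, 32, 28, 30, 31, 29, 27]),
    (4, [
      6, 19, 37, 17, 18, 38, 39, 40])]

/-- Certificate for m11c. -/
def m11cCert : GenCert where
  gens := [
    819508677184713798541838685204519424,
    588949484145915972170866211791386112]
  prog := [
    (0, 0), (0, 2), (2, 2), (4, 4), (3, 5), (0, 4), (0, 7), (0, 8),
    (0, 5), (0, 10), (4, 1), (12, 12), (12, 13), (12, 14), (12, 7), (1, 2),
    (11, 17), (12, 18), (19, 19), (19, 20), (19, 21), (19, 13), (19, 14), (19, 15),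
    (12, 24), (19, 24), (19, 25), (17, 17), (15, 29), (30, 30), (30, 19), (30, 20),
    (30, 21), (19, 33), (19, 34), (29, 17), (11, 37), (13, 38), (21, 39), (40, 30),
    (40, 31)]
  levels := [
    (5, [
      6, 16, 2, 8, 5, 11, 10, 7, 9, 0, 3, 4]),
    (7, [
      6, 14, 23, 24, 12, 13, 15, 28, 27, 26, 25]),
    (10, [
      6, 22, 19, 34, 21, 36, 35, 20, 32, 33]),
    (15, [
      6, 31, 30, 40, 42, 41])]

end

end Cfsg.Agent.Golay24
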