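import Cfsg.Agent.Lib.Golay.Carry

/-!
Maximality of set stabilisers: each suborbit comes with an element that, together with the
stabiliser, generates the group of the code.
-/

set_option autoImplicit false

namespace Cfsg.Agent.Golay24

noncomputable section

open Cfsg
open scoped Pointwise

/-- A suborbit step, an element moving the root there, and a program producing generators of
the group of the code from stabiliser elements and that element. -/
structure GrowCert where
  hs : List ℕ
  g : ℕ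
  prog : List (ℕ × ℕ)
  ix : List ℕ

/-- The checks against the fixed mask and the root of the suborbit. -/
def GrowCert.ok (d : GrowCert) (m r : ℕ) : Bool :=
  d.hs.all (fun h => inM24 h && img h m == m) && inM24 d.g && (img d.g m == r) &&
    slpOk (d.hs.length + 1) d.prog &&
    d.ix.all (fun k => Nat.blt k (d.hs.length + 1 + d.prog.length)) &&
    (d.ix.map (fun k => (slp (d.hs ++ [d.g]) d.prog).getD k 0) == m24Gens)

/-- A subgroup containing the stabiliser of the mask and an element moving it into a certified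
suborbit contains the group of the code. -/
theorem GrowCert.M24_le {d : GrowCert} {c : StepCert} {m : ℕ} {fam : List ℕ}
    (hc : c.ok [m] fam = true) (hd : d.ok m c.root = true)
    {K : Subgroup (Equiv.Perm GolayPt)} (hK : fixSets [m] ≤ K) {g : Equiv.Perm GolayPt} (hgK : g ∈ K)
    (hg : g ∈ M24) (hfam : maskOf (g • setOf m) ∈ fam) : M24 ≤ K := by
  simp only [GrowCert.ok, Bool.and_eq_true, List.all_eq_true, beq_iff_eq, Nat.blt_eq] at hd
  obtain ⟨⟨⟨⟨⟨hhs, hgi⟩, hgm⟩, hslp⟩, hix⟩, he⟩ := hd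
  obtain ⟨τ, hτ, hτe⟩ := c.reach hc hfam
  rw [setOf_maskOf] at hτe
  have hgi' : toPerm d.g ∈ M24 := toPerm_mem_M24 hgi
  have hu : g⁻¹ * τ * toPerm d.g ∈ fixSets [m] := by
    refine ⟨M24.mul_mem (M24.mul_mem (M24.inv_mem hg) hτ.1) hgi', fun x hx => ?_⟩
    rw [List.mem_singleton] at hx
    subst hx
    rw [mul_smul, mul_smul, smul_setOf (valid_of_inM24 hgi), hgm, hτe, inv_smul_smul]
  have hgK' : toPerm d.g ∈ K := by
    have := K.mul_mem (K.inv_mem (hK hτ)) (K.mul_mem hgK (hK hu))
    rwa [show τ⁻¹ * (g * (g⁻¹ * τ * toPerm d.g)) = toPerm d.g by group] at this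
  refine M24_le_of_gens fun x hx => ?_
  rw [← he] at hx
  obtain ⟨k, hk, rfl⟩ := List.mem_map.1 hx
  have hk' : k < (slp (d.hs ++ [d.g]) d.prog).length := by rw [slp_length]; simpa using hix k hk
  rw [List.getD_eq_getElem _ _ hk']
  refine (slp_mem (K := K) d.prog _ (by simpa using hslp) (fun p hp => ?_) _ (List.getElem_mem hk')).2
  rcases List.mem_append.1 hp with hp | hp
  · exact ⟨valid_of_inM24 (hhs p hp).1, hK ⟨toPerm_mem_M24 (hhs p hp).1, fun x hx => by
      rw [List.mem_singleton] at hx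
      rw [hx, smul_setOf (valid_of_inM24 (hhs p hp).1), (hhs p hp).2]⟩⟩
  · rw [List.mem_singleton] at hp
    exact ⟨hp ▸ valid_of_inM24 hgi, hp ▸ hgK'⟩

/-- Maximality of the stabiliser of a set carried to a standard one, given that every other
translate of the standard set lies in a certified suborbit. -/
theorem isCoatom_stabilizer_of_grow {s : Finset GolayPt} {σ : Equiv.Perm GolayPt} {m : ℕ}
    (hσ : Carries σ [m] [s]) (hne : ∃ g ∈ M24, g • setOf m ≠ setOf m)
    (hcases : ∀ g ∈ M24, g • setOf m ≠ setOf m → ∃ (c : StepCert) (d : GrowCert) (fam : List ℕ),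
      c.ok [m] fam = true ∧ d.ok m c.root = true ∧ maskOf (g • setOf m) ∈ fam) :
    IsCoatom (MulAction.stabilizer M24 s) := by
  have hs : σ • setOf m = s := by simpa using hσ.2
  constructor
  · intro htop
    obtain ⟨g, hg, hgm⟩ := hne
    have := (Subgroup.eq_top_iff' _).1 htop
      ⟨σ * g * σ⁻¹, M24.mul_mem (M24.mul_mem hσ.1 hg) (M24.inv_mem hσ.1)⟩
    change (σ * g * σ⁻¹) • s = s at this
    rw [← hs, mul_smul, mul_smul, inv_smul_smul, smul_left_cancel_iff] at this
    exact hgm this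
  intro K hlt
  obtain ⟨hle, x, hxK, hxs⟩ := SetLike.lt_iff_le_and_exists.1 hlt
  let K' : Subgroup (Equiv.Perm GolayPt) :=
    (K.map M24.subtype).comap (MulAut.conj σ).toMonoidHom
  have hmem : ∀ u : Equiv.Perm GolayPt, u ∈ K' ↔ σ * u * σ⁻¹ ∈ K.map M24.subtype := fun u => Iff.rfl
  have hfix : fixSets [m] ≤ K' := by
    intro u hu
    rw [hmem]
    refine ⟨⟨σ * u * σ⁻¹, M24.mul_mem (M24.mul_mem hσ.1 hu.1) (M24.inv_mem hσ.1)⟩, hle ?_, rfl⟩
    show (σ * u * σ⁻¹) • s = s
    rw [← hs, mul_smul, mul_smul, inv_smul_smul, hu.2 m (by simp)]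
  set g := σ⁻¹ * (x : Equiv.Perm GolayPt) * σ with hgdef
  have hg : g ∈ M24 := M24.mul_mem (M24.mul_mem (M24.inv_mem hσ.1) x.2) hσ.1
  have hgK : g ∈ K' := by
    rw [hmem]
    exact ⟨x, hxK, by rw [hgdef]; simp [mul_assoc]⟩
  have hgm : g • setOf m ≠ setOf m := by
    intro e
    apply hxs
    show (x : Equiv.Perm GolayPt) • s = s
    rw [hgdef, mul_smul, mul_smul, inv_smul_eq_iff, hs] at e
    exact e
  obtain ⟨c, d, fam, hc, hd, hf⟩ := hcases g hg hgm
  have hall := d.M24_le hc hd hfix hgK hg hf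
  rw [Subgroup.eq_top_iff']
  intro y
  obtain ⟨z, hz, hzy⟩ := (hmem _).1 (hall (M24.mul_mem (M24.mul_mem (M24.inv_mem hσ.1) y.2) hσ.1))
  rwa [show y = z from Subtype.ext (by
    have : (z : Equiv.Perm GolayPt) = σ * (σ⁻¹ * (y : Equiv.Perm GolayPt) * σ) * σ⁻¹ := hzy
    rw [this]; group)]

end

end Cfsg.Agent.Golay24
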