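import Cfsg.Agent.Lib.Golay.Cosets

/-!
The subspaces of `F₂^24` stable under `Cfsg.M24`, and the stabilisers of code words on the cosets
of the code.
-/

set_option autoImplicit false

namespace Cfsg.Agent.Golay24

noncomputable section

open Cfsg
open scoped Pointwise

attribute [local irreducible] codeList weightList cosetLeads

/-- The permuted word. -/
def permWord (σ : Equiv.Perm GolayPt) (w : GolayPt → ZMod 2) : GolayPt → ZMod 2 :=
  fun x => w (σ.symm x)

/-- Stable under the group of the code. -/
def Stable (W : Submodule (ZMod 2) (GolayPt → ZMod 2)) : Prop :=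
  ∀ σ ∈ M24, ∀ w ∈ W, permWord σ w ∈ W

theorem permWord_mul (σ τ : Equiv.Perm GolayPt) (w : GolayPt → ZMod 2) :
    permWord (σ * τ) w = permWord σ (permWord τ w) := rfl

theorem permWord_sub (σ : Equiv.Perm GolayPt) (u w : GolayPt → ZMod 2) :
    permWord σ (u - w) = permWord σ u - permWord σ w := rfl

theorem permWord_mem_code {σ : Equiv.Perm GolayPt} (hσ : σ ∈ M24) {w : GolayPt → ZMod 2}
    (hw : w ∈ golayCode) : permWord σ w ∈ golayCode :=
  mem_M24_iff_maps.1 hσ w hw

theorem support₂_permWord (σ : Equiv.Perm GolayPt) (w : GolayPt → ZMod 2) :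
    support₂ (permWord σ w) = σ • support₂ w :=
  (smul_support₂ σ w).symm

theorem wordOf_full : wordOf 16777215 = 1 := by decide +kernel

theorem neg_word (w : GolayPt → ZMod 2) : -w = w :=
  funext fun x => by rcases zmod2_cases (w x) with h | h <;> simp [h]

theorem sub_word (u w : GolayPt → ZMod 2) : u - w = u + w := by
  rw [sub_eq_add_neg, neg_word]

theorem maskOf_support_wordOf {m : ℕ} (h : m < 2 ^ 24) : maskOf (support₂ (wordOf m)) = m := by
  rw [support₂_wordOf, maskOf_setOf h]

theorem wordOf_img {p m : ℕ} (hp : inM24 p = true) (hm : m < 2 ^ 24) :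
    permWord (toPerm p) (wordOf m) = wordOf (img p m) := by
  rw [← wordOf_maskOf_support (permWord (toPerm p) (wordOf m)), support₂_permWord,
    maskOf_smul (valid_of_inM24 hp), maskOf_support_wordOf hm]

/-- A stable space holds the word of any set congruent to the support of a member. -/
theorem mem_of_smul {W : Submodule (ZMod 2) (GolayPt → ZMod 2)} (hW : Stable W)
    {w : GolayPt → ZMod 2} (hw : w ∈ W) {σ : Equiv.Perm GolayPt} (hσ : σ ∈ M24)
    {u : GolayPt → ZMod 2} (h : σ • support₂ w = support₂ u) : u ∈ W := by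
  rw [← support₂_permWord] at h
  rw [← support₂_injective h]
  exact hW σ hσ w hw

theorem basis_octads : (basisMasks.all isOct) = true := by decide +kernel

theorem code_le_of_octad {W : Submodule (ZMod 2) (GolayPt → ZMod 2)} (hW : Stable W)
    {w : GolayPt → ZMod 2} (hw : w ∈ W) (ho : support₂ w ∈ octads) : golayCode ≤ W := by
  rw [golayCode_eq_span, Submodule.span_le]
  rintro _ ⟨i, rfl⟩
  have hb : isOct (basisMasks.getD i 0) = true :=
    List.all_eq_true.1 basis_octads _ (by
      rw [List.getD_eq_getElem _ _ i.isLt]; exact List.getElem_mem _)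
  obtain ⟨σ, hσ, h⟩ := exists_octad_map ho (setOf_mem_octads hb)
  exact mem_of_smul hW hw hσ (h.trans (support₂_wordOf _).symm)

theorem code_pairs_facts :
    (isOct (28637 ^^^ sqDod) && (pop24 28637 == 12) && inCode 28637 && isOct 14919680 &&
      isOct 126216 && isOct (14919680 ^^^ 126216) && Nat.blt 28637 16777216) = true := by
  decide +kernel

theorem code_le_of_mem {W : Submodule (ZMod 2) (GolayPt → ZMod 2)} (hW : Stable W)
    {w : GolayPt → ZMod 2} (hw : w ∈ W) (hc : w ∈ golayCode) (h0 : w ≠ 0) (h1 : w ≠ 1) :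
    golayCode ≤ W := by
  have hf := code_pairs_facts
  simp only [Bool.and_eq_true, beq_iff_eq, Nat.blt_eq] at hf
  obtain ⟨⟨⟨⟨⟨⟨hx, hd12⟩, hdC⟩, hA⟩, hB⟩, hAB⟩, hdlt⟩ := hf
  have hs : support₂ w ∈ supports (golayCode : Set (GolayPt → ZMod 2)) := ⟨w, hc, rfl⟩
  rcases card_supports_cases hs with h | h | h | h | h
  · exact absurd (support₂_injective ((Finset.card_eq_zero.1 h).trans (by simp [support₂]))) h0
  · exact code_le_of_octad hW hw ⟨hs, h⟩
  · have hd : setOf 28637 ∈ dodecads := by
      refine ⟨?_, by rw [card_setOf]; exact hd12⟩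
      rw [mem_supports_iff_inCode, maskOf_setOf (by simpa using hdlt)]
      exact hdC
    obtain ⟨σ, hσ, h'⟩ := exists_dodecad_map (d := support₂ w) ⟨hs, h⟩ hd
    obtain ⟨τ, hτ, h''⟩ := exists_dodecad_map (d := support₂ w) ⟨hs, h⟩ sqDod_mem
    have h₁ := mem_of_smul hW hw hσ (h'.trans (support₂_wordOf _).symm)
    have h₂ := mem_of_smul hW hw hτ (h''.trans (support₂_wordOf _).symm)
    refine code_le_of_octad hW (W.add_mem h₁ h₂) ?_
    rw [← wordOf_xor, support₂_wordOf]
    exact setOf_mem_octads hx
  · have e : support₂ (w + 1) = (support₂ w)ᶜ := by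
      ext x
      rcases zmod2_cases (w x) with hx' | hx' <;> simp [support₂, hx'] <;> decide
    have ho : support₂ (w + 1) ∈ octads :=
      ⟨⟨w + 1, Submodule.add_mem _ hc (by rw [← wordOf_full]; exact
          (wordOf_mem_iff (by norm_num)).2 ((mem_codeList_iff_inCode (by norm_num)).2
            (by decide +kernel))), rfl⟩,
        by rw [e, Finset.card_compl, h]; decide +kernel⟩
    have key : ∀ o : ℕ, isOct o = true → wordOf o + 1 ∈ W := by
      intro o hoO
      obtain ⟨σ, hσ, h'⟩ := exists_octad_map ho (setOf_mem_octads hoO)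
      rw [← support₂_wordOf, ← support₂_permWord] at h'
      rw [← support₂_injective h']
      have e1 : permWord σ (w + 1) + 1 = permWord σ w := by
        funext x
        rcases zmod2_cases (w (σ.symm x)) with hx' | hx' <;> simp [permWord, hx'] <;> decide
      rw [e1]
      exact hW σ hσ w hw
    refine code_le_of_octad hW (W.add_mem (key _ hA) (key _ hB)) ?_
    have e2 : wordOf 14919680 + 1 + (wordOf 126216 + 1) = wordOf (14919680 ^^^ 126216) := by
      rw [wordOf_xor]
      funext x
      simp only [Pi.add_apply, Pi.one_apply]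
      rcases zmod2_cases (wordOf 14919680 x) with ha | ha <;>
        rcases zmod2_cases (wordOf 126216 x) with hb | hb <;> simp [ha, hb] <;> decide
    rw [e2, support₂_wordOf]
    exact setOf_mem_octads hAB
  · refine absurd (support₂_injective ?_) h1
    rw [Finset.eq_univ_of_card _ (h.trans (by decide +kernel))]
    ext x
    simp [support₂]

/-- Packed generators of subgroups fixing the set of the first `k` positions. -/
def smallSetGens : List (ℕ × List ℕ) :=
  [(1, [816531919208939708358280323785105088, 528979565936413344306263586793706528]),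
   (3, [919468029822134218570506686825089025, 755700224026489793705652710266256416]),
   (7, [940350992241870876791456874839246849, 504402440597185559413813372920463425]),
   (15, [967821578972493389614186654934796291, 309213744147096559295937469044817955])]

/-- The code words fixed up to complement by generators of a set stabiliser are trivial. -/
def smallSetOk (q : ℕ × List ℕ) : Bool :=
  q.2.all (fun g => inM24 g && (img g q.1 == q.1)) &&
    codeList.all fun c => (c == 0 || c == 16777215) ||
      q.2.any fun g => !(img g c == c || img g c == c ^^^ 16777215)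

theorem smallSetGens_ok : smallSetGens.all smallSetOk = true := by decide +kernel

/-- In a stable space outside the code some member is a short word or its complement. -/
theorem exists_short_or_code {W : Submodule (ZMod 2) (GolayPt → ZMod 2)} (hW : Stable W)
    (hnle : ¬W ≤ golayCode) :
    ∃ q ∈ smallSetGens, wordOf q.1 ∈ W ∨ wordOf (q.1 ^^^ 16777215) ∈ W := by
  obtain ⟨w, hw, hwC⟩ := SetLike.not_le_iff_exists.1 hnle
  obtain ⟨v, hv, hnorm⟩ := exists_leader w
  have hk4 : (support₂ v).card ≤ 4 := by
    rw [← hammingNorm_eq_card]; omega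
  have hk0 : (support₂ v).card ≠ 0 := by
    intro h
    have : v = 0 := support₂_injective ((Finset.card_eq_zero.1 h).trans (by simp [support₂]))
    rw [this, sub_zero] at hv
    exact hwC hv
  set k := (support₂ v).card with hk
  obtain ⟨σ, hσ, hmap⟩ := exists_map_le_five (n := k) (by omega)
    ((support₂ v).equivFin.symm.toEmbedding.trans (Function.Embedding.subtype _))
    ⟨fun i => pt ⟨i, by omega⟩, fun a b hab => Fin.ext (by
      simpa using congrArg (fun x => (idx x : ℕ)) hab)⟩
  have hsupp : σ • support₂ v = setOf (2 ^ k - 1) := by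
    refine Finset.eq_of_subset_of_card_le (fun y hy => ?_) ?_
    · obtain ⟨x, hx, rfl⟩ := Finset.mem_smul_finset.1 hy
      have hx' := hmap ((support₂ v).equivFin ⟨x, hx⟩)
      simp only [Function.Embedding.trans_apply, Equiv.coe_toEmbedding, Equiv.symm_apply_apply,
        Function.Embedding.coe_subtype] at hx'
      rw [Equiv.Perm.smul_def, hx']
      simp only [setOf, Finset.mem_filter, Finset.mem_univ, true_and, Nat.testBit_two_pow_sub_one,
        decide_eq_true_eq]
      show (idx (pt _) : ℕ) < k
      simp
    · have : k = 1 ∨ k = 2 ∨ k = 3 ∨ k = 4 := by omega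
      rw [Finset.card_smul_finset, card_setOf, ← hk]
      rcases this with h | h | h | h <;> rw [h] <;> decide +kernel
  have hv' : permWord σ v = wordOf (2 ^ k - 1) :=
    support₂_injective (by rw [support₂_permWord, hsupp, support₂_wordOf])
  have hw' : permWord σ w ∈ W := hW σ hσ w hw
  have hc' : permWord σ w - wordOf (2 ^ k - 1) ∈ golayCode := by
    rw [← hv', ← permWord_sub]; exact permWord_mem_code hσ hv
  set c := permWord σ w - wordOf (2 ^ k - 1) with hcdef
  obtain ⟨gs, hq⟩ : ∃ gs, (2 ^ k - 1, gs) ∈ smallSetGens := by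
    have : k = 1 ∨ k = 2 ∨ k = 3 ∨ k = 4 := by omega
    rcases this with h | h | h | h <;> rw [h] <;> simp [smallSetGens]
  refine ⟨_, hq, ?_⟩
  have hok := List.all_eq_true.1 smallSetGens_ok _ hq
  simp only [smallSetOk, Bool.and_eq_true, List.all_eq_true, beq_iff_eq] at hok
  obtain ⟨hgs, hall⟩ := hok
  have hm : 2 ^ k - 1 < 2 ^ 24 := by
    have : 2 ^ k ≤ 2 ^ 4 := Nat.pow_le_pow_right (by norm_num) hk4
    norm_num at this ⊢
    omega
  have hcm : maskOf (support₂ c) < 2 ^ 24 := maskOf_lt _
  have hdec := hall _ (mem_golayCode_iff_list.1 hc')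
  simp only [Bool.or_eq_true, beq_iff_eq, List.any_eq_true, Bool.not_eq_true',
    Bool.or_eq_false_iff, beq_eq_false_iff_ne] at hdec
  have hwc : permWord σ w = wordOf (2 ^ k - 1) + c := by rw [hcdef]; abel
  rcases hdec with (h | h) | ⟨g, hg, hg1, hg2⟩
  · left
    rw [hwc, ← wordOf_maskOf_support c, h, wordOf_zero, add_zero] at hw'
    exact hw'
  · right
    rw [hwc, ← wordOf_maskOf_support c, h, ← wordOf_xor] at hw'
    exact hw'
  · left
    obtain ⟨hgM, hgfix⟩ := hgs g hg
    have hd : wordOf (img g (maskOf (support₂ c)) ^^^ maskOf (support₂ c)) ∈ W := by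
      rw [wordOf_xor, ← wordOf_img hgM hcm, wordOf_maskOf_support]
      have : permWord (toPerm g) c + c =
          permWord (toPerm g) (permWord σ w) + permWord σ w := by
        conv_rhs => rw [hwc]
        have e : permWord (toPerm g) (wordOf (2 ^ k - 1) + c) =
            permWord (toPerm g) (wordOf (2 ^ k - 1)) + permWord (toPerm g) c := rfl
        rw [e, wordOf_img hgM hm, hgfix]
        have e2 : wordOf (2 ^ k - 1) + wordOf (2 ^ k - 1) = 0 := by
          rw [← sub_word, sub_self]
        rw [add_add_add_comm, e2, zero_add]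
      rw [this]
      exact W.add_mem (hW _ (toPerm_mem_M24 hgM) _ hw') hw'
    have hle : golayCode ≤ W := by
      refine code_le_of_mem hW hd ?_ ?_ ?_
      · rw [wordOf_xor, ← wordOf_img hgM hcm, wordOf_maskOf_support]
        exact Submodule.add_mem _ (permWord_mem_code (toPerm_mem_M24 hgM) hc') hc'
      · intro h
        rw [wordOf_xor, ← wordOf_img hgM hcm, wordOf_maskOf_support, ← sub_word, sub_eq_zero] at h
        have := congrArg (fun x => maskOf (support₂ x)) h
        simp only [support₂_permWord, maskOf_smul (valid_of_inM24 hgM)] at this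
        exact hg1 this
      · intro h
        rw [wordOf_xor, ← wordOf_img hgM hcm, wordOf_maskOf_support, ← wordOf_full] at h
        have h' : permWord (toPerm g) c =
            wordOf (maskOf (support₂ c) ^^^ 16777215) := by
          rw [wordOf_xor, wordOf_maskOf_support, ← h, add_comm c, add_assoc, ← sub_word c c,
            sub_self, add_zero]
        have := congrArg (fun x => maskOf (support₂ x)) h'
        simp only [support₂_permWord, maskOf_smul (valid_of_inM24 hgM)] at this
        rw [maskOf_support_wordOf (Nat.xor_lt_two_pow hcm (by norm_num))] at this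
        exact hg2 this
    have := W.sub_mem hw' (hle hc')
    rw [hwc, add_sub_cancel_right] at this
    exact this

/-- For each canonical small set, a congruent one whose symmetric difference is a pair. -/
def pairSteps : List (ℕ × ℕ) := [(1, 2), (3, 6), (7, 11), (15, 23)]

theorem pairSteps_ok : pairSteps.all (fun q => Nat.blt q.2 16777216 && (pop24 q.2 == pop24 q.1) &&
    Nat.ble (pop24 q.1) 5 && (pop24 (q.1 ^^^ q.2) == 2)) = true := by decide +kernel

theorem exists_small_map {s t : Finset GolayPt} (h : s.card = t.card) (hs : s.card ≤ 5) :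
    ∃ σ ∈ M24, σ • s = t := by
  obtain ⟨σ, hσ, hh⟩ := exists_map_le_five (n := s.card) hs
    (s.equivFin.symm.toEmbedding.trans (Function.Embedding.subtype _))
    ((t.equivFinOfCardEq h.symm).symm.toEmbedding.trans (Function.Embedding.subtype _))
  refine ⟨σ, hσ, Finset.eq_of_subset_of_card_le (fun y hy => ?_)
    (by rw [Finset.card_smul_finset, h])⟩
  obtain ⟨x, hx, rfl⟩ := Finset.mem_smul_finset.1 hy
  have := hh (s.equivFin ⟨x, hx⟩)
  simp only [Function.Embedding.trans_apply, Equiv.coe_toEmbedding, Equiv.symm_apply_apply,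
    Function.Embedding.coe_subtype] at this
  rw [Equiv.Perm.smul_def, this]
  exact Subtype.prop _

theorem exists_pair_mem {W : Submodule (ZMod 2) (GolayPt → ZMod 2)} (hW : Stable W)
    (hnle : ¬W ≤ golayCode) : ∃ u ∈ W, (support₂ u).card = 2 := by
  obtain ⟨q, hq, h⟩ := exists_short_or_code hW hnle
  obtain ⟨m', hq'⟩ : ∃ m', (q.1, m') ∈ pairSteps := by
    fin_cases hq <;> simp [pairSteps]
  have hok := List.all_eq_true.1 pairSteps_ok _ hq'
  simp only [Bool.and_eq_true, beq_iff_eq, Nat.blt_eq, Nat.ble_eq] at hok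
  obtain ⟨⟨⟨-, hpop⟩, h5⟩, h2⟩ := hok
  obtain ⟨σ, hσ, hmap⟩ := exists_small_map (s := setOf q.1) (t := setOf m')
    (by rw [card_setOf, card_setOf, hpop]) (by rw [card_setOf]; exact h5)
  have hmove : permWord σ (wordOf q.1) = wordOf m' :=
    support₂_injective (by rw [support₂_permWord, support₂_wordOf, hmap, support₂_wordOf])
  have hfull : permWord σ (wordOf 16777215) = wordOf 16777215 := by
    rw [wordOf_full]; rfl
  refine ⟨wordOf (q.1 ^^^ m'), ?_, by rw [support₂_wordOf, card_setOf, h2]⟩
  rw [wordOf_xor, ← hmove]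
  rcases h with h | h
  · exact W.add_mem h (hW σ hσ _ h)
  · have := W.add_mem h (hW σ hσ _ h)
    have e : permWord σ (wordOf (q.1 ^^^ 16777215)) = wordOf m' + wordOf 16777215 := by
      rw [wordOf_xor, ← hmove]
      exact congrArg (permWord σ (wordOf q.1) + ·) hfull
    rw [e, wordOf_xor, add_add_add_comm, ← sub_word (wordOf 16777215), sub_self, add_zero,
      ← hmove] at this
    exact this

theorem even_le {W : Submodule (ZMod 2) (GolayPt → ZMod 2)} (hW : Stable W)
    (hnle : ¬W ≤ golayCode) {u : GolayPt → ZMod 2} (hu : ∑ p, u p = 0) : u ∈ W := by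
  classical
  obtain ⟨w, hw, hw2⟩ := exists_pair_mem hW hnle
  have hpair : ∀ a b : GolayPt, Pi.single a 1 + Pi.single b 1 ∈ W := by
    intro a b
    by_cases hab : a = b
    · subst hab
      rw [← sub_word, sub_self]
      exact W.zero_mem
    obtain ⟨σ, hσ, h⟩ := exists_small_map (s := support₂ w) (t := {a, b})
      (by rw [hw2, Finset.card_pair hab]) (by omega)
    refine mem_of_smul hW hw hσ (h.trans ?_)
    ext x
    by_cases hxa : x = a
    · subst hxa; simp [support₂, hab]
    by_cases hxb : x = b
    · subst hxb; simp [support₂, Pi.single_eq_of_ne hxa]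
    · simp [support₂, hxa, hxb, Pi.single_eq_of_ne hxa, Pi.single_eq_of_ne hxb]
  have e : u = ∑ p, u p • (Pi.single p 1 + Pi.single (none : GolayPt) 1) := by
    simp only [smul_add, Finset.sum_add_distrib, ← Finset.sum_smul, hu, zero_smul, add_zero]
    funext x
    rw [Finset.sum_apply, Finset.sum_eq_single x]
    · simp
    · intro b _ hb
      simp [Pi.single_eq_of_ne (Ne.symm hb)]
    · simp
  rw [e]
  exact W.sum_mem fun p _ => W.smul_mem _ (hpair p none)

theorem code_sum_zero {w : GolayPt → ZMod 2} (hw : w ∈ golayCode) : ∑ p, w p = 0 := by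
  rw [golayCode_eq_span] at hw
  induction hw using Submodule.span_induction with
  | mem x hx =>
    obtain ⟨i, rfl⟩ := hx
    revert i
    decide +kernel
  | zero => simp
  | add a b _ _ ha hb => simp [Finset.sum_add_distrib, ha, hb]
  | smul t a _ ha => simp [← Finset.mul_sum, ha]

theorem stable_cases {W : Submodule (ZMod 2) (GolayPt → ZMod 2)} (hW : Stable W) :
    W = ⊥ ∨ W = Submodule.span (ZMod 2) {(1 : GolayPt → ZMod 2)} ∨ W = golayCode ∨
      (W : Set (GolayPt → ZMod 2)) = {w | ∑ p, w p = 0} ∨ W = ⊤ := by
  by_cases hle : W ≤ golayCode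
  · by_cases hex : ∃ w ∈ W, w ≠ 0 ∧ w ≠ 1
    · obtain ⟨w, hw, h0, h1⟩ := hex
      exact Or.inr (Or.inr (Or.inl (le_antisymm hle (code_le_of_mem hW hw (hle hw) h0 h1))))
    push Not at hex
    by_cases h1 : (1 : GolayPt → ZMod 2) ∈ W
    · refine Or.inr (Or.inl (le_antisymm (fun w hw => ?_)
        ((Submodule.span_singleton_le_iff_mem _ _).2 h1)))
      by_cases h0 : w = 0
      · rw [h0]; exact Submodule.zero_mem _
      · rw [hex w hw h0]; exact Submodule.mem_span_singleton_self _
    · refine Or.inl ((Submodule.eq_bot_iff _).2 fun w hw => ?_)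
      by_contra h0
      exact h1 (hex w hw h0 ▸ hw)
  refine Or.inr (Or.inr (Or.inr ?_))
  by_cases hodd : ∃ w ∈ W, ∑ p, w p ≠ 0
  · obtain ⟨w, hw, hws⟩ := hodd
    refine Or.inr (eq_top_iff.2 fun u _ => ?_)
    rcases zmod2_cases (∑ p, u p) with h | h
    · exact even_le hW hle h
    · have hw1 : ∑ p, w p = 1 := (zmod2_cases _).resolve_left hws
      have hdiff : u - w ∈ W :=
        even_le hW hle (by simp [Finset.sum_sub_distrib, h, hw1])
      simpa using W.add_mem hdiff hw
  · push Not at hodd
    exact Or.inl (Set.ext fun u => ⟨hodd u, even_le hW hle⟩)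

/-- Generators of stabilisers of the standard words of weight 8 and 12. -/
def wordStabGens : List (ℕ × List ℕ) :=
  [(5279, [355048222759634238518191249361698922, 635472860300965083873970129471670593,
      754449254942208026686253506420146218]),
   (340831, [238261878447651668096251020725265921, 479829129717610270604595045454775683])]

/-- Every leader outside the code is moved modulo the code. -/
def wordStabOk (q : ℕ × List ℕ) : Bool :=
  q.2.all (fun g => inM24 g && (img g q.1 == q.1)) && Nat.blt q.1 16777216 &&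
    cosetLeads.all fun m => inCode m || q.2.any fun g => !(inCode (img g m ^^^ m))

theorem wordStabGens_ok : wordStabGens.all wordStabOk = true := by decide +kernel

theorem exists_moving {q : ℕ × List ℕ} (hq : q ∈ wordStabGens) {w : GolayPt → ZMod 2}
    (hw : w ∉ golayCode) :
    ∃ σ ∈ M24, permWord σ (wordOf q.1) = wordOf q.1 ∧ permWord σ w - w ∉ golayCode := by
  have hok := List.all_eq_true.1 wordStabGens_ok _ hq
  simp only [wordStabOk, Bool.and_eq_true, List.all_eq_true, beq_iff_eq, Nat.blt_eq] at hok
  obtain ⟨⟨hgs, hlt⟩, hall⟩ := hok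
  have hs : syn (maskOf (support₂ w)) < cosetLeads.length := by
    rw [cosetLeads_spec.1]; exact syn_lt _
  obtain ⟨hshape, hsy⟩ := leadSeqOk_spec _ 0 _ cosetLeads_spec.2 hs
  rw [Nat.zero_add] at hsy
  simp only [leadShapeOk, Bool.and_eq_true, Nat.blt_eq] at hshape
  set m := cosetLeads.getD (syn (maskOf (support₂ w))) 0 with hm
  have hm24 : m < 2 ^ 24 := by simpa using hshape.1
  have hmem : m ∈ cosetLeads := by
    rw [hm, List.getD_eq_getElem _ _ hs]; exact List.getElem_mem _
  have hdiff : w - wordOf m ∈ golayCode :=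
    add_mem_of_syn_eq (by rw [maskOf_support_wordOf hm24]; exact hsy)
  have hin : ∀ n < 2 ^ 24, (wordOf n ∈ golayCode ↔ inCode n = true) := fun n hn =>
    (wordOf_mem_iff hn).trans (mem_codeList_iff_inCode hn)
  have hdec := hall m hmem
  simp only [Bool.or_eq_true, List.any_eq_true, Bool.not_eq_true'] at hdec
  rcases hdec with h | ⟨g, hg, hgm⟩
  · refine absurd ?_ hw
    have := golayCode.add_mem hdiff ((hin m hm24).2 h)
    rwa [sub_add_cancel] at this
  obtain ⟨hgM, hgq⟩ := hgs g hg
  refine ⟨toPerm g, toPerm_mem_M24 hgM, ?_, fun hcon => ?_⟩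
  · rw [wordOf_img hgM (by simpa using hlt), hgq]
  have h1 := permWord_mem_code (toPerm_mem_M24 hgM) hdiff
  rw [permWord_sub] at h1
  have h2 : permWord (toPerm g) (wordOf m) + wordOf m ∈ golayCode := by
    have := golayCode.sub_mem (golayCode.add_mem hcon hdiff) h1
    rw [← sub_word]
    convert this using 1
    abel
  rw [wordOf_img hgM hm24, ← wordOf_xor, hin _ (Nat.xor_lt_two_pow
    (img_lt (valid_of_inM24 hgM) _) hm24), hgm] at h2
  exact Bool.false_ne_true h2

theorem exists_moving_word {u : GolayPt → ZMod 2} (hu : u ∈ golayCode) {w : GolayPt → ZMod 2}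
    (hw : w ∉ golayCode) :
    ∃ σ ∈ M24, permWord σ u = u ∧ permWord σ w - w ∉ golayCode := by
  have transport : ∀ q ∈ wordStabGens, ∀ u' : GolayPt → ZMod 2, ∀ ρ ∈ M24,
      permWord ρ u' = wordOf q.1 →
        ∃ σ ∈ M24, permWord σ u' = u' ∧ permWord σ w - w ∉ golayCode := by
    intro q hq u' ρ hρ hu'
    obtain ⟨σ, hσ, hfix, hmove⟩ := exists_moving hq (w := permWord ρ w) (fun h => hw (by
      have := permWord_mem_code (M24.inv_mem hρ) h
      rwa [← permWord_mul, inv_mul_cancel] at this))
    refine ⟨ρ⁻¹ * σ * ρ, M24.mul_mem (M24.mul_mem (M24.inv_mem hρ) hσ) hρ, ?_, fun h => hmove ?_⟩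
    · rw [permWord_mul, permWord_mul, hu', hfix, ← hu', ← permWord_mul, inv_mul_cancel]
      rfl
    · have := permWord_mem_code hρ h
      rwa [permWord_sub, ← permWord_mul, ← mul_assoc, ← mul_assoc, mul_inv_cancel, one_mul,
        permWord_mul] at this
  have hO : (5279, _) ∈ wordStabGens := List.mem_cons_self
  have hD : (340831, _) ∈ wordStabGens := List.mem_cons_of_mem _ List.mem_cons_self
  have hO8 : setOf 5279 ∈ octads := setOf_mem_octads (by decide +kernel)
  have hs : support₂ u ∈ supports (golayCode : Set (GolayPt → ZMod 2)) := ⟨u, hu, rfl⟩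
  have htriv : (u = 0 ∨ u = 1) → ∃ σ ∈ M24, permWord σ u = u ∧ permWord σ w - w ∉ golayCode := by
    intro h
    obtain ⟨σ, hσ, -, h2⟩ := exists_moving hO hw
    exact ⟨σ, hσ, by rcases h with rfl | rfl <;> rfl, h2⟩
  rcases card_supports_cases hs with h | h | h | h | h
  · exact htriv (Or.inl (support₂_injective ((Finset.card_eq_zero.1 h).trans (by simp [support₂]))))
  · obtain ⟨ρ, hρ, hh⟩ := exists_octad_map (o := support₂ u) ⟨hs, h⟩ hO8
    exact transport _ hO u ρ hρ
      (support₂_injective (by rw [support₂_permWord, hh, support₂_wordOf]))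
  · obtain ⟨ρ, hρ, hh⟩ := exists_dodecad_map (d := support₂ u) ⟨hs, h⟩ sqDod_mem
    exact transport _ hD u ρ hρ
      (support₂_injective (by rw [support₂_permWord, hh, support₂_wordOf]; rfl))
  · have e : support₂ (u + 1) = (support₂ u)ᶜ := by
      ext x
      rcases zmod2_cases (u x) with hx' | hx' <;> simp [support₂, hx'] <;> decide
    have hu1 : u + 1 ∈ golayCode := golayCode.add_mem hu (by
      rw [← wordOf_full]
      exact (wordOf_mem_iff (by norm_num)).2
        ((mem_codeList_iff_inCode (by norm_num)).2 (by decide +kernel)))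
    obtain ⟨ρ, hρ, hh⟩ := exists_octad_map (o := support₂ (u + 1))
      ⟨⟨_, hu1, rfl⟩, by rw [e, Finset.card_compl, h]; decide +kernel⟩ hO8
    obtain ⟨σ, hσ, hfix, hm⟩ := transport _ hO (u + 1) ρ hρ
      (support₂_injective (by rw [support₂_permWord, hh, support₂_wordOf]))
    refine ⟨σ, hσ, ?_, hm⟩
    have : permWord σ u + 1 = u + 1 := hfix
    exact add_right_cancel this
  · refine htriv (Or.inr (support₂_injective ?_))
    rw [Finset.eq_univ_of_card _ (h.trans (by decide +kernel))]
    ext x
    simp [support₂]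

end

end Cfsg.Agent.Golay24
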