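import Cfsg.Agent.Lib.Golay.Mathieu

/-!
Upper bounds for the elements of M24 conjugating an element to a given power, by counting the
partial maps on a few of its cycles that are compatible with the code.
-/

set_option autoImplicit false

namespace Cfsg.Agent.Golay24

noncomputable section

open Cfsg
open scoped Pointwise

/-- `g` agrees with the packed partial map `P` on the mask `S`. -/
def AgreeOn (S P : ℕ) (g : Equiv.Perm GolayPt) : Prop :=
  ∀ i : Fin 24, S.testBit i = true → app P i = (idx (g (pt i)) : ℕ)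

/-- The mask of a list of positions. -/
noncomputable def bitsOf (l : List ℕ) : ℕ :=
  List.rec (motive := fun _ => ℕ) 0 (fun a _ r => Nat.lor (Nat.shiftLeft 1 a) r) l

/-- Send the listed positions to the successive images of `w` under `q`. -/
noncomputable def extMap (q : ℕ) (src : List ℕ) : ℕ → ℕ → ℕ :=
  List.rec (motive := fun _ => ℕ → ℕ → ℕ) (fun _ P => P)
    (fun s _ ih w P => ih (app q w) (Nat.lor P (Nat.shiftLeft w (5 * s)))) src

/-- The image after the whole list. -/
noncomputable def lastOf (q : ℕ) (src : List ℕ) : ℕ → ℕ :=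
  List.rec (motive := fun _ => ℕ → ℕ) (fun w => w) (fun _ _ ih w => ih (app q w)) src

/-- The tests after extending by one cycle. -/
noncomputable def stepOk (q : ℕ) (lv : List ℕ × List ℕ) (S P T w : ℕ) : Bool :=
  cond (Nat.testBit T w) false
    (cond (Nat.beq (lastOf q lv.1 w) w)
      (List.rec (motive := fun _ => Bool)
        (Nat.beq (pop24 (img (extMap q lv.1 w P) (Nat.lor S (bitsOf lv.1)))) (pop24 (Nat.lor S (bitsOf lv.1))))
        (fun o _ r => cond (inCode (img (extMap q lv.1 w P) o) &&
          Nat.beq (pop24 (img (extMap q lv.1 w P) o)) 8) r false) lv.2)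
      false)

/-- The number of compatible partial maps through one level and then `rest`. -/
noncomputable def sumStep (q : ℕ) (lv : List ℕ × List ℕ) (rest : ℕ → ℕ → ℕ) (ws : List ℕ) (S P : ℕ) : ℕ :=
  (fun T => List.rec (motive := fun _ => ℕ) 0
    (fun w _ r => Nat.add (cond (stepOk q lv S P T w)
      (rest (Nat.lor S (bitsOf lv.1)) (extMap q lv.1 w P)) 0) r) ws) (img P S)

/-- The number of compatible partial maps through all levels. -/
noncomputable def countMaps (q : ℕ) (L : List (List ℕ × List ℕ)) : ℕ → ℕ → ℕ :=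
  List.rec (motive := fun _ => ℕ → ℕ → ℕ) (fun _ _ => 1)
    (fun lv _ ih S P => sumStep q lv ih (List.range 24) S P) L

/-- Consecutive positions under `y`, closing up, fresh for `S`. -/
def srcOk (y : ℕ) (S : ℕ) (src : List ℕ) : Bool :=
  src.all (fun s => Nat.blt s 24 && !Nat.testBit S s) && decide src.Nodup &&
    !src.isEmpty &&
    (List.range src.length).all fun i => app y (src.getD i 0) == src.getD ((i + 1) % src.length) 0

/-- All levels are well formed, their test octads lie inside, and the last mask determines everything. -/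
def levelsOk (y : ℕ) (st : List (List ℕ)) : List (List ℕ × List ℕ) → ℕ → Bool
  | [], S => stagesOk S st
  | lv :: L, S => srcOk y S lv.1 &&
      lv.2.all (fun o => Nat.land o (Nat.lor S (bitsOf lv.1)) == o && isOct o) &&
      levelsOk y st L (Nat.lor S (bitsOf lv.1))

attribute [local irreducible] pop24 img inCode

theorem testBit_bitsOf (l : List ℕ) (j : ℕ) : (bitsOf l).testBit j = true ↔ j ∈ l := by
  induction l with
  | nil => simp [bitsOf]
  | cons a l ih =>
    show (1 <<< a ||| bitsOf l).testBit j = true ↔ _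
    rw [Nat.testBit_or, Bool.or_eq_true, ih, Nat.one_shiftLeft, Nat.testBit_two_pow, decide_eq_true_eq,
      List.mem_cons]
    exact ⟨fun h => h.elim (fun e => Or.inl e.symm) Or.inr, fun h => h.elim (fun e => Or.inl e.symm) Or.inr⟩

theorem app_lor_shift {P w s : ℕ} (hw : w < 32) (hP : app P s = 0) (t : ℕ) :
    app (Nat.lor P (Nat.shiftLeft w (5 * s))) t = if t = s then w else app P t := by
  refine Nat.eq_of_testBit_eq fun k => ?_
  show (((P ||| w <<< (5 * s)) >>> (5 * t)) &&& 31).testBit k = _
  have h31 : (31 : ℕ).testBit k = decide (k < 5) := Nat.testBit_two_pow_sub_one 5 k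
  rw [Nat.testBit_and, Nat.testBit_shiftRight, Nat.testBit_or, Nat.testBit_shiftLeft, h31]
  have hwk : ∀ i, 5 ≤ i → w.testBit i = false := fun i hi =>
    Nat.testBit_lt_two_pow (lt_of_lt_of_le hw (show 2 ^ 5 ≤ 2 ^ i from Nat.pow_le_pow_right (by norm_num) hi))
  by_cases hts : t = s
  · subst hts
    rw [if_pos rfl]
    by_cases hk : k < 5
    · have h0 : ((P >>> (5 * t)) &&& 31).testBit k = false := by
        rw [show (P >>> (5 * t)) &&& 31 = app P t from rfl, hP]; simp
      rw [Nat.testBit_and, Nat.testBit_shiftRight, h31] at h0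
      simp [hk] at h0
      simp [hk, h0]
    · simp [hk, hwk k (by omega)]
  · rw [if_neg hts]
    show _ = ((P >>> (5 * t)) &&& 31).testBit k
    rw [Nat.testBit_and, Nat.testBit_shiftRight, h31]
    by_cases hk : k < 5
    · by_cases hle : 5 * s ≤ 5 * t + k
      · rw [hwk (5 * t + k - 5 * s) (by omega)]; simp
      · simp [show ¬ (5 * t + k ≥ 5 * s) by omega]
    · simp [hk]

/-- The state reached by following `g`. -/
structure Follows (g : Equiv.Perm GolayPt) (S P : ℕ) : Prop where
  agree : AgreeOn S P g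
  zero : ∀ t : ℕ, t < 24 → S.testBit t = false → app P t = 0

theorem extMap_follows {g : Equiv.Perm GolayPt} {y q : ℕ} (hy : validP y = true) (hq : validP q = true)
    (hcomm : ∀ x, g (toPerm y x) = toPerm q (g x)) :
    ∀ (src : List ℕ) (S P w : ℕ) (h24 : ∀ s ∈ src, s < 24), src.Nodup →
      (∀ s ∈ src, S.testBit s = false) →
      (∀ i (hi : i + 1 < src.length), app y (src[i]'(by omega)) = src[i + 1]) →
      (∀ (h : 0 < src.length), w = (idx (g (pt ⟨src[0], h24 _ (List.getElem_mem h)⟩)) : ℕ)) →
      Follows g S P → Follows g (Nat.lor S (bitsOf src)) (extMap q src w P) ∧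
        ∀ (h : 0 < src.length), lastOf q src w =
          (idx (g (toPerm y (pt ⟨src[src.length - 1], h24 _ (List.getElem_mem _)⟩))) : ℕ) := by
  intro src
  induction src with
  | nil =>
    intro S P w _ _ _ _ _ hF
    refine ⟨?_, fun h => absurd h (by simp)⟩
    rw [show Nat.lor S (bitsOf []) = S from Nat.or_zero S]
    exact hF
  | cons s l ih =>
    intro S P w h24 hnd hfresh hchain hw hF
    have hw' : w = (idx (g (pt ⟨s, h24 s (by simp)⟩)) : ℕ) := hw (by simp)
    have hs : app P s = 0 := hF.zero s (h24 s (by simp)) (hfresh s (by simp))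
    have hw24 : w < 24 := hw' ▸ (idx _).isLt
    rw [List.nodup_cons] at hnd
    have hnext : ∀ (hl : 0 < l.length), app q w = (idx (g (pt ⟨l[0], h24 _ (by simp)⟩)) : ℕ) := fun hl => by
      rw [hw', ← idx_toPerm hq, ← hcomm]
      congr 3
      refine idx_inj.1 (Fin.ext ?_)
      rw [idx_toPerm hy, idx_pt, idx_pt]
      exact hchain 0 (by simp; omega)
    have hF' : Follows g (Nat.lor S (Nat.shiftLeft 1 s)) (Nat.lor P (Nat.shiftLeft w (5 * s))) := by
      constructor
      · intro i hi
        rw [app_lor_shift (by omega) hs]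
        change (S ||| 1 <<< s).testBit i = true at hi
        rw [Nat.testBit_or, Bool.or_eq_true, Nat.one_shiftLeft, Nat.testBit_two_pow, decide_eq_true_eq] at hi
        by_cases his : (i : ℕ) = s
        · rw [if_pos his, hw']
          congr 3
          exact congrArg pt (Fin.ext his.symm)
        · rw [if_neg his]
          exact hF.agree i (hi.resolve_right fun e => his e.symm)
      · intro t ht ht'
        change (S ||| 1 <<< s).testBit t = false at ht'
        rw [Nat.testBit_or, Bool.or_eq_false_iff, Nat.one_shiftLeft, Nat.testBit_two_pow, decide_eq_false_iff_not] at ht'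
        rw [app_lor_shift (by omega) hs, if_neg (Ne.symm ht'.2)]
        exact hF.zero t ht ht'.1
    obtain ⟨h1, h2⟩ := ih (Nat.lor S (Nat.shiftLeft 1 s)) _ (app q w) (fun a ha => h24 a (List.mem_cons_of_mem _ ha))
      hnd.2 (fun a ha => by
        show (S ||| 1 <<< s).testBit a = false
        rw [Nat.testBit_or, hfresh a (List.mem_cons_of_mem _ ha), Nat.one_shiftLeft, Nat.testBit_two_pow]
        simp only [Bool.false_or, decide_eq_false_iff_not]
        exact fun e => hnd.1 (e ▸ ha))
      (fun i hi => hchain (i + 1) (by simp; omega)) hnext hF'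
    refine ⟨?_, fun h => ?_⟩
    · show Follows g (S ||| (1 <<< s ||| bitsOf l)) (extMap q l (app q w) (Nat.lor P (Nat.shiftLeft w (5 * s))))
      rw [← Nat.lor_assoc]
      exact h1
    · rcases Nat.eq_zero_or_pos l.length with hl | hl
      · obtain rfl : l = [] := List.length_eq_zero_iff.1 hl
        show app q w = _
        rw [hw', ← idx_toPerm hq, ← hcomm]
        rfl
      · refine (h2 hl).trans ?_
        congr 4
        refine congrArg pt (Fin.ext ?_)
        simp only [List.length_cons]
        rw [List.getElem_cons]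
        rw [dif_neg (by omega)]
        congr 1

theorem maskOf_smul_agree {g : Equiv.Perm GolayPt} {S P : ℕ} (h : AgreeOn S P g) {o : ℕ} (ho : Nat.land o S = o) :
    maskOf (g • setOf o) = img P o := by
  have hsub : ∀ i : Fin 24, o.testBit i = true → S.testBit i = true := fun i hi => by
    change o &&& S = o at ho
    rw [← ho, Nat.testBit_and, Bool.and_eq_true] at hi
    exact hi.2
  have hlt : img P o < 2 ^ 24 := by
    refine Nat.lt_pow_two_of_testBit _ fun j hj => ?_
    by_contra hb
    obtain ⟨i, hi, he⟩ := (testBit_img _ _ _).1 (by simpa using hb)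
    rw [h i (hsub i hi)] at he
    have := (idx (g (pt i))).isLt
    omega
  refine eq_of_testBit24 (maskOf_lt _) hlt fun j => ?_
  rw [Bool.eq_iff_iff, testBit_maskOf, decide_eq_true_eq, testBit_img, Finset.mem_smul_finset]
  constructor
  · rintro ⟨x, hx, he⟩
    refine ⟨idx x, mem_setOf.1 hx, ?_⟩
    rw [h _ (hsub _ (mem_setOf.1 hx)), pt_idx, ← Equiv.Perm.smul_def, he, idx_pt]
  · rintro ⟨i, hi, he⟩
    refine ⟨pt i, mem_setOf.2 (by simpa using hi), idx_inj.1 (Fin.ext ?_)⟩
    rw [Equiv.Perm.smul_def, ← h i (hsub i hi), he, idx_pt]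

theorem stepOk_true {g : Equiv.Perm GolayPt} (hg : g ∈ M24) {q : ℕ} {lv : List ℕ × List ℕ} {S P T w : ℕ}
    (hF : AgreeOn (Nat.lor S (bitsOf lv.1)) (extMap q lv.1 w P) g) (hT : T.testBit w = false)
    (hl : lastOf q lv.1 w = w)
    (ho : ∀ o ∈ lv.2, Nat.land o (Nat.lor S (bitsOf lv.1)) = o ∧ isOct o = true) :
    stepOk q lv S P T w = true := by
  simp only [stepOk, hT, cond_false, hl]
  rw [show Nat.beq w w = true from Nat.beq_refl w, cond_true]
  have hpop : Nat.beq (pop24 (img (extMap q lv.1 w P) (Nat.lor S (bitsOf lv.1))))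
      (pop24 (Nat.lor S (bitsOf lv.1))) = true := by
    rw [Nat.beq_eq, ← maskOf_smul_agree hF (Nat.and_self _), ← card_eq_pop24, Finset.card_smul_finset, card_setOf]
  have hoct : ∀ o ∈ lv.2, (inCode (img (extMap q lv.1 w P) o) &&
      Nat.beq (pop24 (img (extMap q lv.1 w P) o)) 8) = true := by
    intro o hmem
    obtain ⟨h1, h2⟩ := ho o hmem
    have h8 := smul_mem_octads hg (setOf_mem_octads h2)
    rw [Bool.and_eq_true, Nat.beq_eq, ← maskOf_smul_agree hF h1, ← card_eq_pop24]
    exact ⟨mem_supports_iff_inCode.1 h8.1, h8.2⟩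
  generalize lv.2 = L at hoct
  induction L with
  | nil => exact hpop
  | cons o L ih =>
    show cond _ _ false = true
    rw [hoct o (by simp), cond_true]
    exact ih fun a ha => hoct a (List.mem_cons_of_mem _ ha)

theorem card_le_sumStep {y q : ℕ} (hy : validP y = true) (hq : validP q = true) {lv : List ℕ × List ℕ}
    {S P : ℕ} (hsrc : srcOk y S lv.1 = true) {rest : ℕ → ℕ → ℕ}
    (ho : ∀ o ∈ lv.2, Nat.land o (Nat.lor S (bitsOf lv.1)) = o ∧ isOct o = true)
    (hrest : ∀ (P' : ℕ) (A : Finset (Equiv.Perm GolayPt)), (∀ g ∈ A, g ∈ M24 ∧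
      (∀ x, g (toPerm y x) = toPerm q (g x)) ∧ Follows g (Nat.lor S (bitsOf lv.1)) P') →
      A.card ≤ rest (Nat.lor S (bitsOf lv.1)) P') :
    ∀ (ws : List ℕ) (A : Finset (Equiv.Perm GolayPt)), (∀ g ∈ A, g ∈ M24 ∧
      (∀ x, g (toPerm y x) = toPerm q (g x)) ∧ Follows g S P ∧
      ∃ h : lv.1.getD 0 0 < 24, (idx (g (pt ⟨_, h⟩)) : ℕ) ∈ ws) →
      A.card ≤ sumStep q lv rest ws S P := by
  classical
  simp only [srcOk, Bool.and_eq_true, List.all_eq_true, Nat.blt_eq, Bool.not_eq_true', decide_eq_true_eq,
    List.mem_range, beq_iff_eq] at hsrc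
  obtain ⟨⟨⟨hall, hnd⟩, hne⟩, hchain⟩ := hsrc
  have hpos : 0 < lv.1.length := List.length_pos_iff.2 (by simpa using hne)
  intro ws
  induction ws with
  | nil =>
    intro A hA
    rw [Finset.eq_empty_of_forall_notMem (s := A) fun g hg => by simpa using (hA g hg).2.2.2.2]
    simp
  | cons w ws ih =>
    intro A hA
    show A.card ≤ cond (stepOk q lv S P (img P S) w) (rest (Nat.lor S (bitsOf lv.1)) (extMap q lv.1 w P)) 0 +
      sumStep q lv rest ws S P
    have h0 : lv.1.getD 0 0 < 24 := by
      rw [List.getD_eq_getElem _ _ hpos]; exact (hall _ (List.getElem_mem _)).1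
    rw [← Finset.card_filter_add_card_filter_not (s := A)
      fun g : Equiv.Perm GolayPt => (idx (g (pt ⟨lv.1.getD 0 0, h0⟩)) : ℕ) = w]
    refine Nat.add_le_add ?_ (ih _ fun g hg => ?_)
    · rcases (A.filter fun g : Equiv.Perm GolayPt => (idx (g (pt ⟨lv.1.getD 0 0, h0⟩)) : ℕ) = w).eq_empty_or_nonempty
        with he | ⟨g, hg⟩
      · rw [he]; simp
      have key : ∀ g ∈ A.filter fun g : Equiv.Perm GolayPt => (idx (g (pt ⟨lv.1.getD 0 0, h0⟩)) : ℕ) = w,
          g ∈ M24 ∧ (∀ x, g (toPerm y x) = toPerm q (g x)) ∧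
            Follows g (Nat.lor S (bitsOf lv.1)) (extMap q lv.1 w P) ∧
            stepOk q lv S P (img P S) w = true := by
        intro g hg
        obtain ⟨hgA, hgw⟩ := Finset.mem_filter.1 hg
        obtain ⟨hgM, hgc, hgF, -⟩ := hA g hgA
        obtain ⟨hF, hlast⟩ := extMap_follows hy hq hgc lv.1 S P w (fun s hs => (hall s hs).1) hnd
          (fun s hs => (hall s hs).2)
          (fun i hi => by
            have := hchain i (by omega)
            rwa [List.getD_eq_getElem _ _ (by omega : i < lv.1.length), Nat.mod_eq_of_lt hi,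
              List.getD_eq_getElem _ _ hi] at this)
          (fun h => by
            rw [← hgw]
            congr 3
            exact congrArg pt (Fin.ext (List.getD_eq_getElem _ _ h)))
          hgF
        refine ⟨hgM, hgc, hF, stepOk_true hgM hF.agree ?_ ?_ ho⟩
        · by_contra hb
          rw [Bool.not_eq_false] at hb
          rw [← maskOf_smul_agree hgF.agree (Nat.and_self S), ← hgw, testBit_maskOf, decide_eq_true_eq, pt_idx,
            ← Equiv.Perm.smul_def, Finset.smul_mem_smul_finset_iff, mem_setOf, idx_pt] at hb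
          have := (hall (lv.1.getD 0 0) (by rw [List.getD_eq_getElem _ _ hpos]; exact List.getElem_mem _)).2
          exact Bool.false_ne_true (this.symm.trans hb)
        · rw [hlast hpos]
          refine Eq.trans ?_ hgw
          congr 3
          refine idx_inj.1 (Fin.ext ?_)
          rw [idx_toPerm hy, idx_pt, idx_pt]
          have := hchain (lv.1.length - 1) (by omega)
          rw [List.getD_eq_getElem _ _ (by omega : lv.1.length - 1 < lv.1.length),
            show lv.1.length - 1 + 1 = lv.1.length by omega, Nat.mod_self] at this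
          exact this
      rw [(key g hg).2.2.2, cond_true]
      exact hrest _ _ fun g hg => ⟨(key g hg).1, (key g hg).2.1, (key g hg).2.2.1⟩
    · obtain ⟨hgA, hgw⟩ := Finset.mem_filter.1 hg
      obtain ⟨a, b, c, h, hmem⟩ := hA g hgA
      exact ⟨a, b, c, h, (List.mem_cons.1 hmem).resolve_left hgw⟩

theorem card_le_countMaps {y q : ℕ} (hy : validP y = true) (hq : validP q = true) {st : List (List ℕ)} :
    ∀ (L : List (List ℕ × List ℕ)) (S P : ℕ), levelsOk y st L S = true →
      ∀ A : Finset (Equiv.Perm GolayPt), (∀ g ∈ A, g ∈ M24 ∧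
        (∀ x, g (toPerm y x) = toPerm q (g x)) ∧ Follows g S P) → A.card ≤ countMaps q L S P := by
  intro L
  induction L with
  | nil =>
    intro S P hok A hA
    show A.card ≤ 1
    refine Finset.card_le_one.2 fun g hg g' hg' => ?_
    obtain ⟨hgM, -, hgF⟩ := hA g hg
    obtain ⟨hgM', -, hgF'⟩ := hA g' hg'
    refine (inv_mul_eq_one.1 (eq_one_of_stages (M24.mul_mem (M24.inv_mem hgM) hgM') st S hok fun x hx => ?_))
    have e : g x = g' x := by
      refine idx_inj.1 (Fin.ext ?_)
      have h1 := hgF.agree (idx x) (mem_setOf.1 hx)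
      have h2 := hgF'.agree (idx x) (mem_setOf.1 hx)
      rw [pt_idx] at h1 h2
      rw [← h1, h2]
    rw [Equiv.Perm.mul_apply, ← e, Equiv.Perm.coe_inv, Equiv.symm_apply_apply]
  | cons lv L ih =>
    intro S P hok A hA
    simp only [levelsOk, Bool.and_eq_true, List.all_eq_true, beq_iff_eq] at hok
    have h0 : lv.1.getD 0 0 < 24 := by
      rcases hl : lv.1 with _ | ⟨a, l⟩
      · norm_num
      · have h := hok.1.1
        rw [hl] at h
        simp only [srcOk, Bool.and_eq_true, List.all_eq_true, Nat.blt_eq] at h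
        exact (h.1.1.1 a (by simp)).1
    show A.card ≤ sumStep q lv (countMaps q L) (List.range 24) S P
    exact card_le_sumStep (rest := countMaps q L) hy hq hok.1.1 hok.1.2 (fun P' A' hA' => ih _ P' hok.2 A' hA')
      (List.range 24) A
      fun g hg => ⟨(hA g hg).1, (hA g hg).2.1, (hA g hg).2.2, h0, List.mem_range.2 (idx _).isLt⟩

/-- The total over the powers and the representatives of the images of the first position. -/
noncomputable def normTotal (y n : ℕ) (lv : List ℕ × List ℕ) (L : List (List ℕ × List ℕ)) (ws : List ℕ)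
    (S P : ℕ) : ℕ :=
  List.rec (motive := fun _ => ℕ) 0
    (fun k _ r => Nat.add ((fun q => sumStep q lv (countMaps q L) ws S P) (powP y (k + 1))) r) (List.range n)

/-- The well-formedness of a normaliser certificate. -/
def normOk (y : ℕ) (st : List (List ℕ)) (lv : List ℕ × List ℕ) (L : List (List ℕ × List ℕ))
    (ws : List ℕ) (S P : ℕ) : Bool :=
  inM24 y && levelsOk y st (lv :: L) S &&
    (List.range 24).all (fun i => (app P i == if S.testBit i then i else 0)) &&
    (List.range 24).all (fun i => !S.testBit i || app y i == i) &&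
    !(app y (lv.1.getD 0 0) == lv.1.getD 0 0) &&
    (List.range 24).all fun w => S.testBit w || !(lastOf y lv.1 w == w) || app y w == w ||
      (List.range lv.1.length).any fun j => ws.contains (lastOf y (List.replicate j 0) w)

/-- At most `|src| * total` elements of M24 fixing the base normalise the group of `y`. -/
theorem card_normaliser_le {y n : ℕ} {st : List (List ℕ)} {lv : List ℕ × List ℕ}
    {L : List (List ℕ × List ℕ)} {ws : List ℕ} {S P : ℕ} (hok : normOk y st lv L ws S P = true)
    (A : Finset (Equiv.Perm GolayPt)) (hA : ∀ g ∈ A, g ∈ M24 ∧ FixesMask g S ∧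
      ∃ k < n, g * toPerm y * g⁻¹ = toPerm y ^ (k + 1)) :
    A.card ≤ lv.1.length * normTotal y n lv L ws S P := by
  classical
  simp only [normOk, Bool.and_eq_true, List.all_eq_true, List.mem_range, beq_iff_eq, Bool.or_eq_true,
    Bool.not_eq_true', beq_eq_false_iff_ne, List.any_eq_true, List.contains_iff_mem] at hok
  obtain ⟨⟨⟨⟨⟨hyM, hlev⟩, hP⟩, hyS⟩, hymove⟩, hcov⟩ := hok
  have hyv := valid_of_inM24 hyM
  simp only [levelsOk, Bool.and_eq_true, List.all_eq_true, beq_iff_eq] at hlev
  have hs0 : lv.1.getD 0 0 < 24 ∧ S.testBit (lv.1.getD 0 0) = false ∧ 0 < lv.1.length ∧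
      lastOf y lv.1 (lv.1.getD 0 0) = lv.1.getD 0 0 := by
    have hsrc := hlev.1.1
    simp only [srcOk, Bool.and_eq_true, List.all_eq_true, Nat.blt_eq, Bool.not_eq_true', decide_eq_true_eq,
      List.mem_range, beq_iff_eq] at hsrc
    obtain ⟨⟨⟨hall, hnd⟩, hne⟩, hchain⟩ := hsrc
    have hpos : 0 < lv.1.length := List.length_pos_iff.2 (by simpa using hne)
    have hm : lv.1.getD 0 0 ∈ lv.1 := by rw [List.getD_eq_getElem _ _ hpos]; exact List.getElem_mem _
    refine ⟨(hall _ hm).1, (hall _ hm).2, hpos, ?_⟩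
    have hF0 : Follows (1 : Equiv.Perm GolayPt) S P := ⟨fun i hi => by
      rw [hP i i.isLt, if_pos hi, Equiv.Perm.one_apply, idx_pt], fun t ht h => by rw [hP t ht, h]; simp⟩
    obtain ⟨-, hlast⟩ := extMap_follows hyv hyv (g := 1) (fun x => rfl) lv.1 S P (lv.1.getD 0 0)
      (fun s hs => (hall s hs).1) hnd (fun s hs => (hall s hs).2)
      (fun i hi => by
        have := hchain i (by omega)
        rwa [List.getD_eq_getElem _ _ (by omega : i < lv.1.length), Nat.mod_eq_of_lt hi,
          List.getD_eq_getElem _ _ hi] at this)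
      (fun h => by rw [Equiv.Perm.one_apply, idx_pt]; exact List.getD_eq_getElem _ _ h) hF0
    rw [hlast hpos, Equiv.Perm.one_apply, idx_toPerm hyv, idx_pt]
    have := hchain (lv.1.length - 1) (by omega)
    rwa [List.getD_eq_getElem _ _ (by omega : lv.1.length - 1 < lv.1.length),
      show lv.1.length - 1 + 1 = lv.1.length by omega, Nat.mod_self] at this
  obtain ⟨hs24, hsS, hpos, hper⟩ := hs0
  have hpow : ∀ (l : List ℕ) (w : ℕ) (hw : w < 24),
      lastOf y l w = (idx ((toPerm y ^ l.length) (pt ⟨w, hw⟩)) : ℕ) := by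
    intro l
    induction l with
    | nil => intro w hw; simp [lastOf, idx_pt]
    | cons a l ih =>
      intro w hw
      show lastOf y l (app y w) = _
      rw [ih _ (app_lt hyv ⟨w, hw⟩), List.length_cons, pow_succ, Equiv.Perm.mul_apply]
      congr 3
      refine idx_inj.1 (Fin.ext ?_)
      rw [idx_toPerm hyv, idx_pt, idx_pt]
  set z : GolayPt := pt ⟨lv.1.getD 0 0, hs24⟩
  have hzper : (toPerm y ^ lv.1.length) z = z := by
    refine idx_inj.1 (Fin.ext ?_)
    rw [← hpow _ _ hs24, hper, idx_pt]
  -- move every element to one with image of `z` among the representatives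
  have hmove : ∀ g ∈ A, ∃ j < lv.1.length,
      (idx ((toPerm y ^ j) (g z)) : ℕ) ∈ ws := by
    intro g hg
    obtain ⟨hgM, hgS, k, -, hk⟩ := hA g hg
    have hc : g * toPerm y ^ lv.1.length * g⁻¹ = (toPerm y ^ lv.1.length) ^ (k + 1) := by
      rw [← conj_pow, hk, ← pow_mul, ← pow_mul, mul_comm]
    have hgz : (toPerm y ^ lv.1.length) (g z) = g z := by
      -- the conjugate fixes `g z`, and generates the same group
      have h1 : ((toPerm y ^ lv.1.length) ^ (k + 1)) (g z) = g z := by
        rw [← hc]; simp [hzper]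
      obtain ⟨j, hj⟩ : ∃ j : ℕ, toPerm y ^ lv.1.length = ((toPerm y ^ lv.1.length) ^ (k + 1)) ^ j := by
        have hord : orderOf ((toPerm y ^ lv.1.length) ^ (k + 1)) = orderOf (toPerm y ^ lv.1.length) := by
          rw [← hc]; exact (MulAut.conj g).orderOf_eq _
        have hmem : toPerm y ^ lv.1.length ∈ Submonoid.powers ((toPerm y ^ lv.1.length) ^ (k + 1)) := by
          rw [mem_powers_iff_mem_zpowers]
          have he : Subgroup.zpowers ((toPerm y ^ lv.1.length) ^ (k + 1)) = Subgroup.zpowers (toPerm y ^ lv.1.length) :=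
            Subgroup.eq_of_le_of_card_ge (Subgroup.zpowers_le.2 (Subgroup.pow_mem _ (Subgroup.mem_zpowers _) _))
              (by rw [Nat.card_zpowers, Nat.card_zpowers, hord])
          rw [he]; exact Subgroup.mem_zpowers _
        obtain ⟨j, hj⟩ := hmem
        exact ⟨j, hj.symm⟩
      rw [hj]
      exact MulAction.mem_stabilizer_iff.1 (Subgroup.pow_mem _
        (show _ ∈ MulAction.stabilizer (Equiv.Perm GolayPt) (g z) from h1) j)
    have hS' : S.testBit (idx (g z)) = false := by
      by_contra hb
      rw [Bool.not_eq_false] at hb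
      have h1 : g (g z) = g z := hgS _ (mem_setOf.2 hb)
      rw [g.injective h1, idx_pt] at hb
      exact Bool.false_ne_true (hsS.symm.trans hb)
    rcases hcov (idx (g z)) (idx _).isLt with ((h | h) | h) | ⟨j, hj, hjw⟩
    · rw [hS'] at h; exact absurd h Bool.false_ne_true
    · refine absurd ?_ h
      rw [hpow _ _ (idx (g z)).isLt, Fin.eta, pt_idx, hgz]
    · exfalso
      have h1 : toPerm y (g z) = g z := idx_inj.1 (Fin.ext ((idx_toPerm hyv _).trans h))
      have h2 : (toPerm y ^ (k + 1)) (g z) = g z :=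
        MulAction.mem_stabilizer_iff.1 (Subgroup.pow_mem _
          (show toPerm y ∈ MulAction.stabilizer (Equiv.Perm GolayPt) (g z) from h1) _)
      rw [← hk] at h2
      simp only [Equiv.Perm.mul_apply, Equiv.Perm.coe_inv, Equiv.symm_apply_apply] at h2
      refine hymove ?_
      have h3 := congrArg (fun x => (idx x : ℕ)) (g.injective h2)
      simpa [z, idx_toPerm hyv] using h3
    · refine ⟨j, hj, ?_⟩
      rw [hpow _ _ (idx (g z)).isLt, List.length_replicate, Fin.eta, pt_idx] at hjw
      exact hjw
  choose! J hJ hJw using hmove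
  set B : Finset (Equiv.Perm GolayPt) := A.image fun g => toPerm y ^ J g * g
  have hyfix : ∀ j, ∀ x ∈ setOf S, (toPerm y ^ j) x = x := fun j x hx => by
    have h1 : toPerm y x = x := by
      refine idx_inj.1 (Fin.ext ?_)
      rw [idx_toPerm hyv]
      exact (hyS _ (idx x).isLt).resolve_left (by rw [mem_setOf.1 hx]; simp)
    exact MulAction.mem_stabilizer_iff.1 (Subgroup.pow_mem _
      (show toPerm y ∈ MulAction.stabilizer (Equiv.Perm GolayPt) x from h1) j)
  have hB : ∀ g ∈ B, g ∈ M24 ∧ FixesMask g S ∧ (idx (g z) : ℕ) ∈ ws ∧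
      ∃ k < n, g * toPerm y * g⁻¹ = toPerm y ^ (k + 1) := by
    intro h hh
    obtain ⟨g, hg, rfl⟩ := Finset.mem_image.1 hh
    obtain ⟨hgM, hgS, k, hk, he⟩ := hA g hg
    refine ⟨M24.mul_mem (Subgroup.pow_mem _ (toPerm_mem_M24 hyM) _) hgM, fun x hx => ?_, hJw g hg, k, hk, ?_⟩
    · rw [Equiv.Perm.mul_apply, hgS x hx, hyfix _ x hx]
    · calc toPerm y ^ J g * g * toPerm y * (toPerm y ^ J g * g)⁻¹
          = toPerm y ^ J g * (g * toPerm y * g⁻¹) * (toPerm y ^ J g)⁻¹ := by group
        _ = toPerm y ^ (k + 1) := by rw [he, ← pow_add, add_comm, pow_add]; group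
  have hAB : A.card ≤ lv.1.length * B.card := by
    calc A.card ≤ (Finset.range lv.1.length ×ˢ B).card :=
          Finset.card_le_card_of_injOn (fun g => (J g, toPerm y ^ J g * g))
            (fun g hg => Finset.mem_product.2 ⟨Finset.mem_range.2 (hJ g hg), Finset.mem_image_of_mem _ hg⟩)
            fun g hg g' hg' e => by
              obtain ⟨e1, e2⟩ := Prod.ext_iff.1 e
              simp only at e1 e2
              rw [e1] at e2
              exact mul_left_cancel e2
      _ = _ := by rw [Finset.card_product, Finset.card_range]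
  refine hAB.trans (Nat.mul_le_mul_left _ ?_)
  have hsum : ∀ (ks : List ℕ) (C : Finset (Equiv.Perm GolayPt)),
      (∀ g ∈ C, g ∈ M24 ∧ FixesMask g S ∧ (idx (g z) : ℕ) ∈ ws ∧
        ∃ k ∈ ks, g * toPerm y * g⁻¹ = toPerm y ^ (k + 1)) →
      C.card ≤ List.rec (motive := fun _ => ℕ) 0
        (fun k _ r => Nat.add ((fun q => sumStep q lv (countMaps q L) ws S P) (powP y (k + 1))) r) ks := by
    intro ks
    induction ks with
    | nil =>
      intro C hC
      rw [Finset.eq_empty_of_forall_notMem (s := C) fun g hg => by simpa using (hC g hg).2.2.2]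
      simp
    | cons k ks ih =>
      intro C hC
      show C.card ≤ sumStep (powP y (k + 1)) lv (countMaps (powP y (k + 1)) L) ws S P + _
      rw [← Finset.card_filter_add_card_filter_not (s := C)
        fun g : Equiv.Perm GolayPt => g * toPerm y * g⁻¹ = toPerm y ^ (k + 1)]
      refine Nat.add_le_add ?_ (ih _ fun g hg => ?_)
      · obtain ⟨hqv, hqp⟩ := toPerm_powP hyv k
        refine card_le_sumStep hyv hqv hlev.1.1 hlev.1.2
          (fun P' A' hA' => card_le_countMaps hyv hqv L _ P' hlev.2 A' hA') ws _ fun g hg => ?_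
        obtain ⟨hgC, hgk⟩ := Finset.mem_filter.1 hg
        obtain ⟨hgM, hgS, hgw, -⟩ := hC g hgC
        refine ⟨hgM, fun x => ?_, ⟨fun i hi => ?_, fun t ht h => by rw [hP t ht, h]; simp⟩, hs24, hgw⟩
        · rw [hqp, ← hgk]; simp
        · rw [hP i i.isLt, if_pos hi, hgS _ (mem_setOf.2 (by rwa [idx_pt])), idx_pt]
      · obtain ⟨hgC, hgk⟩ := Finset.mem_filter.1 hg
        obtain ⟨a, b, c, k', hk', he⟩ := hC g hgC
        rcases List.mem_cons.1 hk' with rfl | hk'
        · exact absurd he hgk
        · exact ⟨a, b, c, k', hk', he⟩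
  exact hsum _ B fun g hg => by
    obtain ⟨a, b, c, k, hk, he⟩ := hB g hg
    exact ⟨a, b, c, k, List.mem_range.2 hk, he⟩

end

end Cfsg.Agent.Golay24
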