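import Cfsg.Agent.Lib.Golay.InvolutionLocal
import Cfsg.Agent.Lib.Golay.OctCentData
import Cfsg.Agent.Lib.BigExtra.Criteria
import Cfsg.Agent.Lib.PermGp.CleanEight

/-!
The centraliser of an involution fixing an octad: a large extraspecial group of order `2^7`
extended by `SL₃(2)`.
-/

set_option autoImplicit false

namespace Cfsg.Agent.Golay24.OctCent

noncomputable section

open Cfsg
open Cfsg.Agent.Golay24.ListGroup
open scoped Pointwise commutatorElement

attribute [local irreducible] weightList codeList combTo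

abbrev SL32 := Matrix.SpecialLinearGroup (Fin 3) (ZMod 2)

theorem zRep_ok : (inM24 zRep && sqB zRep && !isIdP zRep && isOct m24Octad &&
    (List.range 24).all fun i => (app zRep i == i) == Nat.testBit m24Octad i) = true := by
  decide +kernel

/-- Squares in `{1, z}`, the generators commute with `z`, and a non-central element fails to
commute with some generator. -/
theorem rad_ok : (radCert.ok && (radCert.elems.length == 128) && radCert.elems.contains zRep &&
    radCert.gens.all (fun g => compP g zRep == compP zRep g) &&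
    radCert.elems.all (fun x => isIdP (compP x x) || (compP x x == zRep)) &&
    radCert.elems.all (fun x => isIdP x || (x == zRep) ||
      radCert.gens.any fun g => !(compP x g == compP g x))) = true := by decide +kernel

theorem lev_ok : (levCert.ok && (levCert.elems.length == 168) &&
    levCert.gens.all (fun g => compP g zRep == compP zRep g) &&
    levCert.elems.all (fun x => isIdP x || !radCert.elems.contains x) &&
    levCert.gens.all (fun k => radCert.gens.all fun g =>
      radCert.elems.any fun x => compP k g == compP x k)) = true := by decide +kernel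

theorem moves_ok : ((zMoves.length == 15) && decide (zMoves.map Prod.snd).Nodup &&
    zMoves.all (fun p => inM24 p.1 && validP p.2 && (compP p.2 idP == p.2) &&
      (img p.1 m24Octad == m24Octad) && (compP p.1 zRep == compP p.2 p.1))) = true := by
  decide +kernel

theorem table_ok : (∀ g : Fin 2,
      levCert.elems.getD (levGenPos.getD g 0) 0 = levCert.gens.getD g 0) ∧
    ∀ g : Fin 2, ∀ i : Fin 168, (levStep.getD g []).getD i 0 < 168 ∧
      compP (levCert.gens.getD g 0) (levCert.elems.getD i 0) =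
        levCert.elems.getD ((levStep.getD g []).getD i 0) 0 := by
  decide +kernel

/-! ### Matrices -/

def bitZ (n k : ℕ) : ZMod 2 := if Nat.testBit n k then 1 else 0

def mat (n : ℕ) : Matrix (Fin 3) (Fin 3) (ZMod 2) :=
  Matrix.of fun a b => bitZ n (3 * a + b)

def det3 (n : ℕ) : ZMod 2 :=
  bitZ n 0 * bitZ n 4 * bitZ n 8 - bitZ n 0 * bitZ n 5 * bitZ n 7 - bitZ n 1 * bitZ n 3 * bitZ n 8 +
    bitZ n 1 * bitZ n 5 * bitZ n 6 + bitZ n 2 * bitZ n 3 * bitZ n 7 - bitZ n 2 * bitZ n 4 * bitZ n 6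

theorem det_mat (n : ℕ) : (mat n).det = det3 n := by
  rw [Matrix.det_fin_three]
  simp [mat, det3]

theorem mat_ok : (∀ i : Fin 168, det3 (levMat.getD i 0) = 1) ∧ levMat.Nodup ∧
    levMat.length = 168 ∧ (∀ n ∈ levMat, n < 512) ∧ levMat.getD 0 0 = 273 := by decide +kernel

theorem mat_step : ∀ g : Fin 2, ∀ i : Fin 168, ∀ a b : Fin 3,
    bitZ (levMat.getD (levGenPos.getD g 0) 0) (3 * a) * bitZ (levMat.getD i 0) b +
      bitZ (levMat.getD (levGenPos.getD g 0) 0) (3 * a + 1) * bitZ (levMat.getD i 0) (3 + b) +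
      bitZ (levMat.getD (levGenPos.getD g 0) 0) (3 * a + 2) * bitZ (levMat.getD i 0) (6 + b) =
    bitZ (levMat.getD ((levStep.getD g []).getD i 0) 0) (3 * a + b) := by decide +kernel

def matSL (i : Fin 168) : SL32 :=
  ⟨mat (levMat.getD i 0), by rw [det_mat]; exact mat_ok.1 i⟩

theorem matSL_injective : Function.Injective matSL := by
  intro i j h
  obtain ⟨-, hnd, hlen, hlt, -⟩ := mat_ok
  have h' : mat (levMat.getD i 0) = mat (levMat.getD j 0) := congrArg Subtype.val h
  have hi : (i : ℕ) < levMat.length := by rw [hlen]; exact i.isLt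
  have hj : (j : ℕ) < levMat.length := by rw [hlen]; exact j.isLt
  rw [List.getD_eq_getElem _ _ hi, List.getD_eq_getElem _ _ hj] at h'
  refine Fin.ext ((hnd.getElem_inj_iff (hi := hi) (hj := hj)).1 (Nat.eq_of_testBit_eq fun k => ?_))
  by_cases hk : k < 9
  · have := congrFun (congrFun h' ⟨k / 3, by omega⟩) ⟨k % 3, Nat.mod_lt _ (by norm_num)⟩
    simp only [mat, Matrix.of_apply, bitZ] at this
    rw [Nat.div_add_mod] at this
    revert this
    cases levMat[(i : ℕ)].testBit k <;> cases levMat[(j : ℕ)].testBit k <;> simp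
  · have hb : ∀ n ∈ levMat, n.testBit k = false := fun n hn =>
      Nat.testBit_lt_two_pow (lt_of_lt_of_le (hlt n hn)
        (show (512 : ℕ) ≤ 2 ^ k from le_trans (by norm_num : (512 : ℕ) ≤ 2 ^ 9)
          (Nat.pow_le_pow_right (by norm_num) (by omega))))
    rw [hb _ (List.getElem_mem hi), hb _ (List.getElem_mem hj)]

theorem matSL_bijective : Function.Bijective matSL := by
  classical
  refine matSL_injective.bijective_of_nat_card_le ?_
  let T : SL32 →* GL (Fin 3) (ZMod 2) := Matrix.SpecialLinearGroup.toGL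
  have hinj : Function.Injective T := fun a b hab => Subtype.ext (congrArg Units.val hab)
  refine le_trans (Nat.card_le_card_of_injective T hinj) ?_
  rw [Matrix.card_GL_field, Fin.prod_univ_three]
  simp

theorem matSL_zero : matSL 0 = 1 := by
  refine Subtype.ext ?_
  ext a b
  show mat (levMat.getD 0 0) a b = _
  rw [mat_ok.2.2.2.2]
  fin_cases a <;> fin_cases b <;> rfl

theorem matSL_mul (g : Fin 2) (p : Fin 168) (hp : (p : ℕ) = levGenPos.getD g 0) (i j : Fin 168)
    (hj : (j : ℕ) = (levStep.getD g []).getD i 0) : matSL p * matSL i = matSL j := by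
  refine Subtype.ext ?_
  ext a b
  show (mat (levMat.getD p 0) * mat (levMat.getD i 0)) a b = mat (levMat.getD j 0) a b
  rw [hp, hj, Matrix.mul_apply, Fin.sum_univ_three]
  simpa [mat] using mat_step g i a b

instance : IsSimpleGroup SL32 := by
  have hc : Subgroup.center SL32 = ⊥ := by
    refine eq_bot_iff.2 fun A hA => ?_
    obtain ⟨r, hr, hrA⟩ := Matrix.SpecialLinearGroup.mem_center_iff.1 hA
    have hr1 : r = 1 := by
      clear hrA
      revert hr
      rw [Fintype.card_fin]
      revert r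
      decide
    rw [Subgroup.mem_bot]
    refine Subtype.ext ?_
    rw [← hrA, hr1, map_one]
    rfl
  haveI : IsSimpleGroup (Matrix.ProjectiveSpecialLinearGroup (Fin 3) (ZMod 2)) :=
    LinGrp.isSimpleGroup_PSL (by simp)
  exact ((QuotientGroup.quotientMulEquivOfEq hc).trans
    QuotientGroup.quotientBot).symm.isSimpleGroup

/-! ### The representative -/

/-- The octad. -/
abbrev oStd : Finset GolayPt := setOf m24Octad

/-- The involution. -/
abbrev zStd : Equiv.Perm GolayPt := toPerm zRep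

theorem zStd_spec : zStd ∈ M24 ∧ orderOf zStd = 2 ∧ oStd ∈ octads ∧
    (∀ x, zStd x = x ↔ x ∈ oStd) := by
  have h := zRep_ok
  simp only [Bool.and_eq_true, List.all_eq_true, List.mem_range, beq_iff_eq,
    Bool.not_eq_true'] at h
  obtain ⟨⟨⟨⟨hz, hsq⟩, hne⟩, hoct⟩, hfix⟩ := h
  have hv := valid_of_inM24 hz
  have hiff : ∀ x, zStd x = x ↔ x ∈ oStd := fun x => by
    rw [mem_setOf, ← hfix (idx x) (idx x).isLt, beq_iff_eq, ← idx_toPerm hv, ← Fin.ext_iff, idx_inj]
  refine ⟨toPerm_mem_M24 hz, orderOf_eq_prime ((sqB_iff hv).1 hsq) fun e => ?_, ?_, hiff⟩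
  · have : isIdP zRep = true := by
      simp only [isIdP, List.all_eq_true, List.mem_range, beq_iff_eq]
      intro i hi
      have := idx_toPerm hv (pt ⟨i, hi⟩)
      rw [show toPerm zRep = 1 from e] at this
      simpa using this.symm
    rw [this] at hne
    exact Bool.false_ne_true hne.symm
  · rw [mem_octads_iff, maskOf_setOf (by decide +kernel)]
    decide +kernel

theorem fixCount_zStd : fixCount zStd = 8 := by
  obtain ⟨-, -, ho, hfix⟩ := zStd_spec
  rw [fixCount, show (Finset.univ.filter fun x => zStd x = x) = oStd by ext x; simp [hfix]]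
  exact ho.2

/-- The normal subgroup. -/
abbrev radGrp : Subgroup (Equiv.Perm GolayPt) := radCert.grp

/-- The complement. -/
abbrev levGrp : Subgroup (Equiv.Perm GolayPt) := levCert.grp

theorem zRep_facts : validP zRep = true := valid_of_inM24 (by
  have h := zRep_ok
  simp only [Bool.and_eq_true] at h
  exact h.1.1.1.1)

theorem grp_le {c : ListCert} (h : c.ok = true) (hz : ∀ g ∈ c.gens, compP g zRep = compP zRep g) :
    c.grp ≤ M24 ⊓ Subgroup.centralizer {zStd} := by
  simp only [ListCert.ok, Bool.and_eq_true, List.all_eq_true] at h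
  rw [ListCert.grp, Subgroup.closure_le]
  rintro _ ⟨g, hg, rfl⟩
  have hv := valid_of_inM24 (h.1.1.1.1.1 g hg)
  refine ⟨toPerm_mem_M24 (h.1.1.1.1.1 g hg), Subgroup.mem_centralizer_singleton_iff.2 ?_⟩
  rw [← toPerm_compP hv zRep_facts, hz g hg, toPerm_compP zRep_facts hv]

theorem card_upper : Nat.card ↥(M24 ⊓ Subgroup.centralizer {zStd}) ≤ 21504 := by
  obtain ⟨-, -, ho, hfix⟩ := zStd_spec
  set C := M24 ⊓ Subgroup.centralizer {zStd}
  have h := moves_ok
  simp only [Bool.and_eq_true, List.all_eq_true, beq_iff_eq, decide_eq_true_eq] at h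
  obtain ⟨⟨hlen, hnd⟩, hall⟩ := h
  have hC : ∀ c : C, (c : Equiv.Perm GolayPt) ∈ octStab oStd := fun c => by
    refine ⟨c.2.1, Finset.eq_of_subset_of_card_le (fun y hy => ?_)
      (le_of_eq (Finset.card_smul_finset _ _).symm)⟩
    obtain ⟨w, hw, rfl⟩ := Finset.mem_smul_finset.1 hy
    rw [Equiv.Perm.smul_def, ← hfix, ← Equiv.Perm.mul_apply,
      ← Subgroup.mem_centralizer_singleton_iff.1 c.2.2, Equiv.Perm.mul_apply, (hfix w).2 hw]
  have hget : ∀ i : Fin 15, (i : ℕ) < zMoves.length := fun i => by rw [hlen]; exact i.isLt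
  let f : Fin 15 × C → octStab oStd := fun p =>
    ⟨toPerm (zMoves[(p.1 : ℕ)]'(hget _)).1, by
      obtain ⟨⟨⟨⟨ht, -⟩, -⟩, himg⟩, -⟩ := hall _ (List.getElem_mem (hget p.1))
      refine ⟨toPerm_mem_M24 ht, ?_⟩
      show toPerm _ • oStd = oStd
      rw [smul_setOf (valid_of_inM24 ht), himg]⟩ * ⟨p.2, hC p.2⟩
  have hf : Function.Injective f := by
    rintro ⟨i, c⟩ ⟨j, d⟩ e
    have e' : toPerm (zMoves[(i : ℕ)]'(hget _)).1 * (c : Equiv.Perm GolayPt) =
        toPerm (zMoves[(j : ℕ)]'(hget _)).1 * (d : Equiv.Perm GolayPt) := congrArg Subtype.val e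
    have key : ∀ (k : Fin 15) (u : C), toPerm (zMoves[(k : ℕ)]'(hget _)).2 =
        (toPerm (zMoves[(k : ℕ)]'(hget _)).1 * (u : Equiv.Perm GolayPt)) * zStd *
          (toPerm (zMoves[(k : ℕ)]'(hget _)).1 * (u : Equiv.Perm GolayPt))⁻¹ := by
      intro k u
      obtain ⟨⟨⟨⟨ht, hc⟩, -⟩, -⟩, he⟩ := hall _ (List.getElem_mem (hget k))
      have hu := Subgroup.mem_centralizer_singleton_iff.1 u.2.2
      have := congrArg toPerm he
      rw [toPerm_compP (valid_of_inM24 ht) zRep_facts, toPerm_compP hc (valid_of_inM24 ht)] at this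
      rw [mul_assoc (toPerm _) (u : Equiv.Perm GolayPt) zStd, hu, mul_inv_rev, ← mul_assoc,
        ← mul_assoc, mul_inv_cancel_right, this, mul_inv_cancel_right]
    have hij : toPerm (zMoves[(i : ℕ)]'(hget _)).2 = toPerm (zMoves[(j : ℕ)]'(hget _)).2 := by
      rw [key i c, key j d, e']
    obtain ⟨⟨⟨⟨-, hc1⟩, hn1⟩, -⟩, -⟩ := hall _ (List.getElem_mem (hget i))
    obtain ⟨⟨⟨⟨-, hc2⟩, hn2⟩, -⟩, -⟩ := hall _ (List.getElem_mem (hget j))
    have hs := toPerm_inj hc1 hc2 hn1 hn2 hij
    have hii : i = j := by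
      refine Fin.ext ((hnd.getElem_inj_iff (hi := by simpa using hget i)
        (hj := by simpa using hget j)).1 ?_)
      simpa using hs
    subst hii
    exact Prod.ext rfl (Subtype.ext (mul_left_cancel e'))
  have := Nat.card_le_card_of_injective f hf
  rw [Nat.card_prod, Nat.card_fin, card_octStab ho] at this
  omega

theorem compP_eq_of_toPerm {p q : ℕ} (hp : validP p = true) (hq : validP q = true)
    (e : toPerm (compP p q) = toPerm (compP q p)) : compP p q = compP q p := by
  have key : ∀ n ≤ 24, compTo p q n = compTo q p n := by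
    intro n
    induction n with
    | zero => intro _; rfl
    | succ n ih =>
      intro hn
      have h1 := idx_toPerm (validP_compP hp hq) (pt ⟨n, by omega⟩)
      have h2 := idx_toPerm (validP_compP hq hp) (pt ⟨n, by omega⟩)
      rw [idx_pt, app_compP p q (i := n) (by omega)] at h1
      rw [idx_pt, app_compP q p (i := n) (by omega), ← e, h1] at h2
      show Nat.lor (Nat.shiftLeft (app p (app q n)) (5 * n)) (compTo p q n) =
        Nat.lor (Nat.shiftLeft (app q (app p n)) (5 * n)) (compTo q p n)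
      rw [h2, ih (by omega)]
  exact key 24 le_rfl

/-- The representative centraliser. -/
theorem local_std :
    radGrp ≤ M24 ⊓ Subgroup.centralizer {zStd} ∧ levGrp ≤ M24 ⊓ Subgroup.centralizer {zStd} ∧
    zStd ∈ radGrp ∧ Nat.card radGrp = 128 ∧
    (∀ a ∈ radGrp, a * a = 1 ∨ a * a = zStd) ∧
    (∀ a ∈ radGrp, a ≠ 1 → a ≠ zStd → ∃ b ∈ radGrp, a * b ≠ b * a) ∧
    (∀ c ∈ M24 ⊓ Subgroup.centralizer {zStd}, ∀ a ∈ radGrp, c * a * c⁻¹ ∈ radGrp) ∧
    radGrp ⊓ levGrp = ⊥ ∧ radGrp ⊔ levGrp = M24 ⊓ Subgroup.centralizer {zStd} ∧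
    Nonempty (levGrp ≃* SL32) := by
  classical
  have hR := rad_ok
  simp only [Bool.and_eq_true, List.all_eq_true, beq_iff_eq, List.contains_iff_mem,
    List.any_eq_true, Bool.or_eq_true, Bool.not_eq_true', beq_eq_false_iff_ne] at hR
  obtain ⟨⟨⟨⟨⟨hRok, hRlen⟩, hzR⟩, hRz⟩, hsq⟩, hpair⟩ := hR
  have hL := lev_ok
  simp only [Bool.and_eq_true, List.all_eq_true, beq_iff_eq, List.contains_eq_mem,
    List.any_eq_true, Bool.or_eq_true, Bool.not_eq_true', decide_eq_false_iff_not] at hL
  obtain ⟨⟨⟨⟨hLok, hLlen⟩, hLz⟩, hdis⟩, hnorm⟩ := hL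
  have hRle := grp_le hRok hRz
  have hLle := grp_le hLok hLz
  have hvR : ∀ g ∈ radCert.gens, validP g = true := fun g hg => by
    simp only [ListCert.ok, Bool.and_eq_true, List.all_eq_true] at hRok
    exact valid_of_inM24 (hRok.1.1.1.1.1 g hg)
  have hvL : ∀ g ∈ levCert.gens, validP g = true := fun g hg => by
    simp only [ListCert.ok, Bool.and_eq_true, List.all_eq_true] at hLok
    exact valid_of_inM24 (hLok.1.1.1.1.1 g hg)
  -- the elements of the two groups
  have hcard : ∀ (c : ListCert), c.ok = true →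
      (∀ g ∈ c.gens, ∀ x ∈ c.elems, compP g x ∈ c.elems) →
      Nat.card c.grp = c.elems.length ∧ ∀ g ∈ c.grp, ∃ x ∈ c.elems, toPerm x = g := by
    intro c hc hcl
    have hp := fun x (hx : x ∈ c.elems) => c.props hc hx
    have hg : ∀ g ∈ c.gens, validP g = true := fun g hg => by
      simp only [ListCert.ok, Bool.and_eq_true, List.all_eq_true] at hc
      exact valid_of_inM24 (hc.1.1.1.1.1 g hg)
    have hid : idP ∈ c.elems := by
      simp only [ListCert.ok, Bool.and_eq_true, beq_iff_eq] at hc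
      obtain ⟨⟨⟨-, h0⟩, htl⟩, -⟩ := hc
      rw [← h0, List.getD_eq_getElem _ _ (by omega)]
      exact List.getElem_mem _
    have hnd : c.elems.Nodup := by
      simp only [ListCert.ok, Bool.and_eq_true, decide_eq_true_eq] at hc
      exact hc.1.1.1.2
    have hall : ∀ g ∈ c.grp, ∃ x ∈ c.elems, toPerm x = g := by
      intro g hg'
      rw [ListCert.grp, ← SetLike.mem_coe, ← Subgroup.coe_toSubmonoid,
        Subgroup.closure_toSubmonoid_of_finite, SetLike.mem_coe] at hg'
      suffices key : ∀ x ∈ c.elems, ∃ y ∈ c.elems, toPerm y = g * toPerm x by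
        obtain ⟨y, hy, e⟩ := key idP hid
        exact ⟨y, hy, by rwa [toPerm_idP, mul_one] at e⟩
      induction hg' using Submonoid.closure_induction with
      | mem y hy =>
        obtain ⟨a, ha, rfl⟩ := hy
        exact fun x hx => ⟨_, hcl a ha x hx, toPerm_compP (hg a ha) (hp x hx).1⟩
      | one => exact fun x hx => ⟨x, hx, by rw [one_mul]⟩
      | mul y w _ _ hy hw =>
        intro x hx
        obtain ⟨u, hu, e1⟩ := hw x hx
        obtain ⟨v, hv, e2⟩ := hy u hu
        exact ⟨v, hv, by rw [e2, e1, mul_assoc]⟩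
    refine ⟨le_antisymm ?_ ?_, hall⟩
    · rw [← Nat.card_fin c.elems.length]
      refine Nat.card_le_card_of_surjective (fun i : Fin c.elems.length =>
        (⟨toPerm c.elems[(i : ℕ)], (hp _ (List.getElem_mem i.isLt)).2.2⟩ : c.grp)) ?_
      rintro ⟨g, hg'⟩
      obtain ⟨x, hx, rfl⟩ := hall g hg'
      obtain ⟨i, hi, rfl⟩ := List.mem_iff_getElem.1 hx
      exact ⟨⟨i, hi⟩, rfl⟩
    · rw [← Nat.card_fin c.elems.length]
      refine Nat.card_le_card_of_injective (fun i : Fin c.elems.length =>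
        (⟨toPerm c.elems[(i : ℕ)], (hp _ (List.getElem_mem i.isLt)).2.2⟩ : c.grp)) ?_
      intro i j e
      have e' := congrArg Subtype.val e
      exact Fin.ext (hnd.getElem_inj_iff.1 (toPerm_inj (hp _ (List.getElem_mem i.isLt)).1
        (hp _ (List.getElem_mem j.isLt)).1 (hp _ (List.getElem_mem i.isLt)).2.1
        (hp _ (List.getElem_mem j.isLt)).2.1 e'))
  obtain ⟨hRc, hRall⟩ := hcard radCert hRok (by
    have h : (radCert.gens.all fun g => radCert.elems.all fun x =>
        radCert.elems.contains (compP g x)) = true := by decide +kernel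
    simpa [List.all_eq_true] using h)
  obtain ⟨hLc, hLall⟩ := hcard levCert hLok (by
    have h : (levCert.gens.all fun g => levCert.elems.all fun x =>
        levCert.elems.contains (compP g x)) = true := by decide +kernel
    simpa [List.all_eq_true] using h)
  rw [hRlen] at hRc
  rw [hLlen] at hLc
  have hRp := fun x (hx : x ∈ radCert.elems) => radCert.props hRok hx
  have hLp := fun x (hx : x ∈ levCert.elems) => levCert.props hLok hx
  have hinf : radGrp ⊓ levGrp = ⊥ := by
    refine eq_bot_iff.2 fun g hg => ?_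
    obtain ⟨x, hx, rfl⟩ := hLall g hg.2
    obtain ⟨y, hy, e⟩ := hRall _ hg.1
    rcases hdis x hx with h | h
    · exact Subgroup.mem_bot.2 (toPerm_eq_one_of_isIdP (hLp x hx).1 h)
    · exact absurd (toPerm_inj (hRp y hy).1 (hLp x hx).1 (hRp y hy).2.1 (hLp x hx).2.1 e ▸ hy) h
  have hsup : radGrp ⊔ levGrp = M24 ⊓ Subgroup.centralizer {zStd} := by
    refine Subgroup.eq_of_le_of_card_ge (sup_le hRle hLle) (le_trans card_upper ?_)
    calc 21504 = Nat.card (radGrp × levGrp) := by rw [Nat.card_prod, hRc, hLc]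
      _ ≤ Nat.card ↥(radGrp ⊔ levGrp) := by
        refine Nat.card_le_card_of_injective (fun p => ⟨(p.1 : Equiv.Perm GolayPt) * p.2,
          mul_mem (Subgroup.mem_sup_left p.1.2) (Subgroup.mem_sup_right p.2.2)⟩) ?_
        intro a b e
        exact Subgroup.mul_injective_of_disjoint (disjoint_iff.2 hinf) (congrArg Subtype.val e)
  refine ⟨hRle, hLle, (hRp _ hzR).2.2, hRc, fun a ha => ?_, fun a ha ha1 haz => ?_, ?_, hinf, hsup,
    ?_⟩
  · obtain ⟨x, hx, rfl⟩ := hRall a ha
    rw [← toPerm_compP (hRp x hx).1 (hRp x hx).1]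
    rcases hsq x hx with h | h
    · exact Or.inl (toPerm_eq_one_of_isIdP (validP_compP (hRp x hx).1 (hRp x hx).1) h)
    · exact Or.inr (by rw [h])
  · obtain ⟨x, hx, rfl⟩ := hRall a ha
    rcases hpair x hx with (h | h) | ⟨g, hg, hne⟩
    · exact absurd (toPerm_eq_one_of_isIdP (hRp x hx).1 h) ha1
    · exact absurd (by rw [h]) haz
    refine ⟨toPerm g, Subgroup.subset_closure ⟨g, hg, rfl⟩, fun e => hne ?_⟩
    rw [← toPerm_compP (hRp x hx).1 (hvR g hg), ← toPerm_compP (hvR g hg) (hRp x hx).1] at e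
    exact compP_eq_of_toPerm (hRp x hx).1 (hvR g hg) e
  · intro c hc a ha
    have hK : ∀ k ∈ levGrp, k ∈ Subgroup.normalizer (radGrp : Set (Equiv.Perm GolayPt)) := by
      show levGrp ≤ _
      rw [show levGrp = Subgroup.closure {τ | ∃ g ∈ levCert.gens, toPerm g = τ} from rfl,
        Subgroup.closure_le]
      rintro _ ⟨k, hk, rfl⟩
      have hmap : radGrp.map (MulAut.conj (toPerm k)).toMonoidHom ≤ radGrp := by
        rw [show radGrp = Subgroup.closure {τ | ∃ g ∈ radCert.gens, toPerm g = τ} from rfl,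
          MonoidHom.map_closure, Subgroup.closure_le]
        rintro _ ⟨_, ⟨g, hg, rfl⟩, rfl⟩
        obtain ⟨x, hx, he⟩ := hnorm k hk g hg
        have := congrArg toPerm he
        rw [toPerm_compP (hvL k hk) (hvR g hg), toPerm_compP (hRp x hx).1 (hvL k hk)] at this
        show toPerm k * toPerm g * (toPerm k)⁻¹ ∈ radGrp
        rw [this, mul_inv_cancel_right]
        exact (hRp x hx).2.2
      exact Subgroup.mem_normalizer_fintype fun n hn => hmap ⟨n, hn, rfl⟩
    rw [← hsup] at hc
    exact (Subgroup.mem_normalizer_iff.1 (sup_le Subgroup.le_normalizer hK hc) a).1 ha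
  · obtain ⟨hpos, hstep⟩ := table_ok
    have hlt : ∀ i : Fin 168, (i : ℕ) < levCert.elems.length := fun i => by
      rw [hLlen]; exact i.isLt
    let f : Fin 168 → levGrp := fun i =>
      ⟨toPerm (levCert.elems.getD i 0), (hLp _ (by
        rw [List.getD_eq_getElem _ _ (hlt i)]; exact List.getElem_mem _)).2.2⟩
    have hgl : levCert.gens.length = 2 := rfl
    have hposlt : ∀ g : Fin 2, levGenPos.getD g 0 < 168 := by decide
    have hfs : Function.Surjective f := by
      rintro ⟨g, hg⟩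
      obtain ⟨x, hx, rfl⟩ := hLall g hg
      obtain ⟨i, hi, rfl⟩ := List.mem_iff_getElem.1 hx
      exact ⟨⟨i, hLlen ▸ hi⟩, Subtype.ext (congrArg toPerm (List.getD_eq_getElem _ _ hi))⟩
    refine equiv_of_table f matSL (hfs.bijective_of_nat_card_le (by rw [hLc, Nat.card_fin]))
      matSL_bijective 0 ?_ matSL_zero {i | ∃ g : Fin 2, (i : ℕ) = levGenPos.getD g 0} ?_ ?_
    · refine Subtype.ext ?_
      show toPerm (levCert.elems.getD 0 0) = 1
      have : levCert.elems.getD 0 0 = idP := by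
        have h := hLok
        simp only [ListCert.ok, Bool.and_eq_true, beq_iff_eq] at h
        exact h.1.1.2
      rw [this, toPerm_idP]
    · apply Subgroup.map_injective levGrp.subtype_injective
      rw [MonoidHom.map_closure, ← MonoidHom.range_eq_map, Subgroup.range_subtype]
      refine le_antisymm ?_ ?_
      · rw [Subgroup.closure_le]
        rintro _ ⟨x, -, rfl⟩
        exact x.2
      · show Subgroup.closure {τ | ∃ g ∈ levCert.gens, toPerm g = τ} ≤ _
        rw [Subgroup.closure_le]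
        rintro _ ⟨g, hg, rfl⟩
        obtain ⟨k, hk, rfl⟩ := List.mem_iff_getElem.1 hg
        refine Subgroup.subset_closure ⟨f ⟨_, hposlt ⟨k, hgl ▸ hk⟩⟩, ⟨_, ⟨⟨k, hgl ▸ hk⟩, rfl⟩, rfl⟩, ?_⟩
        show toPerm (levCert.elems.getD (levGenPos.getD k 0) 0) = toPerm levCert.gens[k]
        rw [hpos ⟨k, hgl ▸ hk⟩, List.getD_eq_getElem _ _ hk]
    · rintro a ⟨g, hg⟩ i
      obtain ⟨hjl, he⟩ := hstep g i
      refine ⟨⟨_, hjl⟩, Subtype.ext ?_, matSL_mul g a hg i _ rfl⟩
      show toPerm (levCert.elems.getD a 0) * toPerm (levCert.elems.getD i 0) =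
        toPerm (levCert.elems.getD ((levStep.getD g []).getD i 0) 0)
      have hk : (g : ℕ) < levCert.gens.length := by rw [hgl]; exact g.isLt
      rw [hg, hpos g, ← he, toPerm_compP]
      · rw [List.getD_eq_getElem _ _ hk]
        exact hvL _ (List.getElem_mem hk)
      · rw [List.getD_eq_getElem _ _ (hlt i)]
        exact (hLp _ (List.getElem_mem _)).1

/-- An element of the group of the code commuting with the kernel of an octad lies in it. -/
theorem mem_octFix_of_commute {o : Finset GolayPt} (ho : o ∈ octads) {g : Equiv.Perm GolayPt}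
    (hg : g ∈ M24) (hc : ∀ a ∈ octFix o, a * g = g * a) : g ∈ octFix o := by
  obtain ⟨hsq, htr, hfree⟩ := octFix_spec ho
  have hcomm : ∀ a ∈ octFix o, ∀ b ∈ octFix o, a * b = b * a := fun a ha b hb => by
    have ea := inv_eq_of_mul_eq_one_right (hsq a ha)
    have eb := inv_eq_of_mul_eq_one_right (hsq b hb)
    have eab := inv_eq_of_mul_eq_one_right (hsq _ ((octFix o).mul_mem ha hb))
    rw [← eab, mul_inv_rev, ea, eb]
  have hcard : oᶜ.card = 16 := by rw [Finset.card_compl, ho.2]; simp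
  have hout : ∀ w ∉ o, g w ∉ o := by
    intro w hw hgw
    obtain ⟨u, hu, huw⟩ := Finset.exists_mem_ne (s := oᶜ) (by omega) w
    rw [Finset.mem_compl] at hu
    obtain ⟨a, ha, haw⟩ := htr w hw u hu
    have := congrArg (fun p : Equiv.Perm GolayPt => p w) (hc a ha)
    simp only [Equiv.Perm.mul_apply, (mem_octFix.1 ha).2 _ hgw, haw] at this
    exact huw (g.injective this).symm
  obtain ⟨z, hz⟩ := Finset.card_pos.1 (by omega : 0 < oᶜ.card)
  rw [Finset.mem_compl] at hz
  obtain ⟨k, hk, hkz⟩ := htr z hz (g z) (hout z hz)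
  have hu : k⁻¹ * g = 1 := by
    refine eq_one_of_fix_outside ho (M24.mul_mem (M24.inv_mem (mem_octFix.1 hk).1) hg) fun w hw => ?_
    obtain ⟨a, ha, haz⟩ := htr z hz w hw
    have e : a * (k⁻¹ * g) = k⁻¹ * g * a := by
      rw [← mul_assoc, hcomm a ha _ ((octFix o).inv_mem hk), mul_assoc, hc a ha, ← mul_assoc]
    have huz : (k⁻¹ * g) z = z := by simp [← hkz]
    have e2 := congrArg (fun u : Equiv.Perm GolayPt => u z) e
    simp only [Equiv.Perm.mul_apply] at e2 huz ⊢
    rw [huz, haz] at e2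
    exact e2.symm
  rw [inv_mul_eq_one] at hu
  rw [← hu]
  exact hk

/-- No nontrivial subgroup of odd order is normalised by the kernel of an octad. -/
theorem odd_eq_bot {o : Finset GolayPt} (ho : o ∈ octads) (K : Subgroup ↥M24)
    (hK : Odd (Nat.card K))
    (hN : ∀ e : ↥M24, (e : Equiv.Perm GolayPt) ∈ octFix o → e ∈ Subgroup.normalizer (K : Set ↥M24)) :
    K = ⊥ := by
  obtain ⟨hsq, htr, hfree⟩ := octFix_spec ho
  set E : Subgroup ↥M24 := (octFix o).subgroupOf M24
  have htwo : ∀ k ∈ K, k * k = 1 → k = 1 := fun k hk h => by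
    refine orderOf_eq_one_iff.1 (Nat.eq_one_of_dvd_coprimes hK.coprime_two_right
      (Subgroup.orderOf_dvd_natCard K hk) (orderOf_dvd_of_pow_eq_one ?_))
    rw [sq, h]
  have hfix : ∀ e ∈ E, e ≠ 1 → ∀ k ∈ K, Commute e k → k = 1 := by
    intro e he he1 k hk hek
    have hpres : ∀ x, (e : Equiv.Perm GolayPt) x = x ↔ x ∈ o := fun x =>
      ⟨fun hx => by_contra fun hxo => he1 (Subtype.ext (hfree _ he x hxo hx)),
        fun hxo => (mem_octFix.1 he).2 x hxo⟩
    have hkeep : ∀ x, (k : Equiv.Perm GolayPt) x ∈ o ↔ x ∈ o := fun x => by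
      have h := congrArg (fun p : ↥M24 => (p : Equiv.Perm GolayPt) x) hek.eq
      simp only [Subgroup.coe_mul, Equiv.Perm.mul_apply] at h
      rw [← hpres, ← hpres, h, (k : Equiv.Perm GolayPt).injective.eq_iff]
    have hkE : ∀ a ∈ E, k * a * k⁻¹ ∈ E := fun a ha => by
      refine mem_octFix.2 ⟨(k * a * k⁻¹).2, fun x hx => ?_⟩
      have hx' : (k : Equiv.Perm GolayPt)⁻¹ x ∈ o := (hkeep _).1 (by simpa using hx)
      have ha' : (a : Equiv.Perm GolayPt) ((k : Equiv.Perm GolayPt)⁻¹ x) = _ := (mem_octFix.1 ha).2 _ hx'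
      show (k : Equiv.Perm GolayPt) ((a : Equiv.Perm GolayPt) ((k : Equiv.Perm GolayPt)⁻¹ x)) = x
      rw [ha']
      simp
    have hc : ∀ a ∈ E, a * k = k * a := by
      intro a ha
      set c := a * k * a⁻¹ * k⁻¹
      have hcE : c ∈ E := by
        rw [show c = a * (k * a⁻¹ * k⁻¹) by simp only [c]; group]
        exact mul_mem ha (hkE _ (inv_mem ha))
      have hcK : c ∈ K :=
        mul_mem ((Subgroup.mem_normalizer_iff.1 (hN a ha) k).1 hk) (inv_mem hk)
      exact mul_inv_eq_iff_eq_mul.1 (mul_inv_eq_one.1 (htwo c hcK (Subtype.ext (hsq _ hcE))))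
    have hkO : (k : Equiv.Perm GolayPt) ∈ octFix o :=
      mem_octFix_of_commute ho k.2 fun a ha =>
        congrArg Subtype.val (hc ⟨a, (mem_octFix.1 ha).1⟩ ha)
    exact htwo k hk (Subtype.ext (hsq _ hkO))
  have hinv : ∀ e ∈ E, e ≠ 1 → ∀ k ∈ K, e * k * e⁻¹ = k⁻¹ := by
    intro e he he1
    haveI := Fintype.ofFinite K
    have hee : e * e = 1 := Subtype.ext (hsq _ he)
    have hmem : ∀ k ∈ K, e * k * e⁻¹ ∈ K := fun k hk =>
      (Subgroup.mem_normalizer_iff.1 (hN e he) k).1 hk
    let f : K → K := fun a => ⟨(a : ↥M24)⁻¹ * (e * a * e⁻¹), mul_mem (inv_mem a.2) (hmem a a.2)⟩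
    have hinj : Function.Injective f := by
      intro a b h
      have h' : (a : ↥M24)⁻¹ * (e * a * e⁻¹) = (b : ↥M24)⁻¹ * (e * b * e⁻¹) := congrArg Subtype.val h
      refine Subtype.ext (mul_inv_eq_one.1 (hfix e he he1 _ (mul_mem b.2 (inv_mem a.2)) ?_)).symm
      show e * ((b : ↥M24) * (a : ↥M24)⁻¹) = _ * e
      calc e * ((b : ↥M24) * (a : ↥M24)⁻¹)
          = (b : ↥M24) * ((b : ↥M24)⁻¹ * (e * b * e⁻¹)) * (e * (a : ↥M24)⁻¹) := by group
        _ = _ := by rw [← h']; group
    intro k hk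
    obtain ⟨a, ha⟩ := (Finite.injective_iff_surjective.1 hinj) ⟨k, hk⟩
    have hka : (a : ↥M24)⁻¹ * (e * a * e⁻¹) = k := congrArg Subtype.val ha
    have hei : e⁻¹ = e := inv_eq_of_mul_eq_one_right hee
    rw [← hka, mul_inv_rev, inv_inv, mul_inv_rev, mul_inv_rev, inv_inv, hei]
    calc e * ((a : ↥M24)⁻¹ * (e * a * e)) * e = e * (a : ↥M24)⁻¹ * e * a * (e * e) := by group
      _ = _ := by rw [hee]; group
  have hcO : oᶜ.card = 16 := by rw [Finset.card_compl, ho.2]; simp
  obtain ⟨x, hx, y, hy, hxy⟩ := Finset.one_lt_card.1 (show 1 < oᶜ.card by omega)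
  obtain ⟨u, hu, hux, huy⟩ : ∃ u ∉ o, u ≠ x ∧ u ≠ y := by
    obtain ⟨u, hu⟩ := Finset.card_pos.1 (show 0 < ((oᶜ.erase x).erase y).card by
      have := Finset.pred_card_le_card_erase (s := oᶜ) (a := x)
      have := Finset.pred_card_le_card_erase (s := oᶜ.erase x) (a := y)
      omega)
    simp only [Finset.mem_erase, Finset.mem_compl] at hu
    exact ⟨u, hu.2.2, hu.2.1, hu.1⟩
  rw [Finset.mem_compl] at hx hy
  obtain ⟨a, ha, hax⟩ := htr x hx y hy
  obtain ⟨b, hb, hbx⟩ := htr x hx u hu
  have ha1 : (⟨a, (mem_octFix.1 ha).1⟩ : ↥M24) ≠ 1 := fun e =>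
    hxy (by rw [← hax, show a = 1 from congrArg Subtype.val e]; rfl)
  have hb1 : (⟨b, (mem_octFix.1 hb).1⟩ : ↥M24) ≠ 1 := fun e =>
    hux (by rw [← hbx, show b = 1 from congrArg Subtype.val e]; rfl)
  set A : ↥M24 := ⟨a, (mem_octFix.1 ha).1⟩
  set B : ↥M24 := ⟨b, (mem_octFix.1 hb).1⟩
  have hAB : A * B ≠ 1 := fun e => by
    have : a = b := by
      have h1 : a * b = 1 := congrArg Subtype.val e
      rw [← inv_eq_of_mul_eq_one_left h1]
      exact inv_eq_of_mul_eq_one_right (hsq b hb)
    exact huy (by rw [← hbx, ← this, hax])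
  refine eq_bot_iff.2 fun k hk => Subgroup.mem_bot.2 (hfix (A * B) (mul_mem ha hb) hAB k hk ?_)
  refine mul_inv_eq_iff_eq_mul.1 ?_
  rw [show A * B * k * (A * B)⁻¹ = A * (B * k * B⁻¹) * A⁻¹ by group,
    hinv B hb hb1 k hk, hinv A ha ha1 _ (inv_mem hk), inv_inv]

end

end Cfsg.Agent.Golay24.OctCent
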