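import Cfsg.Agent.Lib.Golay.Code

/-!
Generation of all octads from the twelve basis octads by sums of octads meeting in four points.
-/

set_option autoImplicit false
set_option maxRecDepth 20000

namespace Cfsg.Agent.Golay24

/-- The steps: indices of earlier members whose sum is appended. -/
def octSteps : List (ℕ × ℕ) := [
  (1, 0), (2, 0), (2, 1), (3, 0), (3, 1), (3, 2), (4, 1), (4, 2),
  (4, 3), (5, 0), (5, 1), (5, 2), (5, 3), (5, 4), (6, 0), (6, 1),
  (6, 2), (6, 3), (6, 4), (6, 5), (7, 0), (7, 1), (7, 2), (7, 3),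
  (7, 4), (7, 6), (8, 0), (8, 2), (8, 3), (8, 4), (8, 5), (8, 6),
  (8, 7), (9, 0), (9, 1), (9, 3), (9, 4), (9, 5), (9, 6), (9, 7),
  (9, 8), (10, 0), (10, 1), (10, 2), (10, 3), (10, 4), (10, 5), (10, 7),
  (10, 8), (10, 9), (11, 0), (11, 1), (11, 2), (11, 4), (11, 5), (11, 6),
  (11, 7), (11, 8), (11, 9), (11, 10), (12, 2), (12, 4), (12, 6), (12, 7),
  (12, 8), (12, 9), (12, 10), (12, 11), (13, 3), (13, 4), (13, 5), (13, 6),
  (13, 7), (13, 9), (13, 10), (14, 4), (14, 5), (14, 7), (14, 8), (14, 9),
  (14, 10), (14, 11), (15, 4), (15, 5), (15, 6), (15, 7), (15, 8), (15, 9),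
  (15, 11), (15, 14), (16, 4), (16, 5), (16, 6), (16, 7), (16, 8), (16, 9),
  (16, 10), (16, 11), (17, 4), (17, 5), (17, 6), (17, 8), (17, 9), (17, 10),
  (17, 11), (18, 5), (18, 6), (18, 7), (18, 8), (18, 11), (18, 15), (19, 5),
  (19, 8), (19, 9), (19, 10), (19, 11), (20, 6), (20, 7), (20, 8), (20, 10),
  (20, 11), (21, 4), (21, 6), (21, 7), (21, 8), (21, 10), (21, 11), (21, 16),
  (21, 17), (21, 18), (21, 20), (22, 7), (22, 8), (22, 9), (22, 10), (22, 11),
  (22, 19), (23, 6), (23, 7), (23, 9), (23, 11), (24, 6), (24, 7), (24, 9),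
  (24, 10), (24, 11), (25, 6), (25, 7), (25, 8), (25, 9), (25, 11), (26, 4),
  (26, 9), (26, 10), (26, 11), (26, 17), (26, 19), (26, 22), (26, 23), (26, 24),
  (27, 7), (27, 8), (27, 9), (27, 10), (27, 11), (27, 17), (27, 19), (27, 20),
  (27, 23), (28, 7), (28, 8), (28, 9), (28, 10), (28, 11), (28, 24), (29, 7),
  (29, 10), (29, 11), (30, 7), (30, 8), (30, 9), (30, 10), (31, 7), (31, 8),
  (31, 9), (31, 10), (32, 4), (32, 8), (32, 9), (32, 10), (32, 14), (32, 19),
  (32, 22), (32, 25), (32, 30), (32, 31), (33, 8), (33, 10), (33, 17), (33, 20),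
  (33, 29), (33, 30), (33, 31), (34, 8), (34, 9), (34, 10), (34, 11), (34, 20),
  (34, 24), (34, 25), (34, 30), (35, 8), (35, 9), (35, 11), (35, 25), (35, 30),
  (36, 9), (36, 10), (36, 11), (37, 8), (37, 10), (37, 11), (38, 4), (38, 9),
  (38, 10), (38, 11), (38, 14), (38, 16), (38, 18), (38, 19), (38, 22), (38, 23),
  (38, 27), (38, 28), (38, 29), (38, 30), (38, 35), (38, 36), (38, 37), (39, 9),
  (39, 10), (39, 11), (39, 16), (39, 20), (39, 22), (39, 24), (39, 27), (39, 36),
  (39, 37), (40, 9), (40, 10), (40, 11), (40, 22), (40, 25), (40, 27), (40, 31),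
  (41, 9), (41, 10), (41, 31), (41, 33), (42, 7), (42, 9), (42, 10), (42, 11),
  (42, 27), (42, 33), (42, 34), (42, 35), (42, 36), (43, 9), (43, 10), (43, 11),
  (44, 9), (44, 11), (45, 4), (45, 11), (45, 18), (45, 19), (45, 20), (45, 22),
  (45, 23), (45, 25), (45, 27), (45, 35), (45, 37), (45, 39), (45, 40), (45, 44),
  (46, 8), (46, 10), (46, 11), (46, 17), (46, 19), (46, 20), (46, 24), (46, 28),
  (46, 34), (46, 36), (46, 37), (46, 39), (46, 41), (46, 44), (47, 10), (47, 11),
  (47, 19), (47, 25), (47, 28), (47, 30), (47, 34), (47, 37), (47, 43), (47, 44),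
  (48, 10), (48, 11), (48, 28), (48, 31), (48, 34), (48, 42), (48, 43), (49, 7),
  (49, 10), (49, 32), (49, 33), (49, 34), (49, 37), (49, 39), (49, 43), (50, 10),
  (50, 11), (50, 34), (51, 10), (51, 11), (53, 4), (53, 11), (53, 14), (53, 16),
  (53, 18), (53, 20), (53, 25), (53, 29), (53, 30), (53, 33), (53, 34), (53, 35),
  (53, 37), (53, 42), (53, 43), (53, 47), (53, 48), (53, 49), (53, 50), (53, 52),
  (54, 8), (54, 24), (54, 25), (54, 28), (54, 30), (54, 31), (54, 34), (54, 41),
  (54, 43), (54, 44), (54, 47), (54, 48), (54, 49), (54, 52), (55, 9), (55, 20),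
  (55, 25), (55, 30), (55, 31), (55, 35), (55, 40), (55, 41), (55, 42), (55, 45),
  (55, 49), (55, 50), (55, 52), (56, 11), (56, 25), (56, 37), (56, 41), (56, 43),
  (56, 44), (56, 49), (56, 50), (57, 11), (57, 31), (57, 44), (57, 51), (58, 7),
  (58, 11), (58, 34), (58, 35), (58, 36), (58, 37), (58, 44), (59, 11), (59, 43),
  (59, 50), (59, 52), (60, 11), (60, 50), (61, 11), (62, 4), (62, 16), (62, 17),
  (62, 19), (62, 20), (62, 27), (62, 30), (62, 33), (62, 34), (62, 35), (62, 36),
  (62, 37), (62, 39), (62, 41), (62, 42), (62, 46), (62, 49), (62, 50), (62, 55),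
  (62, 56), (62, 58), (62, 60), (63, 8), (63, 17), (63, 19), (63, 23), (63, 25),
  (63, 31), (63, 35), (63, 40), (63, 41), (63, 44), (63, 50), (63, 51), (63, 52),
  (63, 55), (63, 56), (63, 57), (63, 59), (63, 60), (64, 9), (64, 25), (64, 30),
  (64, 35), (64, 37), (64, 43), (64, 44), (64, 45), (64, 47), (64, 49), (64, 52),
  (64, 56), (64, 58), (64, 61), (65, 24), (65, 29), (65, 31), (65, 40), (65, 43),
  (65, 44), (65, 47), (65, 51), (65, 52), (65, 59), (65, 61), (66, 7), (66, 29),
  (66, 32), (66, 33), (66, 35), (66, 37), (66, 40), (66, 47), (66, 50), (66, 51),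
  (66, 52), (66, 60), (67, 10), (67, 40), (67, 44), (67, 47), (67, 54), (67, 55),
  (67, 56), (67, 57), (67, 58), (68, 56), (68, 61), (69, 47), (69, 61), (72, 20),
  (72, 30), (72, 37), (72, 47), (72, 49), (72, 58), (72, 66), (72, 67), (72, 69),
  (73, 31), (73, 51), (73, 68), (73, 71), (74, 35), (74, 44), (74, 47), (74, 56),
  (74, 58), (75, 24), (75, 47), (75, 61), (75, 69), (76, 49), (76, 56), (76, 61),
  (77, 71), (78, 66), (79, 24), (80, 36), (80, 37), (80, 44), (80, 58), (80, 60),
  (80, 61), (80, 69), (81, 42), (81, 58), (81, 71), (82, 44), (82, 67), (82, 68),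
  (83, 51), (83, 52), (83, 60), (83, 71), (84, 60), (84, 70), (87, 24), (87, 43),
  (87, 44), (87, 56), (87, 59), (87, 61), (87, 68), (88, 35), (88, 37), (88, 50),
  (88, 56), (88, 60), (89, 40), (89, 67), (89, 70), (90, 71), (91, 71), (92, 29),
  (93, 29), (94, 42), (94, 43), (94, 50), (94, 59), (95, 50), (95, 52), (95, 59),
  (95, 60), (95, 70), (96, 68), (96, 69), (99, 71), (102, 31), (102, 42), (102, 52),
  (102, 59), (102, 70), (102, 71), (103, 50), (103, 67), (104, 52), (105, 60), (105, 61),
  (105, 70), (110, 31), (110, 43), (110, 49), (110, 67), (110, 68), (111, 52), (111, 69),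
  (111, 71), (112, 44), (112, 52), (112, 59), (114, 59), (117, 50), (117, 51), (117, 59),
  (117, 60), (117, 70), (117, 84), (118, 61), (118, 68), (118, 69), (118, 70), (118, 100),
  (119, 98), (120, 86), (120, 116), (121, 85), (123, 37), (123, 43), (123, 61), (123, 69),
  (123, 100), (124, 51), (124, 70), (124, 71), (124, 99), (125, 67), (126, 37), (126, 68),
  (126, 96), (128, 44), (128, 58), (128, 61), (129, 49), (129, 52), (129, 61), (129, 69),
  (130, 61), (131, 66), (133, 67), (133, 70), (134, 44), (134, 52), (134, 61), (134, 69),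
  (134, 125), (134, 129), (135, 61), (135, 114), (136, 121), (143, 71), (143, 132), (144, 67),
  (144, 70), (144, 125), (145, 71), (145, 116), (149, 60), (149, 69), (149, 70), (150, 71),
  (153, 44), (153, 51), (153, 60), (155, 60), (158, 68), (159, 69), (160, 61), (160, 71),
  (161, 71), (163, 51), (164, 69), (164, 92), (164, 116), (164, 120), (165, 68), (165, 119),
  (165, 150), (165, 157), (165, 160), (167, 144), (172, 52), (172, 61), (172, 71), (172, 156),
  (172, 160), (173, 131), (181, 157), (183, 156), (187, 70), (190, 52), (190, 60), (190, 70),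
  (191, 71), (196, 71), (198, 60), (199, 70), (199, 71), (199, 91), (199, 146), (199, 157),
  (199, 161), (200, 71), (200, 126), (200, 132), (201, 162), (208, 152), (208, 155), (208, 184),
  (208, 189), (209, 151), (210, 192), (215, 61), (215, 71), (215, 196), (216, 162), (223, 71),
  (225, 193), (228, 197), (231, 70), (234, 61), (234, 70), (235, 109), (236, 132), (236, 176),
  (237, 222), (251, 108), (251, 176), (251, 193), (251, 225), (252, 189), (252, 226), (261, 71),
  (262, 147), (272, 61), (272, 70), (273, 175), (274, 233), (281, 71), (287, 193), (287, 214),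
  (288, 156), (295, 282), (301, 189), (314, 127), (315, 270), (332, 225), (339, 218), (345, 210),
  (345, 337), (366, 185), (371, 343)]

/-- Run the steps. -/
def octRun : List (ℕ × ℕ) → List ℕ → List ℕ
  | [], acc => acc
  | s :: l, acc => octRun l (acc ++ [Nat.xor (acc.getD s.1 0) (acc.getD s.2 0)])

/-- Every step adds an octad. -/
def octRunOk : List (ℕ × ℕ) → List ℕ → Bool
  | [], _ => true
  | s :: l, acc => Nat.blt s.1 acc.length && Nat.blt s.2 acc.length &&
      (pop24 (Nat.xor (acc.getD s.1 0) (acc.getD s.2 0)) == 8) &&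
      octRunOk l (acc ++ [Nat.xor (acc.getD s.1 0) (acc.getD s.2 0)])

theorem octRun_ok : octRunOk octSteps basisMasks = true := by decide +kernel

theorem octRun_cov : ((weightList 8).all fun m => (octRun octSteps basisMasks).contains m) = true := by
  decide +kernel

theorem octRun_trio : (let L := octRun octSteps basisMasks
    pop24 (L.getD 72 0) == 8 && pop24 (L.getD 59 0) == 8 && pop24 (L.getD 752 0) == 8 &&
    Nat.xor (Nat.xor (L.getD 72 0) (L.getD 59 0)) (L.getD 752 0) == 16777215) = true := by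
  decide +kernel

/-- The number of octads in the two given relations with a pair. -/
def relCount (a b : ℕ) : ℕ :=
  (weightList 8).countP fun q => (pop24 (Nat.xor a q) != 12) && (pop24 (Nat.xor b q) != 12)

/-- A fixed octad. -/
def baseOct : ℕ := 14919680

theorem baseOct_oct : (pop24 baseOct == 8 && inCode baseOct && Nat.blt baseOct 16777216) = true := by
  decide +kernel

theorem relCount_base : ((weightList 8).all fun b => pop24 (Nat.xor baseOct b) == 12 ||
    pop24 (Nat.xor baseOct b) == 0 ||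
    (relCount baseOct b == (if pop24 (Nat.xor baseOct b) == 16 then 87 else 151))) = true := by
  decide +kernel

end Cfsg.Agent.Golay24
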