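import Cfsg.Agent.Lib.Golay.Cert

/-! Certificate data for the stabiliser of an octad (produced by an offline script). -/

set_option autoImplicit false

namespace Cfsg.Agent.Golay24

/-- Certificate for the stabiliser of the standard octad. -/
def octCert : GenCert where
  gens := [
    591139160148237201419476108814861475,
    221018233817651580268153492844121089]
  prog := [
    (0, 0), (2, 2), (3, 3), (3, 4), (0, 2), (0, 3), (6, 6), (6, 8),
    (9, 1), (10, 10), (10, 2), (10, 3), (2, 4), (6, 1), (11, 11), (10, 16),
    (17, 15), (18, 8), (1, 15), (15, 7), (4, 21), (22, 22), (10, 23), (10, 24),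
    (7, 8), (1, 20), (8, 20), (28, 27), (9, 29), (30, 8), (30, 18), (30, 19),
    (23, 23), (22, 34), (34, 34), (35, 36), (26, 19), (38, 21), (29, 21), (26, 40),
    (37, 41), (42, 8), (42, 18), (42, 19), (42, 30), (42, 31), (42, 32), (42, 33),
    (21, 39), (19, 40), (40, 39), (51, 50), (14, 53), (16, 54), (55, 55), (50, 39),
    (26, 57), (58, 55), (58, 58), (21, 57), (53, 57), (4, 62), (63, 63), (62, 61),
    (4, 65), (17, 66), (67, 67), (67, 68), (63, 68), (39, 52), (17, 71), (56, 72),
    (69, 73), (74, 74), (74, 64)]
  levels := [
    (23, [
      13, 2, 3, 12, 6, 0, 7, 5]),
    (0, [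
      5, 25, 11, 23, 22, 24, 10]),
    (1, [
      5, 55, 58, 56, 60, 59]),
    (2, [
      5, 69, 68, 70, 67]),
    (3, [
      5, 63, 64, 76]),
    (5, [
      5, 74, 75]),
    (4, [
      5, 48, 19, 46, 45, 32, 42, 31, 30, 49, 43, 8,
      44, 18, 33, 47])]

/-- The elements fixing the standard octad pointwise. -/
def octKer : List ℕ := [
    984818244535754528103549039458486304,
    965128854020860192151391391390468128,
    963721886883755259286232606933354528,
    979121071158219704299181131031480352,
    968708902336673183175954409307867168,
    967812279691448225500382947153381408,
    971592882964418941354553515258775584,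
    970499966350631336865513127433832480,
    976448692869377735270425038196672544,
    981818691054096003685363657089320992,
    972512676110088067912772961567868960,
    966182099583441531322624363496310816,
    983548720921252936276249910206105632,
    975346028712660580592452217730074656,
    980224387687010295957922729495201824,
    961365507626256404119956257276790816]

/-- A position outside the standard octad. -/
def octOutPos : ℕ := 4

/-- Rigidity data. -/
def octStages : List (List ℕ) := [[
    2491452, 542009, 12584506, 4216883, 1722420, 10537016,
    10558, 133817, 8391797]]

end Cfsg.Agent.Golay24
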