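import Cfsg.Agent.Lib.Golay.OctSpan
import Cfsg.Agent.Lib.Golay.Modules

/-!
Linear maps of the code which preserve the orbits of its group modulo the all-ones word.
-/

set_option autoImplicit false
set_option maxRecDepth 20000

namespace Cfsg.Agent.Golay24

noncomputable section

open Cfsg

attribute [local irreducible] weightList codeList octRun octSteps pop24

/-- The all-ones code word. -/
def oneW : ↥golayCode :=
  ⟨1, Submodule.subset_span (Or.inr rfl)⟩

/-- The weight of a code word. -/
def wt (c : ↥golayCode) : ℕ := hammingNorm (c : GolayPt → ZMod 2)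

/-- The mask of a code word. -/
def mk' (c : ↥golayCode) : ℕ := maskOf (support₂ (c : GolayPt → ZMod 2))

theorem mk'_injective : Function.Injective mk' := fun _ _ h =>
  Subtype.ext (support₂_injective (maskOf_injective h))

theorem wt_eq (c : ↥golayCode) : wt c = pop24 (mk' c) := hammingNorm_eq_pop24 _

theorem mk'_mem (c : ↥golayCode) : mk' c ∈ codeList := mem_golayCode_iff_list.1 c.2

theorem wt_cases (c : ↥golayCode) : wt c = 0 ∨ wt c = 8 ∨ wt c = 12 ∨ wt c = 16 ∨ wt c = 24 := by
  rw [wt_eq]
  exact weight_cases (mk'_mem c)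

theorem exists_word {m : ℕ} (h : m ∈ codeList) :
    ∃ c : ↥golayCode, mk' c = m ∧ (c : GolayPt → ZMod 2) = wordOf m :=
  ⟨⟨wordOf m, (wordOf_mem_iff (codeList_lt h)).2 h⟩, maskOf_support_wordOf (codeList_lt h), rfl⟩

theorem add_self_word (c : ↥golayCode) : c + c = 0 := by
  apply Subtype.ext
  show (c : GolayPt → ZMod 2) + c = 0
  rw [← sub_word, sub_self]

theorem mk'_add (c d : ↥golayCode) : mk' (c + d) = mk' c ^^^ mk' d := by
  have hlt : mk' c ^^^ mk' d < 2 ^ 24 := Nat.xor_lt_two_pow (maskOf_lt _) (maskOf_lt _)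
  have e : ((c + d : ↥golayCode) : GolayPt → ZMod 2) = wordOf (mk' c ^^^ mk' d) := by
    rw [wordOf_xor, mk', mk', wordOf_maskOf_support, wordOf_maskOf_support]
    rfl
  show maskOf (support₂ _) = _
  rw [e, maskOf_support_wordOf hlt]

theorem mk'_one : mk' oneW = 16777215 := by
  show maskOf (support₂ (1 : GolayPt → ZMod 2)) = _
  rw [← wordOf_full, maskOf_support_wordOf (by norm_num)]

theorem wt_add_one (c : ↥golayCode) : wt (c + oneW) = 24 - wt c := by
  rw [wt_eq, wt_eq, mk'_add, mk'_one]
  exact (show ∀ m ∈ codeList, pop24 (m ^^^ 16777215) = 24 - pop24 m from fun m hm => by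
    have h : (codeList.all fun m => pop24 (Nat.xor m 16777215) == 24 - pop24 m) = true := by
      decide +kernel
    simpa using List.all_eq_true.1 h m hm) _ (mk'_mem c)

theorem wt_eq_zero {c : ↥golayCode} (h : wt c = 0) : c = 0 := by
  apply Subtype.ext
  exact hammingNorm_eq_zero.1 h

theorem wt_zero : wt 0 = 0 := by simp [wt]

/-- The action of the group on the code. -/
def permC (σ : Equiv.Perm GolayPt) (hσ : σ ∈ M24) (c : ↥golayCode) : ↥golayCode :=
  ⟨permWord σ c, permWord_mem_code hσ c.2⟩

theorem permC_add (σ : Equiv.Perm GolayPt) (hσ : σ ∈ M24) (c d : ↥golayCode) :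
    permC σ hσ (c + d) = permC σ hσ c + permC σ hσ d := rfl

theorem wt_permC (σ : Equiv.Perm GolayPt) (hσ : σ ∈ M24) (c : ↥golayCode) :
    wt (permC σ hσ c) = wt c := by
  show hammingNorm (permWord σ (c : GolayPt → ZMod 2)) = hammingNorm _
  rw [hammingNorm_eq_card, hammingNorm_eq_card, support₂_permWord, Finset.card_smul_finset]

/-- The octad words. -/
abbrev OW : Type := {c : ↥golayCode // wt c = 8}

/-- The octad words related to two given ones. -/
def relSet (a b : ↥golayCode) : Set OW := {q | wt (a + q.1) ≠ 12 ∧ wt (b + q.1) ≠ 12}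

theorem relSet_ncard (a b : ↥golayCode) : (relSet a b).ncard = relCount (mk' a) (mk' b) := by
  classical
  rw [relCount, List.countP_eq_length_filter, ← List.toFinset_card_of_nodup ((weightList_nodup 8).filter _),
    ← Set.ncard_coe_finset]
  refine Set.ncard_congr (fun q _ => mk' q.1) ?_ ?_ ?_
  · rintro ⟨q, hq⟩ ⟨h1, h2⟩
    simp only [List.coe_toFinset, Set.mem_setOf_eq, List.mem_filter, Bool.and_eq_true, bne_iff_ne]
    refine ⟨?_, ?_, ?_⟩
    · simp only [weightList, List.mem_filter, beq_iff_eq]
      exact ⟨mk'_mem q, (wt_eq q).symm.trans hq⟩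
    · rw [wt_eq, mk'_add] at h1; exact h1
    · rw [wt_eq, mk'_add] at h2; exact h2
  · intro q r _ _ h
    exact Subtype.ext (mk'_injective h)
  · intro m hm
    simp only [List.coe_toFinset, Set.mem_setOf_eq, List.mem_filter, Bool.and_eq_true, bne_iff_ne,
      weightList, beq_iff_eq] at hm
    obtain ⟨q, hq, -⟩ := exists_word hm.1.1
    refine ⟨⟨q, by rw [wt_eq, hq]; exact hm.1.2⟩, ⟨?_, ?_⟩, hq⟩
    · rw [wt_eq, mk'_add, hq]; exact hm.2.1
    · rw [wt_eq, mk'_add, hq]; exact hm.2.2

theorem relSet_map {f : OW → OW} (hf : Function.Bijective f)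
    (hp : ∀ a b : OW, wt (a.1 + b.1) = 12 ↔ wt ((f a).1 + (f b).1) = 12) (a b : OW) :
    (relSet (f a).1 (f b).1).ncard = (relSet a.1 b.1).ncard := by
  have e : relSet (f a).1 (f b).1 = f '' relSet a.1 b.1 := by
    ext q
    obtain ⟨q, rfl⟩ := hf.2 q
    rw [hf.1.mem_set_image]
    exact and_congr (not_congr (hp a q).symm) (not_congr (hp b q).symm)
  rw [e, Set.ncard_image_of_injective _ hf.1]

/-- Two related octads are disjoint exactly when they have 87 common relatives. -/
theorem disjoint_iff_count {a b : OW} (hne : a ≠ b) (h12 : wt (a.1 + b.1) ≠ 12) :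
    wt (a.1 + b.1) = 16 ↔ (relSet a.1 b.1).ncard = 87 := by
  have hb0 := baseOct_oct
  simp only [Bool.and_eq_true, beq_iff_eq, Nat.blt_eq] at hb0
  have hbl : baseOct < 2 ^ 24 := by simpa using hb0.2
  obtain ⟨σ, hσ, hσa⟩ := exists_octad_map (o := support₂ (a.1 : GolayPt → ZMod 2)) (o' := setOf baseOct)
    ⟨⟨_, a.1.2, rfl⟩, a.2⟩ (setOf_mem_octads baseOct_oct)
  let f : OW → OW := fun c => ⟨permC σ hσ c.1, (wt_permC σ hσ c.1).trans c.2⟩
  have hfi : Function.Injective f := fun c d h => Subtype.ext (Subtype.ext (funext fun x => by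
    have := congrArg (fun q : OW => (q.1 : GolayPt → ZMod 2) (σ x)) h
    simpa [f, permC, permWord] using this))
  have hfa : mk' (f a).1 = baseOct := by
    show maskOf (support₂ (permWord σ (a.1 : GolayPt → ZMod 2))) = _
    rw [support₂_permWord, hσa, maskOf_setOf hbl]
  have hp : ∀ c d : OW, wt (c.1 + d.1) = 12 ↔ wt ((f c).1 + (f d).1) = 12 := fun c d => by
    show _ ↔ wt (permC σ hσ c.1 + permC σ hσ d.1) = 12
    rw [← permC_add, wt_permC]
  have hw : wt ((f a).1 + (f b).1) = wt (a.1 + b.1) := by
    show wt (permC σ hσ a.1 + permC σ hσ b.1) = _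
    rw [← permC_add, wt_permC]
  rw [← relSet_map (Finite.injective_iff_bijective.1 hfi) hp, relSet_ncard, ← hw, hfa, wt_eq, mk'_add, hfa]
  have hmem : mk' (f b).1 ∈ weightList 8 := by
    simp only [weightList, List.mem_filter, beq_iff_eq]
    exact ⟨mk'_mem _, (wt_eq _).symm.trans (f b).2⟩
  have := List.all_eq_true.1 relCount_base _ hmem
  simp only [Bool.or_eq_true, beq_iff_eq] at this
  have h0 : wt ((f a).1 + (f b).1) ≠ 0 := fun h => hne (hfi (Subtype.ext (by
    rw [← add_zero (f a).1, ← add_self_word (f b).1, ← add_assoc, wt_eq_zero h, zero_add])))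
  rw [← hw] at h12
  rw [wt_eq, mk'_add, hfa] at h0 h12
  rcases this with (e | e) | e
  · exact absurd e h12
  · exact absurd e h0
  · by_cases h16 : pop24 (Nat.xor baseOct (mk' (f b).1)) = 16
    · rw [if_pos h16] at e
      exact ⟨fun _ => e, fun _ => h16⟩
    · rw [if_neg h16] at e
      exact ⟨fun h => absurd h h16, fun h => absurd (e.symm.trans h) (by norm_num)⟩

/-- Coordinates separate the points. -/
theorem separating : ∀ p q : GolayPt, p ≠ q → ∃ i : Fin 12, basisWord i p ≠ basisWord i q := by
  decide +kernel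

theorem basis_wt : ∀ i : Fin 12, hammingNorm (basisWord i) = 8 := by decide +kernel

theorem pivot_basis : ∀ i j : Fin 12, basisWord j (pivot i) = if j = i then 1 else 0 := by
  decide +kernel

/-- The basis as code words. -/
def bW (i : Fin 12) : ↥golayCode := ⟨basisWord i, basisWord_mem i⟩

/-- A linear map respecting the orbits modulo the all-ones word comes from one permutation. -/
theorem exists_perm (x : ↥golayCode ≃ₗ[ZMod 2] ↥golayCode) (h1 : x oneW = oneW)
    (horb : ∀ c, wt (x c) = wt c ∨ wt (x c) = 24 - wt c) :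
    ∃ σ ∈ M24, ∀ c : ↥golayCode,
      ((x c : ↥golayCode) : GolayPt → ZMod 2) = (fun p => (c : GolayPt → ZMod 2) (σ.symm p)) ∨
      ((x c : ↥golayCode) : GolayPt → ZMod 2) =
        (fun p => (c : GolayPt → ZMod 2) (σ.symm p)) + fun _ => (1 : ZMod 2) := by
  classical
  let r : OW → OW := fun c =>
    if h : wt (x c.1) = 8 then ⟨x c.1, h⟩ else ⟨x c.1 + oneW, by
      rw [wt_add_one]; rcases horb c.1 with e | e
      · exact absurd (e.trans c.2) h
      · rw [e, c.2]⟩
  have hr : ∀ c, (r c).1 = x c.1 ∨ (r c).1 = x c.1 + oneW := fun c => by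
    by_cases h : wt (x c.1) = 8
    · exact Or.inl (by simp [r, h])
    · exact Or.inr (by simp [r, h])
  have h12 : ∀ c d : ↥golayCode, (d = c ∨ d = c + oneW) → (wt d = 12 ↔ wt c = 12) := by
    rintro c d (rfl | rfl)
    · rfl
    · rw [wt_add_one]; rcases wt_cases c with e | e | e | e | e <;> rw [e] <;> norm_num
  have hx12 : ∀ c, wt (x c) = 12 ↔ wt c = 12 := fun c => by
    rcases horb c with e | e <;> rw [e] <;> rcases wt_cases c with f | f | f | f | f <;> rw [f] <;> norm_num
  have hoo : oneW + oneW = 0 := add_self_word _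
  have hsum : ∀ c d : OW, (r c).1 + (r d).1 = x (c.1 + d.1) ∨
      (r c).1 + (r d).1 = x (c.1 + d.1) + oneW := fun c d => by
    rcases hr c with e | e <;> rcases hr d with f | f <;> rw [e, f, map_add]
    · exact Or.inl rfl
    · exact Or.inr (by abel)
    · exact Or.inr (by abel)
    · exact Or.inl (by
        rw [show x c.1 + oneW + (x d.1 + oneW) = x c.1 + x d.1 + (oneW + oneW) by abel, hoo, add_zero])
  have hp : ∀ c d : OW, wt (c.1 + d.1) = 12 ↔ wt ((r c).1 + (r d).1) = 12 := fun c d =>
    (hx12 _).symm.trans (h12 _ _ (hsum c d)).symm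
  have hri : Function.Injective r := by
    intro c d h
    have h' := congrArg (fun q : OW => q.1) h
    have hh : (r c).1 + (r d).1 = 0 := by rw [h]; exact add_self_word _
    have : c.1 + d.1 = 0 ∨ c.1 + d.1 = oneW := by
      rcases hsum c d with e | e <;> rw [hh] at e
      · exact Or.inl (x.injective (by rw [← e, map_zero]))
      · refine Or.inr (x.injective ?_)
        rw [h1, ← add_zero (x (c.1 + d.1)), ← hoo, ← add_assoc, ← e, zero_add]
    rcases this with e | e
    · exact Subtype.ext (by rw [← add_zero c.1, ← add_self_word d.1, ← add_assoc, e, zero_add])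
    · have e' : c.1 = d.1 + oneW := by
        rw [← add_zero c.1, ← add_self_word d.1, ← add_assoc, e, add_comm]
      have := c.2
      rw [e', wt_add_one, d.2] at this
      norm_num at this
  -- sums of octads meeting in four points are respected
  have hadd : ∀ c d : OW, ∀ h : wt (c.1 + d.1) = 8, (r ⟨c.1 + d.1, h⟩).1 = (r c).1 + (r d).1 := by
    intro c d h
    have hne : c ≠ d := fun e => by rw [e, add_self_word, wt_zero] at h; norm_num at h
    have hs : wt ((r c).1 + (r d).1) = 8 := by
      rcases hsum c d with e | e <;> rcases horb (c.1 + d.1) with f | f <;> rw [h] at f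
      · rw [e, f]
      · exfalso
        have hw : wt ((r c).1 + (r d).1) = 16 := by rw [e, f]
        have hc := (disjoint_iff_count (hri.ne hne) (by omega)).1 hw
        rw [relSet_map (Finite.injective_iff_bijective.1 hri) hp] at hc
        have := (disjoint_iff_count hne (by omega)).2 hc
        omega
      · exfalso
        have hw : wt ((r c).1 + (r d).1) = 16 := by rw [e, wt_add_one, f]
        have hc := (disjoint_iff_count (hri.ne hne) (by omega)).1 hw
        rw [relSet_map (Finite.injective_iff_bijective.1 hri) hp] at hc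
        have := (disjoint_iff_count hne (by omega)).2 hc
        omega
      · rw [e, wt_add_one, f]
    have key : ∀ u v w : ↥golayCode, (u = w ∨ u = w + oneW) → (v = w ∨ v = w + oneW) → wt u = 8 →
        wt v = 8 → u = v := by
      rintro u v w (rfl | rfl) (rfl | rfl) hu hv
      · rfl
      · rw [wt_add_one, hu] at hv; omega
      · rw [wt_add_one, hv] at hu; omega
      · rfl
    exact key _ _ (x (c.1 + d.1)) (hr ⟨_, h⟩) (hsum c d) (r ⟨_, h⟩).2 hs
  -- the linear lift
  let e : Fin 12 → ZMod 2 := fun i => if (r ⟨bW i, basis_wt i⟩).1 = x (bW i) then 0 else 1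
  let ℓ : ↥golayCode →ₗ[ZMod 2] ZMod 2 :=
    ∑ i : Fin 12, e i • ((LinearMap.proj (pivot i)).comp (Submodule.subtype golayCode))
  let ψ : ↥golayCode →ₗ[ZMod 2] ↥golayCode := x.toLinearMap + ℓ.smulRight oneW
  have hψb : ∀ i, ψ (bW i) = (r ⟨bW i, basis_wt i⟩).1 := by
    intro i
    have hl : ℓ (bW i) = e i := by
      simp [ℓ, bW, LinearMap.sum_apply, pivot_basis]
    show x (bW i) + ℓ (bW i) • oneW = _
    rw [hl]
    by_cases h : (r ⟨bW i, basis_wt i⟩).1 = x (bW i)
    · simp [e, h]
    · have := (hr ⟨bW i, basis_wt i⟩).resolve_left h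
      rw [show e i = 1 from if_neg h, one_smul, this]
  let good : ℕ → Prop := fun m => ∀ q : OW, mk' q.1 = m → ψ q.1 = (r q).1
  have hrun : ∀ (l : List (ℕ × ℕ)) (acc : List ℕ), octRunOk l acc = true →
      (∀ m ∈ acc, m ∈ weightList 8 ∧ good m) → ∀ m ∈ octRun l acc, m ∈ weightList 8 ∧ good m := by
    intro l
    induction l with
    | nil => intro acc _ h m hm; rw [octRun] at hm; exact h m hm
    | cons s l ih =>
      intro acc hok h
      simp only [octRunOk, Bool.and_eq_true, beq_iff_eq, Nat.blt_eq] at hok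
      obtain ⟨⟨⟨hi, hj⟩, hw⟩, hrest⟩ := hok
      have ha := h (acc.getD s.1 0) (by rw [List.getD_eq_getElem _ _ hi]; exact List.getElem_mem _)
      have hb := h (acc.getD s.2 0) (by rw [List.getD_eq_getElem _ _ hj]; exact List.getElem_mem _)
      have ha' := ha.1; have hb' := hb.1
      simp only [weightList, List.mem_filter, beq_iff_eq] at ha' hb'
      obtain ⟨u, hu, -⟩ := exists_word ha'.1
      obtain ⟨v, hv, -⟩ := exists_word hb'.1
      have hu8 : wt u = 8 := by rw [wt_eq, hu]; exact ha'.2
      have hv8 : wt v = 8 := by rw [wt_eq, hv]; exact hb'.2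
      have hm : mk' (u + v) = Nat.xor (acc.getD s.1 0) (acc.getD s.2 0) := by rw [mk'_add, hu, hv]; rfl
      have huv : wt (u + v) = 8 := by rw [wt_eq, hm]; exact hw
      rw [octRun]
      refine ih _ hrest fun m hm' => ?_
      rcases List.mem_append.1 hm' with hm' | hm'
      · exact h m hm'
      · rw [List.mem_singleton] at hm'
        subst hm'
        refine ⟨?_, fun q hq => ?_⟩
        · simp only [weightList, List.mem_filter, beq_iff_eq]
          exact ⟨hm ▸ mk'_mem _, hw⟩
        · obtain rfl : q = ⟨u + v, huv⟩ := Subtype.ext (mk'_injective (hq.trans hm.symm))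
          show ψ (u + v) = _
          rw [map_add, ha.2 ⟨u, hu8⟩ hu, hb.2 ⟨v, hv8⟩ hv, hadd ⟨u, hu8⟩ ⟨v, hv8⟩ huv]
  have hgood : ∀ q : OW, ψ q.1 = (r q).1 := by
    intro q
    have hbase : ∀ m ∈ basisMasks, m ∈ weightList 8 ∧ good m := by
      intro m hm
      obtain ⟨i, hi, rfl⟩ := List.mem_iff_getElem.1 hm
      have hbl : basisMasks[i] < 2 ^ 24 :=
        (show ∀ m ∈ basisMasks, m < 2 ^ 24 by decide) _ hm
      have e2 : mk' (bW ⟨i, hi⟩) = basisMasks[i] := by
        show maskOf (support₂ (wordOf (basisMasks.getD i 0))) = _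
        rw [List.getD_eq_getElem _ _ hi, maskOf_support_wordOf hbl]
      refine ⟨?_, fun q' hq' => ?_⟩
      · simp only [weightList, List.mem_filter, beq_iff_eq]
        exact ⟨e2 ▸ mk'_mem _, by rw [← e2, ← wt_eq]; exact basis_wt _⟩
      · obtain rfl : q' = ⟨bW ⟨i, hi⟩, basis_wt _⟩ := Subtype.ext (mk'_injective (hq'.trans e2.symm))
        exact hψb _
    have hmem : mk' q.1 ∈ weightList 8 := by
      simp only [weightList, List.mem_filter, beq_iff_eq]
      exact ⟨mk'_mem _, (wt_eq _).symm.trans q.2⟩
    have := List.all_eq_true.1 octRun_cov _ hmem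
    exact (hrun _ _ octRun_ok hbase _ (List.contains_iff_mem.1 this)).2 q rfl
  -- the lift fixes the all-ones word
  have hψ1 : ψ oneW = oneW := by
    have ht := octRun_trio
    simp only [Bool.and_eq_true, beq_iff_eq] at ht
    obtain ⟨⟨⟨t1, t2⟩, t3⟩, t4⟩ := ht
    have hlen : ∀ k, pop24 ((octRun octSteps basisMasks).getD k 0) = 8 →
        ∃ c : OW, mk' c.1 = (octRun octSteps basisMasks).getD k 0 := by
      intro k hk
      have hk' : k < (octRun octSteps basisMasks).length := by
        by_contra hge
        rw [List.getD_eq_default _ _ (by omega)] at hk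
        revert hk; decide +kernel
      have hbase : ∀ m ∈ basisMasks, m ∈ codeList := fun m hm =>
        (mem_codeList_iff_inCode ((show ∀ m ∈ basisMasks, m < 2 ^ 24 by decide) m hm)).2
          ((show ∀ m ∈ basisMasks, inCode m = true by decide +kernel) m hm)
      have hcl : ∀ (l : List (ℕ × ℕ)) (acc : List ℕ), (∀ m ∈ acc, m ∈ codeList) →
          octRunOk l acc = true → ∀ m ∈ octRun l acc, m ∈ codeList := by
        intro l
        induction l with
        | nil => intro acc h _ m hm; rw [octRun] at hm; exact h m hm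
        | cons s l ih =>
          intro acc h hok
          simp only [octRunOk, Bool.and_eq_true, beq_iff_eq, Nat.blt_eq] at hok
          obtain ⟨⟨⟨hi, hj⟩, -⟩, hrest⟩ := hok
          rw [octRun]
          refine ih _ (fun m hm => ?_) hrest
          rcases List.mem_append.1 hm with hm | hm
          · exact h m hm
          · rw [List.mem_singleton] at hm
            obtain ⟨u, hu, -⟩ := exists_word (h (acc.getD s.1 0)
              (by rw [List.getD_eq_getElem _ _ hi]; exact List.getElem_mem _))
            obtain ⟨v, hv, -⟩ := exists_word (h (acc.getD s.2 0)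
              (by rw [List.getD_eq_getElem _ _ hj]; exact List.getElem_mem _))
            rw [hm, show Nat.xor (acc.getD s.1 0) (acc.getD s.2 0) = mk' (u + v) by
              rw [mk'_add, hu, hv]; rfl]
            exact mk'_mem _
      obtain ⟨c, hc, -⟩ := exists_word (hcl _ _ hbase octRun_ok ((octRun octSteps basisMasks).getD k 0)
        (by rw [List.getD_eq_getElem _ _ hk']; exact List.getElem_mem _))
      exact ⟨⟨c, by rw [wt_eq, hc]; exact hk⟩, hc⟩
    obtain ⟨a, ha⟩ := hlen _ t1
    obtain ⟨b, hb⟩ := hlen _ t2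
    obtain ⟨c, hc⟩ := hlen _ t3
    have habc : a.1 + b.1 + c.1 = oneW := mk'_injective (by
      rw [mk'_add, mk'_add, ha, hb, hc, mk'_one]; exact t4)
    have hψv : ψ oneW = oneW ∨ ψ oneW = 0 := by
      show x oneW + ℓ oneW • oneW = oneW ∨ x oneW + ℓ oneW • oneW = 0
      rw [h1]
      rcases zmod2_cases (ℓ oneW) with e | e <;> rw [e]
      · exact Or.inl (by rw [zero_smul, add_zero])
      · exact Or.inr (by rw [one_smul, hoo])
    refine hψv.resolve_right fun h0 => ?_
    have hw : wt (ψ a.1 + ψ b.1 + ψ c.1) = 0 := by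
      rw [← map_add, ← map_add, habc, h0, wt_zero]
    rw [hgood, hgood, hgood] at hw
    have hab16 : wt (a.1 + b.1) = 16 := by
      rw [show a.1 + b.1 = c.1 + oneW by
        rw [← habc, show c.1 + (a.1 + b.1 + c.1) = a.1 + b.1 + (c.1 + c.1) by abel, add_self_word, add_zero],
        wt_add_one, c.2]
    have hab : a ≠ b := fun e => by rw [e, add_self_word, wt_zero] at hab16; norm_num at hab16
    have heq : (r a).1 + (r b).1 = (r c).1 := by
      rw [← add_zero ((r a).1 + (r b).1), ← add_self_word (r c).1, ← add_assoc, wt_eq_zero hw, zero_add]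
    have hne12 : wt ((r a).1 + (r b).1) ≠ 12 := by rw [heq, (r c).2]; norm_num
    have hcnt := (disjoint_iff_count hab (by omega)).1 hab16
    rw [← relSet_map (Finite.injective_iff_bijective.1 hri) hp] at hcnt
    have := (disjoint_iff_count (hri.ne hab) hne12).2 hcnt
    rw [heq, (r c).2] at this
    norm_num at this
  -- it preserves all weights
  have hψx : ∀ c, ψ c = x c ∨ ψ c = x c + oneW := fun c => by
    show x c + ℓ c • oneW = x c ∨ _
    rcases zmod2_cases (ℓ c) with e | e
    · exact Or.inl (by rw [e, zero_smul, add_zero])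
    · exact Or.inr (show x c + ℓ c • oneW = _ by rw [e, one_smul])
  have hwt : ∀ c, wt (ψ c) = wt c := by
    intro c
    rcases wt_cases c with f | f | f | f | f
    · rw [wt_eq_zero f, map_zero]
    · rw [hgood ⟨c, f⟩, (r ⟨c, f⟩).2, f]
    · rw [(h12 _ _ (hψx c)).2 ((hx12 c).2 f), f]
    · have hd : wt (c + oneW) = 8 := by rw [wt_add_one, f]
      have e : c = (c + oneW) + oneW := by rw [add_assoc, hoo, add_zero]
      rw [e, map_add, hψ1, wt_add_one, hgood ⟨_, hd⟩, (r ⟨_, hd⟩).2, ← e, f]
    · have e : c = oneW := by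
        have : c + oneW = 0 := wt_eq_zero (by rw [wt_add_one, f])
        rw [← add_zero c, ← hoo, ← add_assoc, this, zero_add]
      rw [e, hψ1]
  have hψi : Function.Injective ψ := (injective_iff_map_eq_zero ψ).2 fun c hc =>
    wt_eq_zero (by rw [← hwt, hc, wt_zero])
  have hψs : Function.Surjective ψ := (Finite.injective_iff_bijective.1 hψi).2
  -- each coordinate of the lift is a coordinate
  haveI : Fintype ↥golayCode := Fintype.ofFinite _
  let s : ZMod 2 → ℤ := fun a => if a = 0 then 1 else -1
  let v : ZMod 2 → ℤ := fun a => if a = 0 then 0 else 1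
  have hsv : ∀ a, s a * v a = -v a := by decide
  have hflip : ∀ a, s (a + 1) = -s a := by decide
  have horth : ∀ μ ν : ↥golayCode →ₗ[ZMod 2] ZMod 2, μ ≠ 0 → ν ≠ 0 → μ ≠ ν →
      ∑ c, s (μ c) * v (ν c) = 0 := by
    intro μ ν hμ hν hne
    obtain ⟨t, ht1, ht0⟩ : ∃ t, μ t = 1 ∧ ν t = 0 := by
      by_contra! h
      have hsub : ∀ c, μ c = 1 → ν c = 1 := fun c hc => (zmod2_cases (ν c)).resolve_left (h c hc)
      obtain ⟨a, ha⟩ : ∃ a, μ a = 1 := by
        by_contra! h'
        exact hμ (LinearMap.ext fun c => (zmod2_cases (μ c)).resolve_right (h' c))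
      refine hne (LinearMap.ext fun c => ?_)
      rcases zmod2_cases (μ c) with hc | hc
      · have h' := hsub (a + c) (by rw [map_add, ha, hc, add_zero])
        rw [map_add, hsub a ha] at h'
        rw [hc]
        exact (by simpa using h' : ν c = 0).symm
      · rw [hc, hsub c hc]
    have e := Equiv.sum_comp (Equiv.addRight t) (fun c => s (μ c) * v (ν c))
    simp only [Equiv.coe_addRight, map_add, ht1, ht0, add_zero, hflip, neg_mul,
      Finset.sum_neg_distrib] at e
    omega
  let coord : GolayPt → (↥golayCode →ₗ[ZMod 2] ZMod 2) := fun p =>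
    (LinearMap.proj p).comp (Submodule.subtype golayCode)
  have hcoord : ∀ p c, coord p c = (c : GolayPt → ZMod 2) p := fun p c => rfl
  have hwsum : ∀ c, (wt c : ℤ) = ∑ q, v (coord q c) := by
    intro c
    rw [wt, hammingNorm, Finset.card_filter, Nat.cast_sum]
    refine Finset.sum_congr rfl fun q _ => ?_
    rw [hcoord]
    rcases zmod2_cases ((c : GolayPt → ZMod 2) q) with e | e <;> simp [v, e]
  have hone : ∀ p, coord p oneW = 1 := fun p => rfl
  have hne0 : ∀ p, coord p ≠ 0 := fun p e => by
    have := hone p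
    rw [e] at this
    simp at this
  have hex : ∀ p, ∃ q, coord q = (coord p).comp ψ := by
    intro p
    by_contra! hno
    set μ := (coord p).comp ψ with hμ
    have hμ1 : μ oneW = 1 := by rw [hμ, LinearMap.comp_apply, hψ1, hone]
    have hμ0 : μ ≠ 0 := fun e => by rw [e] at hμ1; simp at hμ1
    have h0 : ∑ c, s (μ c) * (wt c : ℤ) = 0 := by
      simp only [hwsum, Finset.mul_sum]
      rw [Finset.sum_comm]
      exact Finset.sum_eq_zero fun q _ => horth μ (coord q) hμ0 (hne0 q) (hno q).symm
    have h2 : ∑ c, s (μ c) * (wt (ψ c) : ℤ) = ∑ q, ∑ c, s (μ c) * v ((coord q).comp ψ c) := by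
      simp only [hwsum, Finset.mul_sum, LinearMap.comp_apply]
      rw [Finset.sum_comm]
    have h3 : ∑ q, ∑ c, s (μ c) * v ((coord q).comp ψ c) < 0 := by
      refine Finset.sum_neg' (fun q _ => ?_) ⟨p, Finset.mem_univ _, ?_⟩
      · by_cases e : (coord q).comp ψ = μ
        · rw [e]
          simp only [hsv, Finset.sum_neg_distrib, neg_nonpos]
          exact Finset.sum_nonneg fun c _ => by simp only [v]; split <;> norm_num
        · refine le_of_eq (horth μ _ hμ0 (fun e' => ?_) (Ne.symm e))
          have := hone q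
          rw [← hψ1, ← LinearMap.comp_apply, e'] at this
          simp at this
      · rw [← hμ]
        simp only [hsv, Finset.sum_neg_distrib, neg_lt_zero]
        refine Finset.sum_pos' (fun c _ => by simp only [v]; split <;> norm_num)
          ⟨oneW, Finset.mem_univ _, by simp [v, hμ1]⟩
    rw [← h2] at h3
    simp only [hwt] at h3
    omega
  choose τ hτ using hex
  have hτi : Function.Injective τ := by
    intro p q e
    by_contra hne
    obtain ⟨i, hi⟩ := separating p q hne
    obtain ⟨c, hc⟩ := hψs (bW i)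
    have h2 : coord p (ψ c) = coord q (ψ c) := by
      rw [← LinearMap.comp_apply, ← hτ, e, hτ, LinearMap.comp_apply]
    rw [hc] at h2
    exact hi h2
  let σ : Equiv.Perm GolayPt := (Equiv.ofBijective τ (Finite.injective_iff_bijective.1 hτi)).symm
  have hσ : ∀ c p, (ψ c : GolayPt → ZMod 2) p = (c : GolayPt → ZMod 2) (σ.symm p) := fun c p => by
    show coord p (ψ c) = coord (τ p) c
    rw [hτ]
    rfl
  refine ⟨σ, mem_M24_iff_maps.2 fun w hw => ?_, fun c => ?_⟩
  · rw [show (fun p => w (σ.symm p)) = (ψ ⟨w, hw⟩ : GolayPt → ZMod 2) from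
      funext fun p => (hσ ⟨w, hw⟩ p).symm]
    exact (ψ ⟨w, hw⟩).2
  · rw [show (fun p => (c : GolayPt → ZMod 2) (σ.symm p)) = (ψ c : GolayPt → ZMod 2) from
      funext fun p => (hσ c p).symm]
    rcases hψx c with e | e <;> rw [e]
    · exact Or.inl rfl
    · refine Or.inr ?_
      have : x c = x c + oneW + oneW := by rw [add_assoc, hoo, add_zero]
      exact congrArg (fun w : ↥golayCode => (w : GolayPt → ZMod 2)) this

end

end Cfsg.Agent.Golay24
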