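import Cfsg.Agent.Lib.Golay.OutData
import Cfsg.Agent.Lib.Golay.Sharp

/-!
Outer automorphism groups of the five Mathieu groups.
-/

set_option autoImplicit false

namespace Cfsg.Agent.Golay24

noncomputable section

open Cfsg
open scoped Pointwise

theorem le_closure_of_prog {a b c : ℕ} {gens : List ℕ} {prog : List (ℕ × ℕ)} {ix : List ℕ}
    (h : (validP a && validP b && validP c && slpOk 3 prog &&
      ix.all (fun k => Nat.blt k (3 + prog.length)) &&
      (ix.map (fun k => (slp [a, b, c] prog).getD k 0) == gens)) = true) :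
    Subgroup.closure {σ | ∃ g ∈ gens, toPerm g = σ} ≤
      Subgroup.closure {toPerm a, toPerm b, toPerm c} := by
  simp only [Bool.and_eq_true, beq_iff_eq, List.all_eq_true, Nat.blt_eq] at h
  obtain ⟨⟨⟨⟨⟨ha, hb⟩, hc⟩, hs⟩, hix⟩, he⟩ := h
  rw [Subgroup.closure_le]
  rintro _ ⟨g, hg, rfl⟩
  rw [← he] at hg
  obtain ⟨k, hk, rfl⟩ := List.mem_map.1 hg
  have hk' : k < (slp [a, b, c] prog).length := by rw [slp_length]; simpa using hix k hk
  rw [List.getD_eq_getElem _ _ hk']
  refine (slp_mem (K := Subgroup.closure {toPerm a, toPerm b, toPerm c}) prog [a, b, c] hs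
    (fun p hp => ?_) _ (List.getElem_mem hk')).2
  simp only [List.mem_cons, List.not_mem_nil, or_false] at hp
  rcases hp with rfl | rfl | rfl
  exacts [⟨ha, Subgroup.subset_closure (by simp)⟩, ⟨hb, Subgroup.subset_closure (by simp)⟩,
    ⟨hc, Subgroup.subset_closure (by simp)⟩]

theorem factorization_eq_one {n p m : ℕ} (hp : p.Prime) (hn : n = p * m) (hm : ¬ p ∣ m) :
    n.factorization p = 1 := by
  have hm0 : m ≠ 0 := fun e => hm (e ▸ dvd_zero p)
  rw [hn, Nat.factorization_mul hp.ne_zero hm0, Finsupp.add_apply, hp.factorization_self,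
    Nat.factorization_eq_zero_of_not_dvd hm]

theorem idx_zero : ((idx (some 0) : Fin 24) : ℕ) = 0 := by decide

theorem idx_twentyThree : ((idx none : Fin 24) : ℕ) = 23 := by decide

/-- Certificate for M₂₄. -/
def m24OutHyp : OutHyp m24Out M24 where
  inH g := inM24 g
  mem g hg := toPerm_mem_M24 hg
  le := le_rfl
  fix := []
  sets := []
  hfix _ _ _ hx := by simp at hx
  hsets _ _ _ hs := by simp at hs
  finA g hg hF := eq_one_of_stages hg m24OutStA _ (by decide +kernel) (fixesMask_prefMask hF)
  finB g hg hF := eq_one_of_stages hg m24OutStB _ (by decide +kernel) (fixesMask_prefMask hF)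
  okA := by decide +kernel
  okB := by decide +kernel
  ok := by decide +kernel
  prime := by norm_num [m24Out]
  fac := factorization_eq_one (m := 10644480) (by norm_num [m24Out]) (by rw [card_M24]; rfl)
    (by decide +kernel)
  inH_a := by decide +kernel
  inH_b := by decide +kernel
  inH_c := by decide +kernel
  gen := M24_eq_closure.trans_le (le_closure_of_prog (prog := m24OutProg) (ix := m24OutIdx)
    (by decide +kernel))

/-- Certificate for M₂₃. -/
def m23OutHyp : OutHyp m23Out Spor.M23 where
  inH g := inM24 g && app g 23 == 23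
  mem g hg := by
    simp only [Bool.and_eq_true, beq_iff_eq] at hg
    exact ⟨toPerm_mem_M24 hg.1,
      pt23 ▸ toPerm_mem_stabilizer (by norm_num) (valid_of_inM24 hg.1) hg.2⟩
  le := inf_le_left
  fix := [23]
  sets := []
  hfix g hg x hx := by
    rw [List.mem_singleton] at hx
    rw [idx_inj.1 (Fin.ext (hx.trans idx_twentyThree.symm))]
    exact hg.2
  hsets _ _ _ hs := by simp at hs
  finA g hg hF := eq_one_of_stages hg.1 m23OutStA _ (by decide +kernel) (fixesMask_prefMask hF)
  finB g hg hF := eq_one_of_stages hg.1 m23OutStB _ (by decide +kernel) (fixesMask_prefMask hF)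
  okA := by decide +kernel
  okB := by decide +kernel
  ok := by decide +kernel
  prime := by norm_num [m23Out]
  fac := factorization_eq_one (m := 443520) (by norm_num [m23Out]) (by rw [card_M23]; rfl)
    (by decide +kernel)
  inH_a := by decide +kernel
  inH_b := by decide +kernel
  inH_c := by decide +kernel
  gen := m23_grp.ge.trans (le_closure_of_prog (prog := m23OutProg) (ix := m23OutIdx)
    (by decide +kernel))

/-- Certificate for M₂₂. -/
def m22OutHyp : OutHyp m22Out Spor.M22 where
  inH g := inM24 g && app g 23 == 23 && app g 0 == 0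
  mem g hg := by
    simp only [Bool.and_eq_true, beq_iff_eq] at hg
    exact ⟨⟨toPerm_mem_M24 hg.1.1,
        pt23 ▸ toPerm_mem_stabilizer (by norm_num) (valid_of_inM24 hg.1.1) hg.1.2⟩,
      toPerm_mem_stabilizer (b := 0) (by norm_num) (valid_of_inM24 hg.1.1) hg.2⟩
  le := inf_le_left.trans inf_le_left
  fix := [23, 0]
  sets := []
  hfix g hg x hx := by
    rw [List.mem_cons, List.mem_singleton] at hx
    rcases hx with hx | hx
    · rw [idx_inj.1 (Fin.ext (hx.trans idx_twentyThree.symm))]
      exact hg.1.2
    · rw [idx_inj.1 (Fin.ext (hx.trans idx_zero.symm))]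
      exact hg.2
  hsets _ _ _ hs := by simp at hs
  finA g hg hF := eq_one_of_stages hg.1.1 m22OutStA _ (by decide +kernel) (fixesMask_prefMask hF)
  finB g hg hF := eq_one_of_stages hg.1.1 m22OutStB _ (by decide +kernel) (fixesMask_prefMask hF)
  okA := by decide +kernel
  okB := by decide +kernel
  ok := by decide +kernel
  prime := by norm_num [m22Out]
  fac := factorization_eq_one (m := 40320) (by norm_num [m22Out]) (by rw [card_M22]; rfl)
    (by decide +kernel)
  inH_a := by decide +kernel
  inH_b := by decide +kernel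
  inH_c := by decide +kernel
  gen := m22_grp.ge.trans (le_closure_of_prog (prog := m22OutProg) (ix := m22OutIdx)
    (by decide +kernel))

/-- Certificate for M₁₂. -/
def m12OutHyp : OutHyp m12Out Spor.M12 where
  inH g := inM24 g && img g sqDod == sqDod
  mem g hg := by
    simp only [Bool.and_eq_true, beq_iff_eq] at hg
    refine ⟨toPerm_mem_M24 hg.1, ?_⟩
    show toPerm g • Spor.squareDodecad = Spor.squareDodecad
    rw [← setOf_sqDod, smul_setOf (valid_of_inM24 hg.1), hg.2]
  le := inf_le_left
  fix := []
  sets := [340831]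
  hfix _ _ _ hx := by simp at hx
  hsets g hg s hs := by
    rw [List.mem_singleton] at hs
    subst hs
    show g • setOf sqDod = setOf sqDod
    rw [setOf_sqDod]; exact hg.2
  finA g hg hF := M12_eq_one_of_fix hg (F := m12Out.cA.srcs []) (by decide +kernel) hF
  finB g hg hF := M12_eq_one_of_fix hg (F := m12Out.cB.srcs []) (by decide +kernel) hF
  okA := by decide +kernel
  okB := by decide +kernel
  ok := by decide +kernel
  prime := by norm_num [m12Out]
  fac := factorization_eq_one (m := 8640) (by norm_num [m12Out]) (by rw [card_M12]; rfl)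
    (by decide +kernel)
  inH_a := by decide +kernel
  inH_b := by decide +kernel
  inH_c := by decide +kernel
  gen := m12_grp.ge.trans (le_closure_of_prog (prog := m12OutProg) (ix := m12OutIdx)
    (by decide +kernel))

/-- Certificate for M₁₁. -/
def m11OutHyp : OutHyp m11Out Spor.M11 where
  inH g := inM24 g && img g sqDod == sqDod && app g 0 == 0
  mem g hg := by
    simp only [Bool.and_eq_true, beq_iff_eq] at hg
    refine ⟨⟨toPerm_mem_M24 hg.1.1, ?_⟩,
      toPerm_mem_stabilizer (b := 0) (by norm_num) (valid_of_inM24 hg.1.1) hg.2⟩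
    show toPerm g • Spor.squareDodecad = Spor.squareDodecad
    rw [← setOf_sqDod, smul_setOf (valid_of_inM24 hg.1.1), hg.1.2]
  le := inf_le_left.trans inf_le_left
  fix := [0]
  sets := [340831]
  hfix g hg x hx := by
    rw [List.mem_singleton] at hx
    rw [idx_inj.1 (Fin.ext (hx.trans idx_zero.symm))]
    exact hg.2
  hsets g hg s hs := by
    rw [List.mem_singleton] at hs
    subst hs
    show g • setOf sqDod = setOf sqDod
    rw [setOf_sqDod]; exact hg.1.2
  finA g hg hF := M12_eq_one_of_fix hg.1 (F := m11Out.cA.srcs [0]) (by decide +kernel) hF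
  finB g hg hF := M12_eq_one_of_fix hg.1 (F := m11Out.cB.srcs [0]) (by decide +kernel) hF
  okA := by decide +kernel
  okB := by decide +kernel
  ok := by decide +kernel
  prime := by norm_num [m11Out]
  fac := factorization_eq_one (m := 720) (by norm_num [m11Out]) (by rw [card_M11]; rfl)
    (by decide +kernel)
  inH_a := by decide +kernel
  inH_b := by decide +kernel
  inH_c := by decide +kernel
  gen := m11_grp.ge.trans (le_closure_of_prog (prog := m11OutProg) (ix := m11OutIdx)
    (by decide +kernel))

theorem card_out_M24 : Nat.card (Out M24) = 1 := m24OutHyp.card_one (by decide +kernel)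

theorem card_out_M23 : Nat.card (Out Spor.M23) = 1 := m23OutHyp.card_one (by decide +kernel)

theorem card_out_M11 : Nat.card (Out Spor.M11) = 1 := m11OutHyp.card_one (by decide +kernel)

theorem card_out_M22 : Nat.card (Out Spor.M22) = 2 :=
  m22OutHyp.card_two m22OutSig m22OutC (by decide +kernel)
    (fun _ hg hF => eq_one_of_stages hg.1.1 m22OutStA _ (by decide +kernel) (fixesMask_prefMask hF))

theorem card_out_M12 : Nat.card (Out Spor.M12) = 2 :=
  m12OutHyp.card_two m12OutSig m12OutC (by decide +kernel)
    (fun _ hg hF => M12_eq_one_of_fix hg (F := m12OutC.srcs []) (by decide +kernel) hF)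

end

end Cfsg.Agent.Golay24
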