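import Cfsg.Agent.Lib.Golay.SylowCert

/-!
Certificates listing every element `g` of a subgroup of `Cfsg.M24` with `g * a = a' * g`: each
image of one position either extends to a listed element or contradicts the octads.
-/

set_option autoImplicit false

namespace Cfsg.Agent.Golay24

noncomputable section

open Cfsg
open scoped Pointwise

/-- Why one image is possible or impossible. -/
inductive EqLeaf where
  | found (g : ℕ)
  | clash (i j : ℕ)
  | setBad (s i : ℕ)
  | octBad (win : List ℕ) (o₁ o₂ k : ℕ)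

/-- The forced images along the cycle of a position. -/
def cycPairs (a a' : ℕ) : ℕ → ℕ → ℕ → List (ℕ × ℕ)
  | 0, x, y => [(x, y)]
  | n + 1, x, y => (x, y) :: cycPairs a a' n (app a x) (app a' y)

/-- All forced images, starting with the fixed positions. -/
def eqPairs (fix : List ℕ) (a a' n x y : ℕ) : List (ℕ × ℕ) :=
  fix.map (fun f => (f, f)) ++ cycPairs a a' n x y

/-- The mask of a list of positions. -/
def listMask (l : List ℕ) : ℕ := l.foldr (fun i r => Nat.lor (Nat.shiftLeft 1 i) r) 0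

theorem testBit_listMask (l : List ℕ) (i : ℕ) : (listMask l).testBit i = l.contains i := by
  induction l with
  | nil => simp [listMask]
  | cons a l ih =>
    have e : listMask (a :: l) = (1 <<< a) ||| listMask l := rfl
    rw [e, Nat.testBit_or, ih, Nat.one_shiftLeft, Nat.testBit_two_pow, List.contains_cons]
    congr 1
    rw [Bool.eq_iff_iff, decide_eq_true_eq, beq_iff_eq, eq_comm]

/-- Check one leaf. -/
def leafOk (sets sols : List ℕ) (pr : List (ℕ × ℕ)) : EqLeaf → Bool
  | .found g => sols.contains g && pr.all fun p => app g p.1 == p.2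
  | .clash i j => Nat.blt i pr.length && Nat.blt j pr.length &&
      (((pr.getD i (0, 0)).1 == (pr.getD j (0, 0)).1) != ((pr.getD i (0, 0)).2 == (pr.getD j (0, 0)).2))
  | .setBad s i => sets.contains s && Nat.blt i pr.length &&
      (Nat.testBit s (pr.getD i (0, 0)).1 != Nat.testBit s (pr.getD i (0, 0)).2)
  | .octBad win o₁ o₂ k => win.all (fun i => Nat.blt i pr.length) && Nat.blt k pr.length &&
      isOct o₁ && isOct o₂ && Nat.ble 5 (pop24 (listMask (win.map fun i => (pr.getD i (0, 0)).1))) &&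
      win.all (fun i => Nat.testBit o₁ (pr.getD i (0, 0)).1 && Nat.testBit o₂ (pr.getD i (0, 0)).2) &&
      (Nat.testBit o₁ (pr.getD k (0, 0)).1 != Nat.testBit o₂ (pr.getD k (0, 0)).2)

/-- An equation with its case analysis. -/
structure EqCert where
  a : ℕ
  a' : ℕ
  x : ℕ
  n : ℕ
  leaves : List EqLeaf
  sols : List ℕ

/-- The positions whose images are forced by the image of `x`. -/
def EqCert.srcs (c : EqCert) (fix : List ℕ) : List ℕ :=
  fix ++ (cycPairs c.a c.a c.n c.x c.x).map Prod.fst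

/-- All checks. -/
def EqCert.ok (c : EqCert) (inH : ℕ → Bool) (fix sets : List ℕ) : Bool :=
  validP c.a && validP c.a' && Nat.blt c.x 24 && fix.all (fun f => Nat.blt f 24) &&
    c.sols.all (fun g => validP g && inH g) &&
    (List.range 24).all fun y =>
      leafOk sets c.sols (eqPairs fix c.a c.a' c.n c.x y) (c.leaves.getD y (.clash 0 0))

/-- A position as a point. -/
def ptN (i : ℕ) : GolayPt := pt ⟨i % 24, Nat.mod_lt _ (by norm_num)⟩

theorem idx_ptN {i : ℕ} (hi : i < 24) : (idx (ptN i) : ℕ) = i := by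
  rw [ptN, idx_pt]; exact Nat.mod_eq_of_lt hi

theorem ptN_idx (x : GolayPt) : ptN (idx x) = x :=
  idx_inj.1 (Fin.ext (idx_ptN (idx x).isLt))

theorem ptN_app {p : ℕ} (hp : validP p = true) {i : ℕ} (hi : i < 24) :
    ptN (app p i) = toPerm p (ptN i) :=
  idx_inj.1 (Fin.ext (by rw [idx_ptN (app_lt hp ⟨i, hi⟩), idx_toPerm hp, idx_ptN hi]))

theorem cycPairs_map {a a' : ℕ} (ha : validP a = true) (ha' : validP a' = true)
    {σ : Equiv.Perm GolayPt} (he : σ * toPerm a = toPerm a' * σ) :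
    ∀ (n x y : ℕ), x < 24 → y < 24 → σ (ptN x) = ptN y →
      ∀ p ∈ cycPairs a a' n x y, p.1 < 24 ∧ p.2 < 24 ∧ σ (ptN p.1) = ptN p.2 := by
  intro n
  induction n with
  | zero =>
    intro x y hx hy h p hp
    rw [cycPairs, List.mem_singleton] at hp
    subst hp
    exact ⟨hx, hy, h⟩
  | succ n ih =>
    intro x y hx hy h p hp
    rw [cycPairs, List.mem_cons] at hp
    rcases hp with rfl | hp
    · exact ⟨hx, hy, h⟩
    · refine ih _ _ (app_lt ha ⟨x, hx⟩) (app_lt ha' ⟨y, hy⟩) ?_ p hp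
      rw [ptN_app ha hx, ptN_app ha' hy, ← h]
      exact congrArg (fun f : Equiv.Perm GolayPt => f (ptN x)) he

theorem cycPairs_fst (a a' : ℕ) : ∀ (n x y : ℕ),
    (cycPairs a a' n x y).map Prod.fst = (cycPairs a a n x x).map Prod.fst := by
  intro n
  induction n with
  | zero => intro x y; simp [cycPairs]
  | succ n ih => intro x y; simp [cycPairs, ih (app a x) (app a' y)]

/-- Every solution of the equation is listed. -/
theorem EqCert.sound (c : EqCert) {inH : ℕ → Bool} {fix sets : List ℕ}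
    (hok : c.ok inH fix sets = true) {H : Subgroup (Equiv.Perm GolayPt)}
    (hH : ∀ g, inH g = true → toPerm g ∈ H) (hM : H ≤ M24)
    (hfix : ∀ g ∈ H, FixesList g fix) (hsets : ∀ g ∈ H, ∀ s ∈ sets, g • setOf s = setOf s)
    (hfin : ∀ g ∈ H, FixesList g (c.srcs fix) → g = 1)
    {σ : Equiv.Perm GolayPt} (hσ : σ ∈ H) (he : σ * toPerm c.a = toPerm c.a' * σ) :
    ∃ g ∈ c.sols, σ = toPerm g := by
  simp only [EqCert.ok, Bool.and_eq_true, List.all_eq_true, List.mem_range, Nat.blt_eq] at hok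
  obtain ⟨⟨⟨⟨⟨ha, ha'⟩, hx⟩, hf24⟩, hsols⟩, hleaf⟩ := hok
  set y : ℕ := (idx (σ (ptN c.x)) : ℕ) with hy
  have hy24 : y < 24 := (idx _).isLt
  have hpr : ∀ p ∈ eqPairs fix c.a c.a' c.n c.x y, p.1 < 24 ∧ p.2 < 24 ∧ σ (ptN p.1) = ptN p.2 := by
    intro p hp
    rcases List.mem_append.1 hp with hp | hp
    · obtain ⟨f, hf, rfl⟩ := List.mem_map.1 hp
      exact ⟨hf24 f hf, hf24 f hf, hfix σ hσ _ (by rw [idx_ptN (hf24 f hf)]; exact hf)⟩
    · exact cycPairs_map ha ha' he c.n c.x y hx hy24 (ptN_idx _).symm p hp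
  have hl := hleaf y hy24
  set pr := eqPairs fix c.a c.a' c.n c.x y with hprdef
  have hget : ∀ i, i < pr.length → (pr.getD i (0, 0)).1 < 24 ∧ (pr.getD i (0, 0)).2 < 24 ∧
      σ (ptN (pr.getD i (0, 0)).1) = ptN (pr.getD i (0, 0)).2 := fun i hi => by
    rw [List.getD_eq_getElem _ _ hi]; exact hpr _ (List.getElem_mem hi)
  cases hcase : c.leaves.getD y (.clash 0 0) with
  | found g =>
    rw [hcase] at hl
    simp only [leafOk, Bool.and_eq_true, List.contains_iff_mem, List.all_eq_true, beq_iff_eq] at hl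
    obtain ⟨hg, hag⟩ := hl
    obtain ⟨hgv, hgH⟩ := hsols g hg
    refine ⟨g, hg, ?_⟩
    have h1 := hfin ((toPerm g)⁻¹ * σ) (H.mul_mem (H.inv_mem (hH g hgH)) hσ) ?_
    · exact (inv_mul_eq_one.1 h1).symm
    intro z hz
    have hz' : (idx z : ℕ) ∈ pr.map Prod.fst := by
      rw [hprdef, eqPairs, List.map_append, List.map_map, cycPairs_fst]
      simpa [EqCert.srcs, Function.comp_def] using hz
    obtain ⟨p, hp, hpz⟩ := List.mem_map.1 hz'
    obtain ⟨hp1, hp2, hσp⟩ := hpr p hp
    have hzp : z = ptN p.1 := by rw [hpz, ptN_idx]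
    rw [Equiv.Perm.mul_apply, hzp, hσp, ← hag p hp, ptN_app hgv hp1]
    simp
  | clash i j =>
    exfalso
    rw [hcase] at hl
    simp only [leafOk, Bool.and_eq_true, Nat.blt_eq, bne_iff_ne] at hl
    obtain ⟨⟨hi, hj⟩, hne⟩ := hl
    obtain ⟨a1, b1, c1⟩ := hget i hi
    obtain ⟨a2, b2, c2⟩ := hget j hj
    apply hne
    rw [Bool.eq_iff_iff, beq_iff_eq, beq_iff_eq]
    constructor
    · intro e
      rw [e, c2] at c1
      have := congrArg (fun z => (idx z : ℕ)) c1
      simp only [idx_ptN b1, idx_ptN b2] at this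
      exact this.symm
    · intro e
      rw [e, ← c2] at c1
      have := congrArg (fun z => (idx z : ℕ)) (σ.injective c1)
      simp only [idx_ptN a1, idx_ptN a2] at this
      exact this
  | setBad s i =>
    exfalso
    rw [hcase] at hl
    simp only [leafOk, Bool.and_eq_true, Nat.blt_eq, bne_iff_ne, List.contains_iff_mem] at hl
    obtain ⟨⟨hs, hi⟩, hne⟩ := hl
    obtain ⟨a1, b1, c1⟩ := hget i hi
    apply hne
    have e := hsets σ hσ s hs
    have m1 : ptN (pr.getD i (0, 0)).1 ∈ setOf s ↔ Nat.testBit s (pr.getD i (0, 0)).1 = true := by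
      rw [mem_setOf, idx_ptN a1]
    have m2 : ptN (pr.getD i (0, 0)).2 ∈ setOf s ↔ Nat.testBit s (pr.getD i (0, 0)).2 = true := by
      rw [mem_setOf, idx_ptN b1]
    rw [Bool.eq_iff_iff, ← m1, ← m2, ← c1]
    conv_rhs => rw [← e, ← Equiv.Perm.smul_def, Finset.smul_mem_smul_finset_iff]
  | octBad win o₁ o₂ k =>
    exfalso
    rw [hcase] at hl
    simp only [leafOk, Bool.and_eq_true, List.all_eq_true, Nat.blt_eq, Nat.ble_eq, bne_iff_ne] at hl
    obtain ⟨⟨⟨⟨⟨⟨hwin, hk⟩, ho1⟩, ho2⟩, hfive⟩, hin⟩, hne⟩ := hl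
    have heq : σ • setOf o₁ = setOf o₂ := by
      refine octad_unique (smul_mem_octads (hM hσ) (setOf_mem_octads ho1)) (setOf_mem_octads ho2) ?_
      refine le_trans hfive ?_
      rw [← card_setOf, ← Finset.card_smul_finset σ]
      refine Finset.card_le_card fun z hz => ?_
      obtain ⟨u, hu, rfl⟩ := Finset.mem_smul_finset.1 hz
      rw [mem_setOf, testBit_listMask, List.contains_iff_mem, List.mem_map] at hu
      obtain ⟨i, hi, hiu⟩ := hu
      obtain ⟨a1, b1, c1⟩ := hget i (hwin i hi)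
      have hue : u = ptN (pr.getD i (0, 0)).1 := by rw [hiu, ptN_idx]
      subst hue
      rw [Finset.mem_inter, Finset.smul_mem_smul_finset_iff, Equiv.Perm.smul_def, c1, mem_setOf,
        mem_setOf, idx_ptN a1, idx_ptN b1]
      exact hin i hi
    obtain ⟨a1, b1, c1⟩ := hget k hk
    apply hne
    have m1 : ptN (pr.getD k (0, 0)).1 ∈ setOf o₁ ↔ Nat.testBit o₁ (pr.getD k (0, 0)).1 = true := by
      rw [mem_setOf, idx_ptN a1]
    have m2 : ptN (pr.getD k (0, 0)).2 ∈ setOf o₂ ↔ Nat.testBit o₂ (pr.getD k (0, 0)).2 = true := by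
      rw [mem_setOf, idx_ptN b1]
    rw [Bool.eq_iff_iff, ← m1, ← m2, ← c1, ← heq, ← Equiv.Perm.smul_def,
      Finset.smul_mem_smul_finset_iff]

end

end Cfsg.Agent.Golay24
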