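import Cfsg.Agent.Lib.Golay.Classes

/-!
No element of M24 exchanging the two base points of M22 centralises M22.
-/

set_option autoImplicit false

namespace Cfsg.Agent.Golay24

noncomputable section

open Cfsg

/-- For each further point, two elements of M22 with exactly one more common fixed point. -/
def pairCert : List (ℕ × ℕ × ℕ) :=
  [
   (1, 971613760236256475791948133515762720,
    978062493969230072107245520137130016),
   (2, 982769631805873051938917216028067872,
    975728673622143432645899101072001632),
   (3, 967514282420575614805848619835575680,
    967514282420575614805848619835575680),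
   (4, 984642754306893001986305023279301696,
    975728673622143432645899101072001632),
   (5, 958681610904757910174934185966613856,
    958681610904757910174934185966613856),
   (6, 977023162256012346780204420257387968,
    981818388453012173632899796287654048),
   (7, 963353824754132619725051213000647136,
    975728673622143432645899101072001632),
   (8, 960678244363939557527536377422598336,
    960678244363939557527536377422598336),
   (9, 961366620066299227511962827223409024,
    963353824754132619725051213000647136),
   (10, 971790382508593133073765314623483552,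
    971790382508593133073765314623483552),
   (11, 967648672941693543457325126830991968,
    967648672941693543457325126830991968),
   (12, 957277147074881451436211569704968416,
    957277147074881451436211569704968416),
   (13, 983467745420790854603882276713576544,
    981453861453989423879158201720296928),
   (14, 981818388453012173632899796287654048,
    967484943516029277022033541159072352),
   (15, 957506586961620438174633236733432096,
    957506586961620438174633236733432096),
   (16, 982081969456243468623417420545492224,
    962573627085667043709775067009722400),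
   (17, 963600345913500546175524779881246976,
    984728318097572058002623567840450592),
   (18, 971288411755208948877048806986433664,
    984642754306893001986305023279301696),
   (19, 983463123589640320304564439147252864,
    983463123589640320304564439147252864),
   (20, 968916815209839517355248195937093664,
    966523237248730125785207274809276928),
   (21, 973135576048651614556930197424749888,
    975728673622143432645899101072001632),
   (22, 984598571650922270061131096587915680,
    984598571650922270061131096587915680)]

/-- Checks on the certificate. -/
def pairCertOk : Bool :=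
  (pairCert.all fun t =>
      [t.2.1, t.2.2].all (fun g => inM24 g && app g 23 == 23 && app g 0 == 0) &&
        (List.range 24).all fun i =>
          ((app t.2.1 i == i) && (app t.2.2 i == i)) == (i == 23 || i == 0 || i == t.1)) &&
    (List.range 24).all fun i => i == 23 || i == 0 || pairCert.any fun t => t.1 == i

theorem pairCert_ok : pairCertOk = true := by decide +kernel

theorem no_swap_central {c : Equiv.Perm GolayPt} (hc : c ∈ M24) (h : c none = some 0)
    (hcom : ∀ x ∈ Spor.M22, c * x = x * c) : False := by
  classical
  have hok := pairCert_ok
  simp only [pairCertOk, Bool.and_eq_true, List.all_eq_true, List.mem_range, Bool.or_eq_true,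
    List.any_eq_true, beq_iff_eq] at hok
  obtain ⟨hall, hcov⟩ := hok
  have hi : (idx (none : GolayPt) : ℕ) = 23 ∧ (idx (some 0 : GolayPt) : ℕ) = 0 := by decide +kernel
  have hM22 : ∀ g : ℕ, inM24 g = true → app g 23 = 23 → app g 0 = 0 → toPerm g ∈ Spor.M22 := by
    intro g hg h1 h2
    refine ⟨⟨toPerm_mem_M24 hg, ?_⟩, ?_⟩ <;>
      refine idx_inj.1 (Fin.ext ?_) <;> rw [Equiv.Perm.smul_def, idx_toPerm (valid_of_inM24 hg)]
    · rw [hi.1, h1]
    · rw [hi.2, h2]
  have hperm : ∀ x ∈ Spor.M22, ∀ q, x q = q → x (c q) = c q := fun x hx q hq => by
    have e := congrArg (fun e : Equiv.Perm GolayPt => e q) (hcom x hx)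
    simpa [hq] using e.symm
  have key : ∀ q : GolayPt, ∀ t ∈ pairCert, (idx q : ℕ) = 23 ∨ (idx q : ℕ) = 0 ∨ (idx q : ℕ) = t.1 →
      (idx (c q) : ℕ) = 23 ∨ (idx (c q) : ℕ) = 0 ∨ (idx (c q) : ℕ) = t.1 := by
    intro q t ht hq
    obtain ⟨hg, hfix⟩ := hall t ht
    have hu : ∀ g ∈ [t.2.1, t.2.2], app g (idx (c q)) = (idx (c q) : ℕ) := by
      intro g hg'
      obtain ⟨⟨hin, h1⟩, h2⟩ := hg g hg'
      have hv := valid_of_inM24 hin
      have hqf : toPerm g q = q := by
        refine idx_inj.1 (Fin.ext ?_)
        rw [idx_toPerm hv]
        have h3 := hfix (idx q) (idx q).isLt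
        rw [Bool.eq_iff_iff] at h3
        simp only [Bool.and_eq_true, Bool.or_eq_true, beq_iff_eq] at h3
        obtain ⟨ha, hb⟩ := h3.2 (by tauto)
        simp only [List.mem_cons, List.not_mem_nil, or_false] at hg'
        rcases hg' with rfl | rfl
        · exact ha
        · exact hb
      have := congrArg (fun z => (idx z : ℕ)) (hperm _ (hM22 g hin h1 h2) q hqf)
      simpa [idx_toPerm hv] using this
    have h3 := hfix (idx (c q)) (idx (c q)).isLt
    rw [Bool.eq_iff_iff] at h3
    simp only [Bool.and_eq_true, Bool.or_eq_true, beq_iff_eq] at h3
    have := h3.1 ⟨hu _ List.mem_cons_self, hu _ (List.mem_cons_of_mem _ List.mem_cons_self)⟩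
    tauto
  have hcov' : ∀ q : GolayPt, q = none ∨ q = some 0 ∨ ∃ t ∈ pairCert, t.1 = (idx q : ℕ) := by
    intro q
    rcases hcov (idx q) (idx q).isLt with (h' | h') | h'
    · exact Or.inl (idx_inj.1 (Fin.ext (h'.trans hi.1.symm)))
    · exact Or.inr (Or.inl (idx_inj.1 (Fin.ext (h'.trans hi.2.symm))))
    · exact Or.inr (Or.inr h')
  have hc0 : c (some 0) = none := by
    by_contra hne
    rcases hcov' (c (some 0)) with h' | h' | ⟨t, -, ht⟩
    · exact hne h'
    · exact absurd (c.injective (h'.trans h.symm)) (by simp)
    · obtain ⟨s, hs, hst⟩ : ∃ s ∈ pairCert, s.1 ≠ t.1 := by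
        rcases hcov' (some 1) with h' | h' | ⟨s₁, hs₁, hse⟩
        · simp at h'
        · exact absurd h' (by decide +kernel)
        rcases hcov' (some 2) with h' | h' | ⟨s₂, hs₂, hse'⟩
        · simp at h'
        · exact absurd h' (by decide +kernel)
        by_cases hh : s₁.1 = t.1
        · refine ⟨s₂, hs₂, fun e => ?_⟩
          have := idx_inj.1 (Fin.ext ((hse.symm.trans hh).trans (e.symm.trans hse')))
          exact absurd this (by decide +kernel)
        · exact ⟨s₁, hs₁, hh⟩
      rcases key (some 0) s hs (Or.inr (Or.inl hi.2)) with h' | h' | h'
      · exact hne (idx_inj.1 (Fin.ext (h'.trans hi.1.symm)))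
      · exact absurd (c.injective ((idx_inj.1 (Fin.ext (h'.trans hi.2.symm))).trans h.symm)) (by simp)
      · exact hst (by rw [ht, h'])
  have hrest : ∀ q, q ≠ none → q ≠ some 0 → c q = q := by
    intro q hq1 hq2
    rcases hcov' q with h' | h' | ⟨t, ht, hte⟩
    · exact absurd h' hq1
    · exact absurd h' hq2
    rcases key q t ht (Or.inr (Or.inr hte.symm)) with h' | h' | h'
    · exact absurd (c.injective ((idx_inj.1 (Fin.ext (h'.trans hi.1.symm))).trans hc0.symm)) hq2
    · exact absurd (c.injective ((idx_inj.1 (Fin.ext (h'.trans hi.2.symm))).trans h.symm)) hq1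
    · exact idx_inj.1 (Fin.ext (h'.trans hte))
  have hfc : fixCount c = 22 := by
    have e : (Finset.univ.filter fun x => c x = x) = Finset.univ \ {none, some 0} := by
      ext q
      simp only [Finset.mem_filter, Finset.mem_univ, true_and, Finset.mem_sdiff, Finset.mem_insert,
        Finset.mem_singleton, not_or]
      constructor
      · intro hq
        exact ⟨fun e => by rw [e, h] at hq; simp at hq, fun e => by rw [e, hc0] at hq; simp at hq⟩
      · rintro ⟨h1, h2⟩
        exact hrest q h1 h2
    rw [fixCount, e]
    decide +kernel
  have hord : orderOf c = 2 := by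
    refine orderOf_eq_prime (Equiv.ext fun q => ?_) fun e => ?_
    · by_cases h1 : q = none
      · simp [pow_two, h1, h, hc0]
      by_cases h2 : q = some 0
      · simp [pow_two, h2, h, hc0]
      simp [pow_two, hrest q h1 h2]
    · rw [e] at h; simp at h
  rcases involution_fix hc hord with h' | h' <;> omega

end

end Cfsg.Agent.Golay24
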