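import Cfsg.Agent.Lib.Golay.Code

/-!
Permutations of the 24 points as packed numbers (24 fields of 5 bits), membership in `Cfsg.M24`,
and certificates: straight-line programs, transversal chains, orbit trees.
-/

set_option autoImplicit false

namespace Cfsg.Agent.Golay24

noncomputable section

open Cfsg
open scoped Pointwise

/-- Image of a position under a packed permutation. -/
def app (p i : ℕ) : ℕ := Nat.land (Nat.shiftRight p (5 * i)) 31

/-- Image of the part of a mask below `n`. -/
noncomputable def imgTo (p m n : ℕ) : ℕ :=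
  Nat.rec (motive := fun _ => ℕ) 0
    (fun n r => Nat.lor (Nat.shiftLeft (Nat.land (Nat.shiftRight m n) 1) (app p n)) r) n

/-- Image of a mask. -/
noncomputable def img (p m : ℕ) : ℕ := imgTo p m 24

/-- The part below `n` of a composite. -/
noncomputable def compTo (p q n : ℕ) : ℕ :=
  Nat.rec (motive := fun _ => ℕ) 0
    (fun n r => Nat.lor (Nat.shiftLeft (app p (app q n)) (5 * n)) r) n

/-- Composite of packed permutations: first `q`, then `p`. -/
noncomputable def compP (p q : ℕ) : ℕ := compTo p q 24

/-- The packed code is a permutation. -/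
noncomputable def validP (p : ℕ) : Bool := img p 16777215 == 16777215

theorem testBit_imgTo (p m n j : ℕ) :
    (imgTo p m n).testBit j = true ↔ ∃ i < n, m.testBit i = true ∧ app p i = j := by
  induction n with
  | zero => simp [imgTo]
  | succ n ih =>
    have e : imgTo p m (n + 1) = (((m >>> n) &&& 1) <<< app p n) ||| imgTo p m n := rfl
    rw [e, Nat.testBit_or, Bool.or_eq_true, ih, Nat.testBit_shiftLeft]
    constructor
    · rintro (h | ⟨i, hi, h⟩)
      · simp only [Bool.and_eq_true, decide_eq_true_eq, Nat.testBit_and, Nat.testBit_shiftRight,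
          Nat.testBit_one_eq_true_iff_self_eq_zero] at h
        obtain ⟨h1, h2, h3⟩ := h
        have hj : app p n = j := by omega
        refine ⟨n, by omega, ?_, hj⟩
        rw [hj] at h2
        simpa using h2
      · exact ⟨i, by omega, h⟩
    · rintro ⟨i, hi, h1, h2⟩
      rcases Nat.lt_succ_iff_lt_or_eq.1 hi with hi | rfl
      · exact Or.inr ⟨i, hi, h1, h2⟩
      · subst h2
        left
        simp [Nat.testBit_and, Nat.testBit_shiftRight, h1]

theorem testBit_img (p m j : ℕ) :
    (img p m).testBit j = true ↔ ∃ i : Fin 24, m.testBit i = true ∧ app p i = j := by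
  rw [img, testBit_imgTo]
  exact ⟨fun ⟨i, hi, h⟩ => ⟨⟨i, hi⟩, h⟩, fun ⟨i, h⟩ => ⟨i, i.isLt, h⟩⟩

theorem app_lt {p : ℕ} (h : validP p = true) (i : Fin 24) : app p i < 24 := by
  by_contra hge
  have h1 : (img p 16777215).testBit (app p i) = true :=
    (testBit_img _ _ _).2 ⟨i, (by decide : ∀ i : Fin 24, (16777215 : ℕ).testBit i = true) i, rfl⟩
  rw [beq_iff_eq.1 h] at h1
  have : (16777215 : ℕ) < 2 ^ (app p i) :=
    lt_of_lt_of_le (by norm_num : (16777215 : ℕ) < 2 ^ 24)
      (Nat.pow_le_pow_right (by norm_num) (by omega))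
  rw [Nat.testBit_lt_two_pow this] at h1
  exact Bool.false_ne_true h1

/-- The map of points given by a packed code. -/
def appPt (p : ℕ) (x : GolayPt) : GolayPt := pt ⟨app p (idx x) % 24, Nat.mod_lt _ (by norm_num)⟩

theorem appPt_bijective {p : ℕ} (h : validP p = true) : Function.Bijective (appPt p) := by
  refine Finite.surjective_iff_bijective.1 fun y => ?_
  have : (img p 16777215).testBit (idx y) = true := by
    rw [beq_iff_eq.1 h]
    generalize idx y = i
    revert i; decide
  obtain ⟨i, -, hi⟩ := (testBit_img _ _ _).1 this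
  refine ⟨pt i, ?_⟩
  simp [appPt, hi, Nat.mod_eq_of_lt (idx y).isLt]

/-- The permutation of a packed code (the identity for invalid codes). -/
noncomputable def toPerm (p : ℕ) : Equiv.Perm GolayPt :=
  if h : validP p = true then Equiv.ofBijective (appPt p) (appPt_bijective h) else 1

theorem toPerm_apply {p : ℕ} (h : validP p = true) (x : GolayPt) : toPerm p x = appPt p x := by
  simp [toPerm, h]

theorem idx_toPerm {p : ℕ} (h : validP p = true) (x : GolayPt) :
    (idx (toPerm p x) : ℕ) = app p (idx x) := by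
  rw [toPerm_apply h, appPt, idx_pt]
  exact Nat.mod_eq_of_lt (app_lt h _)

theorem smul_setOf {p : ℕ} (h : validP p = true) (m : ℕ) :
    toPerm p • setOf m = setOf (img p m) := by
  ext y
  rw [mem_setOf, testBit_img, Finset.mem_smul_finset]
  constructor
  · rintro ⟨x, hx, rfl⟩
    exact ⟨idx x, by simpa using hx, (idx_toPerm h x).symm⟩
  · rintro ⟨i, hi, he⟩
    refine ⟨pt i, by simpa using hi, idx_inj.1 (Fin.ext ?_)⟩
    rw [Equiv.Perm.smul_def, idx_toPerm h, idx_pt, he]

theorem img_lt {p : ℕ} (h : validP p = true) (m : ℕ) : img p m < 2 ^ 24 := by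
  apply Nat.lt_pow_two_of_testBit
  intro j hj
  by_contra hb
  obtain ⟨i, -, hi⟩ := (testBit_img _ _ _).1 (by simpa using hb)
  have := app_lt h i
  omega

theorem maskOf_smul {p : ℕ} (h : validP p = true) (s : Finset GolayPt) :
    maskOf (toPerm p • s) = img p (maskOf s) := by
  conv_lhs => rw [← setOf_maskOf s, smul_setOf h, maskOf_setOf (img_lt h _)]

/-! ### Composition -/

theorem testBit_compTo (p q : ℕ) (hp : ∀ i, app p i < 32) (n j : ℕ) :
    (compTo p q n).testBit j = true ↔
      ∃ i < n, 5 * i ≤ j ∧ (app p (app q i)).testBit (j - 5 * i) = true := by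
  induction n with
  | zero => simp [compTo]
  | succ n ih =>
    have e : compTo p q (n + 1) = ((app p (app q n)) <<< (5 * n)) ||| compTo p q n := rfl
    rw [e, Nat.testBit_or, Bool.or_eq_true, ih, Nat.testBit_shiftLeft]
    simp only [ge_iff_le, Bool.and_eq_true, decide_eq_true_eq]
    constructor
    · rintro (h | ⟨i, hi, h⟩)
      · exact ⟨n, by omega, h⟩
      · exact ⟨i, by omega, h⟩
    · rintro ⟨i, hi, h⟩
      rcases Nat.lt_succ_iff_lt_or_eq.1 hi with hi | rfl
      · exact Or.inr ⟨i, hi, h⟩
      · exact Or.inl h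

theorem app_lt32 (p i : ℕ) : app p i < 32 :=
  lt_of_le_of_lt (Nat.and_le_right (n := p >>> (5 * i)) (m := 31)) (by norm_num)

theorem app_compP (p q : ℕ) {i : ℕ} (hi : i < 24) : app (compP p q) i = app p (app q i) := by
  apply Nat.eq_of_testBit_eq
  intro k
  have e : app (compP p q) i = (compP p q >>> (5 * i)) &&& 31 := rfl
  rw [e, Nat.testBit_and, Nat.testBit_shiftRight]
  by_cases hk : k < 5
  · have h31 : (31 : ℕ).testBit k = true := by
      interval_cases k <;> rfl
    rw [h31, Bool.and_true, Bool.eq_iff_iff]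
    rw [compP, testBit_compTo p q (app_lt32 p)]
    constructor
    · rintro ⟨j, hj, hle, hb⟩
      have h5 : 5 * i + k - 5 * j < 5 := by
        by_contra h
        rw [Nat.testBit_lt_two_pow (lt_of_lt_of_le (app_lt32 p (app q j))
          (show (32 : ℕ) ≤ _ from Nat.pow_le_pow_right (n := 2) (i := 5) (by norm_num) (by omega)))] at hb
        exact Bool.false_ne_true hb
      have : j = i := by omega
      subst this
      simpa using hb
    · intro hb
      exact ⟨i, hi, by omega, by simpa using hb⟩
  · have hp : ∀ a : ℕ, a < 32 → a.testBit k = false := fun a ha =>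
      Nat.testBit_lt_two_pow (lt_of_lt_of_le ha
        (show (32 : ℕ) ≤ _ from Nat.pow_le_pow_right (n := 2) (i := 5) (by norm_num) (by omega)))
    rw [hp 31 (by norm_num), Bool.and_false, hp _ (app_lt32 p _)]

theorem validP_compP {p q : ℕ} (hp : validP p = true) (hq : validP q = true) :
    validP (compP p q) = true := by
  rw [validP, beq_iff_eq]
  have hj : ∀ j : Fin 24, (16777215 : ℕ).testBit j = true := by decide
  have key : ∀ i : Fin 24, app (compP p q) i < 24 := fun i => by
    rw [app_compP p q i.isLt]; exact app_lt hp ⟨_, app_lt hq i⟩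
  refine eq_of_testBit24 (Nat.lt_pow_two_of_testBit _ fun j hj' => ?_) (by norm_num) fun j => ?_
  · by_contra hb
    obtain ⟨i, -, hi⟩ := (testBit_img _ _ _).1 (by simpa using hb)
    have := key i; omega
  · rw [hj j, testBit_img]
    obtain ⟨y, hy⟩ := (toPerm p).surjective (pt j)
    obtain ⟨x, hx⟩ := (toPerm q).surjective y
    refine ⟨idx x, hj _, ?_⟩
    rw [app_compP p q (idx x).isLt, ← idx_toPerm hq, hx, ← idx_toPerm hp, hy, idx_pt]

theorem toPerm_compP {p q : ℕ} (hp : validP p = true) (hq : validP q = true) :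
    toPerm (compP p q) = toPerm p * toPerm q := by
  apply Equiv.ext
  intro x
  apply idx_inj.1
  apply Fin.ext
  rw [idx_toPerm (validP_compP hp hq), app_compP p q (idx x).isLt, Equiv.Perm.mul_apply,
    idx_toPerm hp, idx_toPerm hq]

/-! ### Membership in the group of the code -/

/-- The packed code is a permutation preserving the code. -/
noncomputable def inM24 (p : ℕ) : Bool := validP p && basisMasks.all fun b => inCode (img p b)

theorem smul_support₂ (σ : Equiv.Perm GolayPt) (w : GolayPt → ZMod 2) :
    σ • support₂ w = support₂ (fun x => w (σ.symm x)) := by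
  ext x
  rw [Finset.mem_smul_finset]
  constructor
  · rintro ⟨y, hy, rfl⟩
    simpa [support₂] using hy
  · intro hx
    exact ⟨σ.symm x, by simpa [support₂] using hx, by simp⟩

theorem mem_M24_iff_maps {σ : Equiv.Perm GolayPt} :
    σ ∈ M24 ↔ ∀ w ∈ golayCode, (fun x => w (σ.symm x)) ∈ golayCode := by
  have hM : σ ∈ M24 ↔ σ • supports (golayCode : Set (GolayPt → ZMod 2)) =
      supports (golayCode : Set (GolayPt → ZMod 2)) := MulAction.mem_stabilizer_iff
  rw [hM]
  constructor
  · intro h w hw
    have : σ • support₂ w ∈ supports (golayCode : Set (GolayPt → ZMod 2)) := by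
      rw [← h]; exact Set.smul_mem_smul_set ⟨w, hw, rfl⟩
    rw [smul_support₂] at this
    obtain ⟨v, hv, he⟩ := this
    rwa [← support₂_injective he]
  · intro h
    apply Set.eq_of_subset_of_ncard_le
    · rintro _ ⟨_, ⟨w, hw, rfl⟩, rfl⟩
      exact ⟨_, h w hw, (smul_support₂ σ w).symm⟩
    · rw [← Set.image_smul, Set.ncard_image_of_injective _ (MulAction.injective σ)]
    · exact Set.toFinite _

theorem toPerm_mem_M24 {p : ℕ} (h : inM24 p = true) : toPerm p ∈ M24 := by
  simp only [inM24, Bool.and_eq_true, List.all_eq_true] at h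
  obtain ⟨hv, hb⟩ := h
  let f : (GolayPt → ZMod 2) →ₗ[ZMod 2] (GolayPt → ZMod 2) :=
    LinearMap.funLeft (ZMod 2) (ZMod 2) (toPerm p).symm
  have : golayCode ≤ golayCode.comap f := by
    conv_lhs => rw [golayCode_eq_span]
    rw [Submodule.span_le]
    rintro w ⟨i, rfl⟩
    show f (basisWord i) ∈ golayCode
    rw [mem_golayCode_iff_list]
    have he : maskOf (support₂ (f (basisWord i))) = img p (basisMasks.getD i 0) := by
      show maskOf (support₂ (fun x => basisWord i ((toPerm p).symm x))) = _
      rw [← smul_support₂, basisWord, support₂_wordOf, smul_setOf hv, maskOf_setOf (img_lt hv _)]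
    rw [he, mem_codeList_iff_inCode (img_lt hv _)]
    apply hb
    rw [List.getD_eq_getElem _ _ i.isLt]
    exact List.getElem_mem _
  exact mem_M24_iff_maps.2 fun w hw => this hw

theorem valid_of_inM24 {p : ℕ} (h : inM24 p = true) : validP p = true := by
  simp only [inM24, Bool.and_eq_true] at h; exact h.1

/-! ### Straight-line programs -/

/-- Run a straight-line program: each step appends the product of two earlier entries. -/
noncomputable def slp : List ℕ → List (ℕ × ℕ) → List ℕ
  | acc, [] => acc
  | acc, (i, j) :: l => slp (acc ++ [compP (acc.getD i 0) (acc.getD j 0)]) l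

/-- Every step refers to earlier entries. -/
def slpOk : ℕ → List (ℕ × ℕ) → Bool
  | _, [] => true
  | n, (i, j) :: l => Nat.blt i n && Nat.blt j n && slpOk (n + 1) l

theorem slp_mem {K : Subgroup (Equiv.Perm GolayPt)} :
    ∀ (prog : List (ℕ × ℕ)) (acc : List ℕ), slpOk acc.length prog = true →
      (∀ p ∈ acc, validP p = true ∧ toPerm p ∈ K) →
      ∀ p ∈ slp acc prog, validP p = true ∧ toPerm p ∈ K := by
  intro prog
  induction prog with
  | nil => intro acc _ h p hp; exact h p hp
  | cons a l ih =>
    obtain ⟨i, j⟩ := a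
    intro acc hok h p hp
    simp only [slpOk, Bool.and_eq_true, Nat.blt_eq] at hok
    refine ih (acc ++ [compP (acc.getD i 0) (acc.getD j 0)]) (by simpa using hok.2) ?_ p hp
    intro q hq
    simp only [List.mem_append, List.mem_singleton] at hq
    rcases hq with hq | rfl
    · exact h q hq
    · rw [List.getD_eq_getElem _ _ hok.1.1, List.getD_eq_getElem _ _ hok.1.2]
      obtain ⟨hi1, hi2⟩ := h _ (List.getElem_mem hok.1.1)
      obtain ⟨hj1, hj2⟩ := h _ (List.getElem_mem hok.1.2)
      exact ⟨validP_compP hi1 hj1, by rw [toPerm_compP hi1 hj1]; exact K.mul_mem hi2 hj2⟩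

/-! ### Transversal chains -/

/-- A chain of levels, each a base position with packed transversal elements: every element
fixes the earlier base positions and the images of the base position are distinct. -/
def chainOk : List ℕ → List (ℕ × List ℕ) → Bool
  | _, [] => true
  | fixd, (b, ts) :: rest =>
    Nat.blt b 24 && ts.all (fun t => validP t && fixd.all fun f => app t f == f) &&
      decide ((ts.map fun t => app t b).Nodup) && chainOk (fixd ++ [b]) rest

/-- The product of the level sizes. -/
def chainProd : List (ℕ × List ℕ) → ℕ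
  | [] => 1
  | (_, ts) :: rest => ts.length * chainProd rest

/-- The elements of `K` fixing the listed positions. -/
def fixerSet (K : Subgroup (Equiv.Perm GolayPt)) (fixd : List ℕ) : Set (Equiv.Perm GolayPt) :=
  {σ | σ ∈ K ∧ ∀ x : GolayPt, (idx x : ℕ) ∈ fixd → σ x = x}

theorem chainProd_le_fixerSet (K : Subgroup (Equiv.Perm GolayPt)) :
    ∀ (lv : List (ℕ × List ℕ)) (fixd : List ℕ), chainOk fixd lv = true →
      (∀ p ∈ lv, ∀ t ∈ p.2, toPerm t ∈ K) → chainProd lv ≤ (fixerSet K fixd).ncard := by
  intro lv
  induction lv with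
  | nil =>
    intro fixd _ _
    rw [chainProd]
    exact (Set.ncard_pos (Set.toFinite _)).2 ⟨1, K.one_mem, fun _ _ => rfl⟩
  | cons p rest ih =>
    obtain ⟨b, ts⟩ := p
    intro fixd hok hK
    simp only [chainOk, Bool.and_eq_true, Nat.blt_eq, List.all_eq_true, decide_eq_true_eq,
      beq_iff_eq] at hok
    obtain ⟨⟨⟨hb, hts⟩, hnd⟩, hrest⟩ := hok
    have hrec := ih (fixd ++ [b]) hrest fun q hq => hK q (List.mem_cons_of_mem _ hq)
    have hlen : ts.length = (↑(List.toFinset ts) : Set ℕ).ncard := by
      rw [Set.ncard_coe_finset, List.toFinset_card_of_nodup (List.Nodup.of_map _ hnd)]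
    have himg : ((↑(List.toFinset ts) : Set ℕ) ×ˢ fixerSet K (fixd ++ [b])).ncard ≤
        (fixerSet K fixd).ncard := by
      refine Set.ncard_le_ncard_of_injOn (fun q => toPerm q.1 * q.2) ?_ ?_ (Set.toFinite _)
      · rintro ⟨t, σ⟩ ⟨ht, hσK, hσ⟩
        simp only [List.coe_toFinset, Set.mem_ofPred_eq] at ht
        refine ⟨K.mul_mem (hK (b, ts) List.mem_cons_self t ht) hσK, fun x hx => ?_⟩
        rw [Equiv.Perm.mul_apply, hσ x (List.mem_append_left _ hx)]
        exact idx_inj.1 (Fin.ext (by rw [idx_toPerm (hts t ht).1, (hts t ht).2 _ hx]))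
      · rintro ⟨t, σ⟩ ⟨ht, hσK, hσ⟩ ⟨t', σ'⟩ ⟨ht', hσ'K, hσ'⟩ heq
        simp only [List.coe_toFinset, Set.mem_ofPred_eq] at ht ht'
        have hx : (idx (pt ⟨b, hb⟩) : ℕ) = b := by simp
        have hmem : (idx (pt ⟨b, hb⟩) : ℕ) ∈ fixd ++ [b] := by simp
        have happ := congrArg (fun e : Equiv.Perm GolayPt => (idx (e (pt ⟨b, hb⟩)) : ℕ)) heq
        simp only [Equiv.Perm.mul_apply, hσ _ hmem, hσ' _ hmem, idx_toPerm (hts t ht).1,
          idx_toPerm (hts t' ht').1, hx] at happ
        have htt : t = t' := List.inj_on_of_nodup_map hnd ht ht' happ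
        subst htt
        simpa using heq
    rw [Set.ncard_prod] at himg
    calc chainProd ((b, ts) :: rest) = ts.length * chainProd rest := rfl
      _ ≤ ts.length * (fixerSet K (fixd ++ [b])).ncard := Nat.mul_le_mul_left _ hrec
      _ ≤ _ := hlen ▸ himg

theorem chainProd_le_card (K : Subgroup (Equiv.Perm GolayPt)) (lv : List (ℕ × List ℕ))
    (hok : chainOk [] lv = true) (hK : ∀ p ∈ lv, ∀ t ∈ p.2, toPerm t ∈ K) :
    chainProd lv ≤ Nat.card K := by
  refine le_trans (chainProd_le_fixerSet K lv [] hok hK) ?_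
  have : fixerSet K [] = (K : Set (Equiv.Perm GolayPt)) := by
    ext σ; simp [fixerSet]
  rw [this, ← Nat.card_coe_set_eq]
  rfl

end

end Cfsg.Agent.Golay24
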