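import Cfsg.Agent.Lib.Golay.Cosets
import Cfsg.Agent.Lib.Golay.SylowCert
import Cfsg.Prelude.Def_SporadicCombinatorics

/-!
Sextets: each set of four points lies in one, named by its member through the last position.
-/

set_option autoImplicit false

namespace Cfsg.Agent.Golay24

noncomputable section

open Cfsg
open scoped Pointwise

attribute [local irreducible] weightList codeList combTo

/-- The sextet through a set of four points. -/
def sextOf (t : Finset GolayPt) : Finset (Finset GolayPt) := by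
  classical exact insert t ((Finset.univ.filter fun o => o ∈ octads ∧ t ⊆ o).image fun o => o \ t)

theorem mem_sextOf {t u : Finset GolayPt} :
    u ∈ sextOf t ↔ u = t ∨ ∃ o, (o ∈ octads ∧ t ⊆ o) ∧ o \ t = u := by
  simp [sextOf]

theorem sdiff_union_sdiff_mem {o o' t : Finset GolayPt} (ho : o ∈ octads) (ho' : o' ∈ octads)
    (hto : t ⊆ o) (hto' : t ⊆ o') (ht : t.card = 4) (hne : o ≠ o') :
    o \ t ∪ o' \ t ∈ octads ∧ Disjoint (o \ t) (o' \ t) := by
  have hi : (o ∩ o').card = 4 := by
    have h4 : 4 ≤ (o ∩ o').card := ht ▸ Finset.card_le_card (Finset.subset_inter hto hto')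
    rcases card_octad_inter_cases ho ho' with h | h | h | h
    · omega
    · omega
    · exact h
    · exact absurd h hne
  have e : o ∩ o' = t :=
    (Finset.eq_of_subset_of_card_le (Finset.subset_inter hto hto') (by rw [hi, ht])).symm
  have hd : Disjoint (o \ t) (o' \ t) := by
    rw [Finset.disjoint_left]
    intro x hx hx'
    rw [Finset.mem_sdiff] at hx hx'
    exact hx.2 (e ▸ Finset.mem_inter.2 ⟨hx.1, hx'.1⟩)
  refine ⟨?_, hd⟩
  have e2 : o \ t ∪ o' \ t = symmDiff o o' := by
    subst e
    ext x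
    simp only [Finset.mem_union, Finset.mem_sdiff, Finset.mem_inter, Finset.mem_symmDiff]
    tauto
  refine ⟨e2 ▸ symmDiff_mem_supports ho.1 ho'.1, ?_⟩
  rw [Finset.card_union_of_disjoint hd, Finset.card_sdiff_of_subset hto,
    Finset.card_sdiff_of_subset hto', ho.2, ho'.2, ht]

theorem sextOf_mem {t : Finset GolayPt} (ht : t.card = 4) : sextOf t ∈ sextets ∧ t ∈ sextOf t := by
  classical
  refine ⟨⟨?_, ?_, ?_⟩, mem_sextOf.2 (Or.inl rfl)⟩
  · unfold sextOf
    rw [Finset.card_insert_of_notMem, Finset.card_image_of_injOn]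
    · have := five_octads t ht
      rw [show {o : Finset GolayPt | o ∈ octads ∧ t ⊆ o} =
        ↑(Finset.univ.filter fun o => o ∈ octads ∧ t ⊆ o) by ext; simp, Set.ncard_coe_finset] at this
      convert congrArg (· + 1) this using 2
    · intro a ha b hb hab
      simp only [Finset.coe_filter, Finset.mem_univ, true_and, Set.mem_ofPred_eq] at ha hb
      calc a = (a \ t) ∪ t := (Finset.sdiff_union_of_subset ha.2).symm
        _ = (b \ t) ∪ t := by rw [show a \ t = b \ t from hab]
        _ = b := Finset.sdiff_union_of_subset hb.2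
    · intro h
      obtain ⟨o, -, he⟩ := Finset.mem_image.1 h
      obtain ⟨x, hx⟩ := Finset.card_pos.1 (by omega : 0 < t.card)
      rw [← he, Finset.mem_sdiff] at hx
      have hx' : x ∈ t := by rw [← he, Finset.mem_sdiff]; exact hx
      exact hx.2 hx'
  · intro u hu
    rcases mem_sextOf.1 hu with rfl | ⟨o, ⟨ho, hsub⟩, rfl⟩
    · exact ht
    · rw [Finset.card_sdiff_of_subset hsub, ho.2, ht]
  · intro u hu v hv huv
    rcases mem_sextOf.1 hu with rfl | ⟨o, ⟨ho, hsub⟩, rfl⟩ <;>
      rcases mem_sextOf.1 hv with rfl | ⟨o', ⟨ho', hsub'⟩, rfl⟩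
    · exact absurd rfl huv
    · rwa [Finset.union_sdiff_of_subset hsub']
    · rwa [Finset.union_comm, Finset.union_sdiff_of_subset hsub]
    · exact (sdiff_union_sdiff_mem ho ho' hsub hsub' ht (fun e => huv (e ▸ rfl))).1

theorem eq_sextOf {S : Finset (Finset GolayPt)} (hS : S ∈ sextets) {t : Finset GolayPt}
    (ht : t ∈ S) : S = sextOf t := by
  have hc : t.card = 4 := hS.2.1 t ht
  refine Finset.eq_of_subset_of_card_le (fun u hu => ?_)
    (le_of_eq ((sextOf_mem hc).1.1.trans hS.1.symm))
  rw [mem_sextOf]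
  by_cases h : u = t
  · exact Or.inl h
  · have ho := hS.2.2 t ht u hu (Ne.symm h)
    refine Or.inr ⟨_, ⟨ho, Finset.subset_union_left⟩, ?_⟩
    have hd : Disjoint t u := by
      rw [← Finset.card_union_eq_card_add_card, ho.2, hc, hS.2.1 u hu]
    rw [Finset.union_sdiff_left, sdiff_eq_left.2 hd.symm]

theorem sextet_disjoint {S : Finset (Finset GolayPt)} (hS : S ∈ sextets) {t u : Finset GolayPt}
    (ht : t ∈ S) (hu : u ∈ S) (hne : t ≠ u) : Disjoint t u := by
  rw [← Finset.card_union_eq_card_add_card, (hS.2.2 t ht u hu hne).2, hS.2.1 t ht, hS.2.1 u hu]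

theorem smul_mem_sextets {σ : Equiv.Perm GolayPt} (hσ : σ ∈ M24) {S : Finset (Finset GolayPt)}
    (hS : S ∈ sextets) : σ • S ∈ sextets := by
  refine ⟨(Finset.card_smul_finset σ S).trans hS.1, ?_, ?_⟩
  · intro t ht
    obtain ⟨u, hu, rfl⟩ := Finset.mem_smul_finset.1 ht
    rw [Finset.card_smul_finset]; exact hS.2.1 u hu
  · intro t ht u hu hne
    obtain ⟨t', ht', rfl⟩ := Finset.mem_smul_finset.1 ht
    obtain ⟨u', hu', rfl⟩ := Finset.mem_smul_finset.1 hu
    rw [← Finset.smul_finset_union]
    exact smul_mem_octads hσ (hS.2.2 t' ht' u' hu' fun e => hne (e ▸ rfl))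

theorem smul_sextOf {σ : Equiv.Perm GolayPt} (hσ : σ ∈ M24) {t : Finset GolayPt} (ht : t.card = 4) :
    σ • sextOf t = sextOf (σ • t) :=
  eq_sextOf (smul_mem_sextets hσ (sextOf_mem ht).1) (Finset.smul_mem_smul_finset (sextOf_mem ht).2)

/-- The six members cover every point. -/
theorem sextet_cover {S : Finset (Finset GolayPt)} (hS : S ∈ sextets) (x : GolayPt) :
    ∃ t ∈ S, x ∈ t := by
  have hc : (S.biUnion (fun t => t)).card = 24 := by
    rw [Finset.card_biUnion fun a ha b hb hab => sextet_disjoint hS ha hb hab,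
      Finset.sum_const_nat (m := 4) hS.2.1, hS.1]
  have : S.biUnion (fun t => t) = Finset.univ := Finset.eq_univ_of_card _ (by rw [hc]; simp)
  have hx := this ▸ Finset.mem_univ x
  simpa using hx

/-- The leaders as one table. -/
def leadTab : ℕ := packSlots 24 cosetLeads

/-- The member through the last position of the sextet of a mask of four positions. -/
def canon4 (m : ℕ) : ℕ := getSlot 24 leadTab (syn m)

theorem leadTab_spec : ∀ i, i < 4096 → getSlot 24 leadTab i = cosetLeads.getD i 0 := by
  intro i hi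
  have h := slotsOk_spec (w := 24) (P := leadTab) cosetLeads 0 (by decide +kernel) i
    (by rw [cosetLeads_spec.1]; exact hi)
  rw [Nat.zero_add] at h
  rw [h, List.getD_eq_getElem]

/-- The sextet named by a mask. -/
def semSext (m : ℕ) : Finset (Finset GolayPt) := sextOf (setOf m)

theorem canon4_spec {m : ℕ} (hm : m < 2 ^ 24) (h4 : pop24 m = 4) :
    canon4 m < 2 ^ 24 ∧ pop24 (canon4 m) = 4 ∧ (canon4 m).testBit 23 = true ∧
      semSext (canon4 m) = semSext m := by
  have hlt := syn_lt m
  obtain ⟨hok, hsy⟩ := leadSeqOk_spec cosetLeads 0 (syn m) cosetLeads_spec.2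
    (by rw [cosetLeads_spec.1]; exact hlt)
  rw [← leadTab_spec _ hlt, Nat.zero_add] at hsy
  rw [← leadTab_spec _ hlt] at hok
  simp only [leadShapeOk, Bool.and_eq_true, Nat.blt_eq, Bool.or_eq_true, Nat.ble_eq,
    beq_iff_eq] at hok
  have hclt : canon4 m < 2 ^ 24 := hok.1
  have hshort := short_words (v := wordOf m) (u := wordOf (canon4 m))
    (by rw [hammingNorm_eq_pop24, support₂_wordOf, maskOf_setOf hm, h4])
    (by
      rw [hammingNorm_eq_pop24, support₂_wordOf, maskOf_setOf hclt]
      rcases hok.2 with h | h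
      · exact le_trans h (by norm_num)
      · exact h.1.le)
    (by
      apply add_mem_of_syn_eq
      rw [support₂_wordOf, support₂_wordOf, maskOf_setOf hm, maskOf_setOf hclt]
      exact hsy.symm)
  rcases hshort with he | ⟨-, h4', hd, ho⟩
  · have hmm : canon4 m = m := by
      have := congrArg (fun w => maskOf (support₂ w)) he
      simpa [support₂_wordOf, maskOf_setOf hm, maskOf_setOf hclt] using this
    rw [hmm]
    rcases hok.2 with h | h
    · rw [show getSlot 24 leadTab (syn m) = m from hmm] at h; omega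
    · exact ⟨hm, h4, by rw [show getSlot 24 leadTab (syn m) = m from hmm] at h; exact h.2, rfl⟩
  · rw [hammingNorm_eq_pop24, support₂_wordOf, maskOf_setOf hclt] at h4'
    rw [support₂_wordOf, support₂_wordOf] at hd ho
    refine ⟨hclt, h4', ?_, ?_⟩
    · rcases hok.2 with h | h
      · rw [show getSlot 24 leadTab (syn m) = canon4 m from rfl] at h; omega
      · exact h.2
    · have ht : (setOf m).card = 4 := by rw [card_setOf, h4]
      refine (eq_sextOf (sextOf_mem ht).1 (mem_sextOf.2 (Or.inr ⟨_, ⟨ho, Finset.subset_union_left⟩, ?_⟩))).symm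
      rw [Finset.union_sdiff_left, sdiff_eq_left.2 hd.symm]

/-- The names of all sextets. -/
def sextList : List ℕ := cosetLeads.filter fun m => pop24 m == 4

theorem sextets_eq : sextets = semSext '' {m | m ∈ sextList} := by
  ext S
  simp only [Set.mem_image, Set.mem_ofPred_eq, sextList, List.mem_filter, beq_iff_eq]
  constructor
  · intro hS
    obtain ⟨t, ht⟩ := Finset.card_pos.1 (by rw [hS.1]; norm_num : 0 < S.card)
    have hc : t.card = 4 := hS.2.1 t ht
    have hp : pop24 (maskOf t) = 4 := by rw [← card_eq_pop24, hc]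
    obtain ⟨-, h4, -, he⟩ := canon4_spec (maskOf_lt t) hp
    refine ⟨canon4 (maskOf t), ⟨?_, h4⟩, ?_⟩
    · rw [canon4, leadTab_spec _ (syn_lt _),
        List.getD_eq_getElem _ _ (by rw [cosetLeads_spec.1]; exact syn_lt _)]
      exact List.getElem_mem _
    · rw [he, semSext, setOf_maskOf, ← eq_sextOf hS ht]
  · rintro ⟨m, ⟨-, hm⟩, rfl⟩
    exact (sextOf_mem (by rw [card_setOf, hm])).1

theorem sextList_props {m : ℕ} (hm : m ∈ sextList) :
    m < 2 ^ 24 ∧ pop24 m = 4 ∧ m.testBit 23 = true := by
  simp only [sextList, List.mem_filter, beq_iff_eq] at hm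
  obtain ⟨hmem, h4⟩ := hm
  obtain ⟨i, hi, rfl⟩ := List.mem_iff_getElem.1 hmem
  obtain ⟨hok, -⟩ := leadSeqOk_spec cosetLeads 0 i cosetLeads_spec.2 hi
  rw [List.getD_eq_getElem _ _ hi] at hok
  simp only [leadShapeOk, Bool.and_eq_true, Nat.blt_eq, Bool.or_eq_true, Nat.ble_eq,
    beq_iff_eq] at hok
  refine ⟨by simpa using hok.1, h4, ?_⟩
  rcases hok.2 with h | h
  · omega
  · exact h.2

theorem semSext_injOn : Set.InjOn semSext {m | m ∈ sextList} := by
  intro a ha b hb h
  simp only [Set.mem_ofPred_eq] at ha hb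
  obtain ⟨hal, ha4, ha23⟩ := sextList_props ha
  obtain ⟨hbl, hb4, hb23⟩ := sextList_props hb
  have hS := (sextOf_mem (t := setOf a) (by rw [card_setOf, ha4]))
  have hb' : setOf b ∈ sextOf (setOf a) := by
    rw [show sextOf (setOf a) = sextOf (setOf b) from h]
    exact mem_sextOf.2 (Or.inl rfl)
  by_contra hne
  have hd := sextet_disjoint hS.1 hS.2 hb' fun e => hne (setOf_inj hal hbl e)
  have h23 : (idx none : ℕ) = 23 := by decide
  have h1 : (none : GolayPt) ∈ setOf a := by rw [mem_setOf, h23]; exact ha23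
  have h2 : (none : GolayPt) ∈ setOf b := by rw [mem_setOf, h23]; exact hb23
  exact Finset.disjoint_left.1 hd h1 h2

end

end Cfsg.Agent.Golay24
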