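import Cfsg.Agent.Lib.Golay.MathieuData
import Cfsg.Agent.Lib.Golay.DodecadData

/-!
Transitivity of the group of the code on tuples, octads and dodecads.
-/

set_option autoImplicit false

namespace Cfsg.Agent.Golay24

noncomputable section

open Cfsg
open scoped Pointwise

theorem m24Cover_ok : coverOk 16777215 [] (m24Chain.take 5) = true := by decide +kernel

theorem exists_five_map (x y : Fin 5 ↪ GolayPt) : ∃ σ ∈ M24, ∀ i, σ (x i) = y i := by
  have hlen : 5 ≤ (m24Chain.take 5).length := by
    rw [List.length_take, m24Chain_len]; decide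
  obtain ⟨σ, hσ, -, h⟩ := exists_embedding_map (K := M24) m24Cover_ok
    (fun p hp => chain_mem (fun _ hg => gen_mem_M24 hg) p (List.mem_of_mem_take hp)) hlen x y
    (fun i => by rw [setOf_full]; exact Finset.mem_univ _)
    (fun i => by rw [setOf_full]; exact Finset.mem_univ _)
  exact ⟨σ, hσ, h⟩

theorem M24_five_pretransitive : MulAction.IsMultiplyPretransitive M24 GolayPt 5 :=
  MulAction.isMultiplyPretransitive_iff.2 fun x y => by
    obtain ⟨σ, hσ, h⟩ := exists_five_map x y
    exact ⟨⟨σ, hσ⟩, DFunLike.ext _ _ fun i => h i⟩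

theorem exists_five_subset_map {s t : Finset GolayPt} (hs : s.card = 5) (ht : t.card = 5) :
    ∃ σ ∈ M24, σ • s = t := by
  obtain ⟨σ, hσ, h⟩ := exists_five_map
    ((s.equivFinOfCardEq hs).symm.toEmbedding.trans (Function.Embedding.subtype _))
    ((t.equivFinOfCardEq ht).symm.toEmbedding.trans (Function.Embedding.subtype _))
  refine ⟨σ, hσ, Finset.eq_of_subset_of_card_le (fun y hy => ?_)
    (by rw [Finset.card_smul_finset, hs, ht])⟩
  obtain ⟨x, hx, rfl⟩ := Finset.mem_smul_finset.1 hy
  have := h (s.equivFinOfCardEq hs ⟨x, hx⟩)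
  simp only [Function.Embedding.trans_apply, Equiv.coe_toEmbedding, Equiv.symm_apply_apply,
    Function.Embedding.coe_subtype] at this
  rw [Equiv.Perm.smul_def, this]
  exact Subtype.prop _

theorem exists_octad_through {s : Finset GolayPt} (hs : s.card = 5) : ∃ o ∈ octads, s ⊆ o := by
  have hb : ((setOf (prefMask (m24Base.take 5))).card == 5 &&
      Nat.beq (Nat.land m24Octad (prefMask (m24Base.take 5))) (prefMask (m24Base.take 5)) &&
      isOct m24Octad) = true := by decide +kernel
  simp only [Bool.and_eq_true, beq_iff_eq, Nat.beq_eq] at hb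
  obtain ⟨⟨h5, hsub⟩, ho⟩ := hb
  obtain ⟨σ, hσ, rfl⟩ := exists_five_subset_map h5 hs
  refine ⟨_, smul_mem_octads hσ (setOf_mem_octads ho),
    Finset.smul_finset_subset_smul_finset fun x hx => ?_⟩
  have : setOf (prefMask (m24Base.take 5)) = setOf m24Octad ∩ setOf (prefMask (m24Base.take 5)) := by
    rw [← setOf_land]; exact congrArg setOf hsub.symm
  rw [this] at hx
  exact Finset.mem_of_mem_inter_left hx

theorem isSteiner_octads : IsSteinerSystem 5 8 octads := by
  refine ⟨fun b hb => hb.2, fun s hs => ?_⟩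
  obtain ⟨o, ho, hso⟩ := exists_octad_through hs
  refine ⟨o, ⟨ho, hso⟩, fun b hb => octad_unique hb.1 ho ?_⟩
  rw [← hs]
  exact Finset.card_le_card (Finset.subset_inter hb.2 hso)

theorem exists_octad_map {o o' : Finset GolayPt} (ho : o ∈ octads) (ho' : o' ∈ octads) :
    ∃ σ ∈ M24, σ • o = o' := by
  obtain ⟨s, hs, hsc⟩ := Finset.exists_subset_card_eq (show 5 ≤ o.card by rw [ho.2]; norm_num)
  obtain ⟨t, ht, htc⟩ := Finset.exists_subset_card_eq (show 5 ≤ o'.card by rw [ho'.2]; norm_num)
  obtain ⟨σ, hσ, rfl⟩ := exists_five_subset_map hsc htc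
  refine ⟨σ, hσ, octad_unique (smul_mem_octads hσ ho) ho' ?_⟩
  rw [← htc]
  exact Finset.card_le_card (Finset.subset_inter (Finset.smul_finset_subset_smul_finset hs) ht)

/-- The mask of the dodecad of squares. -/
def sqDod : ℕ := 340831

theorem dodTree_ok :
    treeOk img m24Gens 24 (packSlots 24 dodOrbit) 1 dodTree = true := by decide +kernel

theorem dodTree_cov :
    covTree 24 (packSlots 24 dodOrbit) (dodTree.length + 1) (weightList 12) dodPos = true := by
  decide +kernel

theorem dodTree_root : getSlot 24 (packSlots 24 dodOrbit) 0 = sqDod := by decide +kernel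

theorem sqDod_mem : setOf sqDod ∈ dodecads := by
  rw [mem_dodecads_iff, maskOf_setOf (by decide)]
  exact List.contains_iff_mem.1 (by decide +kernel)

theorem exists_sqDod_map {d : Finset GolayPt} (hd : d ∈ dodecads) :
    ∃ σ ∈ M24, σ • setOf sqDod = d := by
  have h := reach_of_tree (K := M24) setOf img
    (fun g hg x => (smul_setOf (valid_of_inM24 (List.all_eq_true.1 m24Gens_inM24 g hg)) x).symm)
    (fun g hg => gen_mem_M24 hg) dodTree_ok dodTree_cov _ (mem_dodecads_iff.1 hd)
  rw [dodTree_root, setOf_maskOf] at h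
  exact h

theorem exists_dodecad_map {d d' : Finset GolayPt} (hd : d ∈ dodecads) (hd' : d' ∈ dodecads) :
    ∃ σ ∈ M24, σ • d = d' := by
  obtain ⟨σ, hσ, rfl⟩ := exists_sqDod_map hd
  obtain ⟨τ, hτ, rfl⟩ := exists_sqDod_map hd'
  exact ⟨τ * σ⁻¹, M24.mul_mem hτ (M24.inv_mem hσ), by rw [mul_smul, inv_smul_smul]⟩

end

end Cfsg.Agent.Golay24
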