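import Cfsg.Agent.Lib.Golay.Classes
import Cfsg.Agent.Lib.Golay.Trans

/-!
Six-point subsets: M24 is transitive on ordered six-tuples inside an octad and on those outside
every octad, with pointwise stabilisers of order 16 and 3.
-/

set_option autoImplicit false

namespace Cfsg.Agent.Golay24

noncomputable section

open Cfsg
open scoped Pointwise

attribute [local irreducible] m24Prog m24Levels m24Stages weightList

/-- The point of a position. -/
def ptOf (i : ℕ) : GolayPt := pt ⟨i % 24, Nat.mod_lt _ (by norm_num)⟩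

/-- Six positions spanning no more than the standard octad. -/
def sixIn : List ℕ := [23, 0, 1, 2, 3, 5]

/-- Six positions in no octad. -/
def sixOut : List ℕ := [23, 0, 1, 2, 3, 4]

/-- A standard ordered six-tuple. -/
def stdSix (l : List ℕ) (i : Fin 6) : GolayPt := ptOf (l.getD i 0)

theorem six_facts :
    ((m24Base.take 5 == sixIn.take 5) && (m24Base.take 5 == sixOut.take 5) &&
      (m24Base.getD 5 0 == 5) && (m24Base.getD 6 0 == 4) &&
      ((List.range 24).all fun i =>
        !Nat.testBit m24Octad i || (sixIn.take 5).contains i ||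
          (m24Chain.getD 5 (0, [])).2.any fun t =>
            app t 5 == i && (sixIn.take 5).all fun j => app t j == j) &&
      ((List.range 24).all fun i =>
        Nat.testBit m24Octad i ||
          (m24Chain.getD 6 (0, [])).2.any fun t =>
            app t 4 == i && (sixIn.take 5).all fun j => app t j == j) &&
      (m24Chain.drop 5).all (fun p => p.2.all inM24) &&
      (m24Chain.take 7 == m24Chain) &&
      sixIn.all (fun i => Nat.testBit m24Octad i && Nat.blt i 24) &&
      !Nat.testBit m24Octad 4 && Nat.beq (pop24 (prefMask (sixIn.take 5))) 5 &&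
      isOct m24Octad) = true := by
  decide +kernel

/-- Permutations fixing the five common positions. -/
def fiveFix : List ℕ :=
  (m24Chain.getD 5 (0, [])).2.flatMap fun a => (m24Chain.getD 6 (0, [])).2.map fun b => compP a b

/-- The listed permutations fixing every position of a list. -/
def fixAll (l : List ℕ) : List ℕ := fiveFix.filter fun g => l.all fun i => app g i == i

theorem mem_fiveFix {σ : Equiv.Perm GolayPt} (hσ : σ ∈ M24)
    (h : ∀ i ∈ sixIn.take 5, σ (ptOf i) = ptOf i) :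
    ∃ g ∈ fiveFix, validP g = true ∧ toPerm g = σ := by
  have hf := six_facts
  simp only [Bool.and_eq_true, beq_iff_eq, List.all_eq_true] at hf
  obtain ⟨⟨⟨⟨⟨⟨⟨⟨⟨⟨⟨hb, -⟩, -⟩, -⟩, -⟩, -⟩, hvalid⟩, -⟩, -⟩, -⟩, -⟩, -⟩ := hf
  have hmask : FixesMask σ (prefMask (m24Base.take 5)) := by
    rw [hb]
    refine fixesMask_prefMask fun x hx => ?_
    have := h _ hx
    rwa [ptOf, show (⟨(idx x : ℕ) % 24, Nat.mod_lt _ (by norm_num)⟩ : Fin 24) = idx x from
      Fin.ext (Nat.mod_eq_of_lt (idx x).isLt), pt_idx] at this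
  have hmem := mem_chainElems 2 5 rfl σ hσ hmask
  have hdrop : m24Chain.drop 5 = [m24Chain.getD 5 (0, []), m24Chain.getD 6 (0, [])] := by
    have hl := m24Chain_len
    rw [List.drop_eq_getElem_cons (by omega), List.drop_eq_getElem_cons (by omega),
      List.drop_of_length_le (by omega), List.getD_eq_getElem _ _ (by omega),
      List.getD_eq_getElem _ _ (by omega)]
  rw [hdrop] at hmem hvalid
  rcases h5 : m24Chain.getD 5 (0, []) with ⟨b5, t5⟩
  rcases h6 : m24Chain.getD 6 (0, []) with ⟨b6, t6⟩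
  rw [h5, h6] at hmem hvalid
  simp only [chainElems, Finset.mem_image₂, Finset.mem_image, List.mem_toFinset,
    Finset.mem_singleton] at hmem
  obtain ⟨_, ⟨a, ha, rfl⟩, _, ⟨_, ⟨b, hb', rfl⟩, _, rfl, rfl⟩, rfl⟩ := hmem
  have hva : validP a = true :=
    valid_of_inM24 (hvalid _ List.mem_cons_self a ha)
  have hvb : validP b = true :=
    valid_of_inM24 (hvalid _ (List.mem_cons_of_mem _ List.mem_cons_self) b hb')
  refine ⟨compP a b, ?_, validP_compP hva hvb, ?_⟩
  · rw [fiveFix, h5, h6]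
    exact List.mem_flatMap.2 ⟨a, ha, List.mem_map.2 ⟨b, hb', rfl⟩⟩
  · rw [toPerm_compP hva hvb, mul_one]

theorem ptOf_idx (x : GolayPt) : ptOf (idx x) = x := by
  rw [ptOf, show (⟨(idx x : ℕ) % 24, Nat.mod_lt _ (by norm_num)⟩ : Fin 24) = idx x from
      Fin.ext (Nat.mod_eq_of_lt (idx x).isLt), pt_idx]

theorem idx_ptOf {i : ℕ} (h : i < 24) : (idx (ptOf i) : ℕ) = i := by
  rw [ptOf, idx_pt]; exact Nat.mod_eq_of_lt h

theorem toPerm_ptOf {t i : ℕ} (ht : validP t = true) (hi : i < 24) :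
    toPerm t (ptOf i) = ptOf (app t i) := by
  rw [← ptOf_idx (toPerm t (ptOf i)), idx_toPerm ht, idx_ptOf hi]

/-- The points lie in a common octad. -/
def InOctad (x : Fin 6 ↪ GolayPt) : Prop := ∃ o ∈ octads, ∀ i, x i ∈ o

theorem five_octad_unique {o : Finset GolayPt} (ho : o ∈ octads)
    (h : ∀ i ∈ sixIn.take 5, ptOf i ∈ o) : o = setOf m24Octad := by
  have hf := six_facts
  simp only [Bool.and_eq_true, beq_iff_eq, List.all_eq_true, Nat.beq_eq, Nat.blt_eq] at hf
  obtain ⟨⟨⟨⟨⟨-, hin⟩, -⟩, h5⟩, ho5⟩, -⟩ :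
      ((((_ ∧ ∀ i ∈ sixIn, m24Octad.testBit i = true ∧ i < 24) ∧ _) ∧
        pop24 (prefMask (sixIn.take 5)) = 5) ∧ isOct m24Octad = true) ∧ True :=
    ⟨⟨⟨⟨⟨hf.1.1.1.1.1, hf.1.1.1.2⟩, hf.1.1.2⟩, hf.1.2⟩, hf.2⟩, trivial⟩
  refine octad_unique ho (setOf_mem_octads ho5) (le_of_eq_of_le h5.symm ?_)
  rw [← card_setOf]
  refine Finset.card_le_card fun x hx => ?_
  have hxl : (idx x : ℕ) ∈ sixIn.take 5 := by
    rw [mem_setOf] at hx
    revert hx
    generalize idx x = i
    revert i
    decide +kernel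
  refine Finset.mem_inter.2 ⟨?_, mem_setOf.2 (hin _ (List.mem_of_mem_take hxl)).1⟩
  simpa [ptOf_idx] using h _ hxl

theorem exists_six_lift (x : Fin 6 ↪ GolayPt) :
    ∃ σ ∈ M24, (InOctad x → ∀ i, σ (stdSix sixIn i) = x i) ∧
      (¬InOctad x → ∀ i, σ (stdSix sixOut i) = x i) := by
  have hf := six_facts
  simp only [Bool.and_eq_true, beq_iff_eq, List.all_eq_true, List.mem_range, Bool.or_eq_true,
    Bool.not_eq_true', List.contains_iff_mem, List.any_eq_true, Nat.beq_eq, Nat.blt_eq] at hf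
  obtain ⟨⟨⟨⟨⟨⟨⟨⟨⟨⟨⟨-, -⟩, -⟩, -⟩, hA⟩, hB⟩, hv⟩, -⟩, hoct⟩, h4⟩, -⟩, hO⟩ := hf
  obtain ⟨σ, hσ, hmap⟩ := exists_five_map
    ⟨fun i : Fin 5 => stdSix sixIn i.castSucc, fun a b h => by revert a b; decide +kernel⟩
    (Fin.castSuccEmb.trans x)
  have hmap' : ∀ i : Fin 5, σ (stdSix sixIn i.castSucc) = x i.castSucc := hmap
  set y := σ.symm (x (Fin.last 5)) with hy
  have hy5 : ∀ i : Fin 5, y ≠ stdSix sixIn i.castSucc := by
    intro i e
    have := congrArg σ e
    rw [hy, Equiv.apply_symm_apply, hmap'] at this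
    exact absurd (x.injective this) (Fin.castSucc_lt_last i).ne'
  have hlev : ∀ j : ℕ, j = 5 ∨ j = 6 → ∀ t ∈ (m24Chain.getD j (0, [])).2, inM24 t = true := by
    intro j hj t ht
    have hl := m24Chain_len
    refine hv _ ?_ t ht
    rw [List.getD_eq_getElem _ _ (by omega)]
    exact List.mem_iff_getElem.2 ⟨j - 5, by simp; omega, by
      simp only [List.getElem_drop, show 5 + (j - 5) = j by omega]⟩
  have key : ∀ (l : List ℕ) (j b : ℕ), j = 5 ∨ j = 6 → b < 24 →
      (∀ i : Fin 5, stdSix l i.castSucc = stdSix sixIn i.castSucc) →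
      stdSix l (Fin.last 5) = ptOf b →
      (∃ t ∈ (m24Chain.getD j (0, [])).2, app t b = (idx y : ℕ) ∧
        ∀ k ∈ sixIn.take 5, app t k = k) →
      ∃ τ ∈ M24, ∀ i, τ (stdSix l i) = x i := by
    rintro l j b hj hb hl hlast ⟨t, ht, htb, htf⟩
    have htM := hlev j hj t ht
    refine ⟨σ * toPerm t, M24.mul_mem hσ (toPerm_mem_M24 htM), Fin.lastCases ?_ fun i => ?_⟩
    · rw [hlast, Equiv.Perm.mul_apply, toPerm_ptOf (valid_of_inM24 htM) hb, htb, ptOf_idx, hy,
        Equiv.apply_symm_apply]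
    · have hk : sixIn.getD (i : ℕ) 0 ∈ sixIn.take 5 ∧ sixIn.getD (i : ℕ) 0 < 24 := by
        revert i; decide
      rw [Equiv.Perm.mul_apply, hl, show stdSix sixIn i.castSucc = ptOf (sixIn.getD (i : ℕ) 0)
        from rfl, toPerm_ptOf (valid_of_inM24 htM) hk.2, htf _ hk.1]
      exact hmap' i
  have hyO : InOctad x ↔ m24Octad.testBit (idx y) = true := by
    constructor
    · rintro ⟨o, ho, hox⟩
      have hpre : ∀ {z : GolayPt} {i : Fin 6}, σ z = x i → z ∈ σ⁻¹ • o := fun {z i} hz =>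
        Finset.mem_smul_finset.2 ⟨x i, hox i, by rw [← hz]; simp⟩
      have := five_octad_unique (smul_mem_octads (M24.inv_mem hσ) ho) fun i hi => by
        obtain ⟨k, hk, hki⟩ := List.mem_iff_getElem.1 hi
        have hk5 : k < 5 := by simp at hk; exact hk.1
        refine hpre (i := (⟨k, hk5⟩ : Fin 5).castSucc) ?_
        rw [← hmap']
        simp only [stdSix, Fin.val_castSucc]
        rw [← hki, List.getElem_take, List.getD_eq_getElem]
      rw [← mem_setOf, ← this]
      exact hpre (i := Fin.last 5) (by rw [hy, Equiv.apply_symm_apply])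
    · intro h
      refine ⟨σ • setOf m24Octad, smul_mem_octads hσ (setOf_mem_octads hO),
        Fin.lastCases ?_ fun i => ?_⟩
      · exact Finset.mem_smul_finset.2 ⟨y, mem_setOf.2 h, by rw [hy]; simp⟩
      · refine Finset.mem_smul_finset.2 ⟨_, ?_, hmap' i⟩
        revert i
        decide +kernel
  by_cases hin : InOctad x
  · have hbit := hyO.1 hin
    obtain ⟨τ, hτ, h⟩ := key sixIn 5 5 (Or.inl rfl) (by norm_num) (fun _ => rfl) rfl (by
      rcases hA (idx y) (idx y).isLt with (h | h) | ⟨t, ht, h1, h2⟩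
      · rw [hbit] at h; simp at h
      · exfalso
        obtain ⟨k, hk, hke⟩ := List.mem_iff_getElem.1 h
        have hk5 : k < 5 := by simp at hk; exact hk.1
        refine hy5 ⟨k, hk5⟩ ?_
        simp only [stdSix, Fin.val_castSucc]
        rw [List.getD_eq_getElem _ _ (by simp [sixIn]; omega), ← List.getElem_take (h := hk),
          hke, ptOf_idx]
      · exact ⟨t, ht, h1, h2⟩)
    exact ⟨τ, hτ, fun _ => h, fun h' => absurd hin h'⟩
  · have hbit : m24Octad.testBit (idx y) = false := by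
      rw [← Bool.not_eq_true, ← hyO]; exact hin
    obtain ⟨τ, hτ, h⟩ := key sixOut 6 4 (Or.inr rfl) (by norm_num)
      (by decide +kernel) rfl (by
      rcases hB (idx y) (idx y).isLt with h | ⟨t, ht, h1, h2⟩
      · rw [hbit] at h; simp at h
      · exact ⟨t, ht, h1, h2⟩)
    exact ⟨τ, hτ, fun h' => absurd h' hin, fun _ => h⟩

/-- The pointwise stabiliser of a six-tuple. -/
def sixFixer (x : Fin 6 → GolayPt) : Set (Equiv.Perm GolayPt) :=
  {g | g ∈ M24 ∧ ∀ i, g (x i) = x i}

theorem fixAll_facts :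
    ([sixIn, sixOut].all fun l => (fixAll l).all (fun g => inM24 g && (compP g idP == g)) &&
      decide (fixAll l).Nodup && l.all (fun i => Nat.blt i 24) && (l.take 5 == sixIn.take 5) &&
        (l.length == 6)) = true ∧
      (fixAll sixIn).length = 16 ∧ (fixAll sixOut).length = 3 := by
  decide +kernel

theorem sixFixer_std {l : List ℕ} (hl : l ∈ [sixIn, sixOut]) :
    sixFixer (stdSix l) = toPerm '' {g | g ∈ fixAll l} ∧
      (sixFixer (stdSix l)).ncard = (fixAll l).length := by
  have hf := List.all_eq_true.1 fixAll_facts.1 l hl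
  simp only [Bool.and_eq_true, List.all_eq_true, beq_iff_eq, decide_eq_true_eq, Nat.blt_eq] at hf
  obtain ⟨⟨⟨⟨hval, hnd⟩, hlt⟩, htake⟩, hlen⟩ := hf
  have hmem : ∀ i ∈ l, ∃ k : Fin 6, stdSix l k = ptOf i := by
    intro i hi
    obtain ⟨k, hk, rfl⟩ := List.mem_iff_getElem.1 hi
    exact ⟨⟨k, hlen ▸ hk⟩, by rw [stdSix, List.getD_eq_getElem _ _ hk]⟩
  have he : sixFixer (stdSix l) = toPerm '' {g | g ∈ fixAll l} := by
    ext σ
    constructor
    · rintro ⟨hσ, hfix⟩
      obtain ⟨g, hg, hgv, rfl⟩ := mem_fiveFix hσ fun i hi => by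
        obtain ⟨k, hk⟩ := hmem i (List.mem_of_mem_take (i := 5) (by rw [htake]; exact hi))
        rw [← hk]; exact hfix k
      refine ⟨g, List.mem_filter.2 ⟨hg, List.all_eq_true.2 fun i hi => beq_iff_eq.2 ?_⟩, rfl⟩
      obtain ⟨k, hk⟩ := hmem i hi
      have := hfix k
      rw [hk] at this
      have h' := congrArg (fun z => (idx z : ℕ)) this
      simpa [idx_toPerm hgv, idx_ptOf (hlt i hi)] using h'
    · rintro ⟨g, hg, rfl⟩
      refine ⟨toPerm_mem_M24 (hval g hg).1, fun k => ?_⟩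
      have hk : (k : ℕ) < l.length := by rw [hlen]; exact k.isLt
      simp only [stdSix, List.getD_eq_getElem _ _ hk]
      rw [toPerm_ptOf (valid_of_inM24 (hval g hg).1) (hlt _ (List.getElem_mem hk)),
        beq_iff_eq.1 (List.all_eq_true.1 (List.mem_filter.1 hg).2 _ (List.getElem_mem hk))]
  refine ⟨he, ?_⟩
  have hinj : Set.InjOn toPerm {g | g ∈ fixAll l} := fun a ha b hb e =>
    toPerm_inj (valid_of_inM24 (hval a ha).1) (valid_of_inM24 (hval b hb).1) (hval a ha).2
      (hval b hb).2 e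
  rw [he, hinj.ncard_image,
    show {g | g ∈ fixAll l} = (↑(fixAll l).toFinset : Set ℕ) by ext; simp, Set.ncard_coe_finset,
    List.toFinset_card_of_nodup hnd]

theorem sixFixer_conj {σ : Equiv.Perm GolayPt} (hσ : σ ∈ M24) (x : Fin 6 → GolayPt) :
    sixFixer (fun i => σ (x i)) = (fun g => σ * g * σ⁻¹) '' sixFixer x := by
  ext g
  constructor
  · rintro ⟨hg, hfix⟩
    refine ⟨σ⁻¹ * g * σ, ⟨M24.mul_mem (M24.mul_mem (M24.inv_mem hσ) hg) hσ, fun i => ?_⟩,
      by group⟩
    simp [Equiv.Perm.mul_apply, hfix i]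
  · rintro ⟨u, ⟨hu, hfix⟩, rfl⟩
    exact ⟨M24.mul_mem (M24.mul_mem hσ hu) (M24.inv_mem hσ), fun i => by simp [hfix i]⟩

theorem ncard_sixFixer (x : Fin 6 ↪ GolayPt) :
    (InOctad x → (sixFixer x).ncard = 16) ∧ (¬InOctad x → (sixFixer x).ncard = 3) := by
  obtain ⟨σ, hσ, hin, hout⟩ := exists_six_lift x
  have hinj : Function.Injective fun g : Equiv.Perm GolayPt => σ * g * σ⁻¹ :=
    fun a b h => mul_left_cancel (mul_right_cancel h)
  constructor
  · intro h
    rw [show (x : Fin 6 → GolayPt) = fun i => σ (stdSix sixIn i) from funext fun i => (hin h i).symm,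
      sixFixer_conj hσ, Set.ncard_image_of_injective _ hinj,
      (sixFixer_std List.mem_cons_self).2, fixAll_facts.2.1]
  · intro h
    rw [show (x : Fin 6 → GolayPt) = fun i => σ (stdSix sixOut i) from
      funext fun i => (hout h i).symm, sixFixer_conj hσ, Set.ncard_image_of_injective _ hinj,
      (sixFixer_std (List.mem_cons_of_mem _ List.mem_cons_self)).2, fixAll_facts.2.2]

/-- Any rearrangement of six points is induced. -/
theorem exists_six_perm (x : Fin 6 ↪ GolayPt) (π : Equiv.Perm (Fin 6)) :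
    ∃ g ∈ M24, ∀ i, g (x i) = x (π i) := by
  have hiff : InOctad (π.toEmbedding.trans x) ↔ InOctad x := by
    constructor
    · rintro ⟨o, ho, h⟩
      exact ⟨o, ho, fun i => by simpa using h (π.symm i)⟩
    · rintro ⟨o, ho, h⟩
      exact ⟨o, ho, fun i => h _⟩
  obtain ⟨σ, hσ, hin, hout⟩ := exists_six_lift x
  obtain ⟨τ, hτ, hin', hout'⟩ := exists_six_lift (π.toEmbedding.trans x)
  refine ⟨τ * σ⁻¹, M24.mul_mem hτ (M24.inv_mem hσ), fun i => ?_⟩
  by_cases h : InOctad x
  · rw [← hin h i, Equiv.Perm.mul_apply, Equiv.Perm.coe_inv, Equiv.symm_apply_apply,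
      hin' (hiff.2 h) i]
    rfl
  · rw [← hout h i, Equiv.Perm.mul_apply, Equiv.Perm.coe_inv, Equiv.symm_apply_apply,
      hout' (mt hiff.1 h) i]
    rfl

/-- A lift of the product of three transpositions of the six outside positions. -/
def threeSwapLift : ℕ := 6948319157996677191034997895726167

theorem threeSwap_ok : (inM24 threeSwapLift &&
    ((List.range 6).all fun i =>
      app threeSwapLift (sixOut.getD i 0) == sixOut.getD (i ^^^ 1) 0) &&
    (fixAll sixOut).all fun a => isIdP a || (fixAll sixOut).all fun b =>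
      let s := compP threeSwapLift b
      !((List.range 24).all fun i => app s (app a i) == app a (app s i))) = true := by
  decide +kernel

/-- Nothing commuting with a nontrivial element fixing six points outside all octads moves all
six in pairs. -/
theorem commute_not_three_swap {x : Fin 6 ↪ GolayPt} (hx : ¬InOctad x)
    {c s : Equiv.Perm GolayPt} (hc : c ∈ sixFixer x) (hc1 : c ≠ 1) (hs : s ∈ M24)
    (hsw : ∀ i : Fin 6, s (x i) = x ⟨(i : ℕ) ^^^ 1, by revert i; decide⟩)
    (hcom : c * s = s * c) : False := by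
  obtain ⟨σ, hσ, -, hout⟩ := exists_six_lift x
  have hout := hout hx
  have hok := threeSwap_ok
  simp only [Bool.and_eq_true, List.all_eq_true, List.mem_range, Bool.or_eq_true,
    Bool.not_eq_true', beq_iff_eq, List.all_eq_false] at hok
  obtain ⟨⟨hLM, hLmap⟩, hpair⟩ := hok
  have hLv := valid_of_inM24 hLM
  have hstd := (sixFixer_std (l := sixOut) (List.mem_cons_of_mem _ List.mem_cons_self)).1
  have hval := List.all_eq_true.1 fixAll_facts.1 sixOut
    (List.mem_cons_of_mem _ List.mem_cons_self)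
  simp only [Bool.and_eq_true, List.all_eq_true] at hval
  have hlv : ∀ g ∈ fixAll sixOut, validP g = true := fun g hg =>
    valid_of_inM24 (hval.1.1.1.1 g hg).1
  have hcst : σ⁻¹ * c * σ ∈ sixFixer (stdSix sixOut) :=
    ⟨M24.mul_mem (M24.mul_mem (M24.inv_mem hσ) hc.1) hσ, fun i => by
      rw [Equiv.Perm.mul_apply, Equiv.Perm.mul_apply, hout, hc.2, Equiv.Perm.coe_inv,
        ← hout, Equiv.symm_apply_apply]⟩
  rw [hstd] at hcst
  obtain ⟨a, ha, hae⟩ := hcst
  have hsst : (toPerm threeSwapLift)⁻¹ * (σ⁻¹ * s * σ) ∈ sixFixer (stdSix sixOut) := by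
    refine ⟨M24.mul_mem (M24.inv_mem (toPerm_mem_M24 hLM))
      (M24.mul_mem (M24.mul_mem (M24.inv_mem hσ) hs) hσ), fun i => ?_⟩
    rw [Equiv.Perm.mul_apply, Equiv.Perm.mul_apply, Equiv.Perm.mul_apply, hout, hsw, ← hout,
      Equiv.Perm.coe_inv, Equiv.Perm.coe_inv, Equiv.symm_apply_apply, Equiv.symm_apply_eq]
    have h24 : ∀ j : Fin 6, sixOut.getD (j : ℕ) 0 < 24 := by decide
    show ptOf _ = toPerm threeSwapLift (ptOf _)
    rw [toPerm_ptOf hLv (h24 i), hLmap _ i.isLt]
  rw [hstd] at hsst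
  obtain ⟨b, hb, hbe⟩ := hsst
  rcases hpair a ha with h | h
  · apply hc1
    have e := toPerm_eq_one_of_isIdP (hlv a ha) h
    rw [hae] at e
    calc c = σ * (σ⁻¹ * c * σ) * σ⁻¹ := by group
      _ = 1 := by rw [e]; group
  · obtain ⟨i, hi, hne⟩ := h b hb
    apply hne
    have hs' : toPerm (compP threeSwapLift b) = σ⁻¹ * s * σ := by
      rw [toPerm_compP hLv (hlv b hb), hbe, mul_inv_cancel_left]
    have hcomm : toPerm (compP threeSwapLift b) * toPerm a =
        toPerm a * toPerm (compP threeSwapLift b) := by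
      rw [hs', hae]
      calc σ⁻¹ * s * σ * (σ⁻¹ * c * σ) = σ⁻¹ * (s * c) * σ := by group
        _ = σ⁻¹ * (c * s) * σ := by rw [hcom]
        _ = _ := by group
    have := congrArg (fun e : Equiv.Perm GolayPt => (idx (e (ptOf i)) : ℕ)) hcomm
    simpa [idx_toPerm (validP_compP hLv (hlv b hb)), idx_toPerm (hlv a ha),
      idx_ptOf hi] using this

end

end Cfsg.Agent.Golay24
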