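import Cfsg.Agent.Lib.Golay.SylowCert
import Cfsg.Agent.Lib.Golay.Gens

/-!
Orbits of a generated subgroup of `Cfsg.M24` on named objects, and what follows for the
stabiliser of one of them: its suborbits and its maximality.
-/

set_option autoImplicit false

namespace Cfsg.Agent.Golay24

noncomputable section

open Cfsg
open scoped Pointwise

/-- An orbit: names, a tree from the first, images under generators by position, and a sorting. -/
structure OrbCert where
  orb : List ℕ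
  tree : List (ℕ × ℕ)
  rows : List (List ℕ)
  srt : List ℕ

/-- The first name. -/
def OrbCert.root (c : OrbCert) : ℕ := c.orb.getD 0 0

/-- The packed table of names. -/
def OrbCert.tab (c : OrbCert) (w : ℕ) : ℕ := packSlots w c.orb

/-- All checks. -/
def OrbCert.ok (c : OrbCert) (act : ℕ → ℕ → ℕ) (gens : List ℕ) (w : ℕ) : Bool :=
  slotsOk w (c.tab w) 0 c.orb && treeOk act gens w (c.tab w) 1 c.tree &&
    (c.tree.length + 1 == c.orb.length) &&
    (List.range gens.length).all (fun j =>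
      covTree w (c.tab w) c.orb.length (c.orb.map fun x => act (gens.getD j 0) x) (c.rows.getD j [])) &&
    (c.srt.length == c.orb.length) && c.srt.all (fun k => Nat.blt k c.orb.length) &&
    sortedB (c.srt.map (getSlot w (c.tab w)))

/-- What acting means. -/
def ActsLike {β : Type*} [MulAction (Equiv.Perm GolayPt) β] (sem : ℕ → β) (act : ℕ → ℕ → ℕ)
    (L : List ℕ) : Prop :=
  ∀ g, inM24 g = true → ∀ x ∈ L, sem (act g x) = toPerm g • sem x

section

variable {β : Type*} [MulAction (Equiv.Perm GolayPt) β] {sem : ℕ → β} {act : ℕ → ℕ → ℕ}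
  {c : OrbCert} {gens : List ℕ} {w : ℕ}

theorem OrbCert.slot_mem (h : c.ok act gens w = true) {k : ℕ} (hk : k < c.orb.length) :
    getSlot w (c.tab w) k ∈ c.orb := by
  simp only [OrbCert.ok, Bool.and_eq_true] at h
  have := slotsOk_spec _ _ h.1.1.1.1.1.1 k hk
  rw [Nat.zero_add] at this
  rw [this]; exact List.getElem_mem _

theorem OrbCert.nodup (h : c.ok act gens w = true) : c.orb.Nodup := by
  have hslot := fun k hk => c.slot_mem h (k := k) hk
  simp only [OrbCert.ok, Bool.and_eq_true, beq_iff_eq, List.all_eq_true, Nat.blt_eq] at h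
  obtain ⟨⟨⟨-, hl⟩, hk⟩, hsort⟩ := h
  classical
  have hnd : (c.srt.map (getSlot w (c.tab w))).Nodup := (sortedB_pairwise hsort).imp fun h => ne_of_lt h
  have hsub : (c.srt.map (getSlot w (c.tab w))).toFinset ⊆ c.orb.toFinset := fun a ha => by
    obtain ⟨k, hk', rfl⟩ := List.mem_map.1 (List.mem_toFinset.1 ha)
    exact List.mem_toFinset.2 (hslot k (hk k hk'))
  have := Finset.card_le_card hsub
  rw [List.toFinset_card_of_nodup hnd, List.length_map, hl, List.card_toFinset] at this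
  exact List.dedup_eq_self.1 ((List.dedup_sublist _).eq_of_length_le this)

theorem OrbCert.reach (h : c.ok act gens w = true) (hgens : ∀ g ∈ gens, inM24 g = true)
    (hact : ActsLike sem act c.orb) {x : ℕ} (hx : x ∈ c.orb) :
    ∃ σ ∈ Subgroup.closure {τ | ∃ g ∈ gens, toPerm g = τ}, σ • sem c.root = sem x := by
  have hslot := fun k hk => c.slot_mem h (k := k) hk
  simp only [OrbCert.ok, Bool.and_eq_true, beq_iff_eq] at h
  obtain ⟨⟨⟨⟨⟨⟨hs, htree⟩, hlen⟩, -⟩, -⟩, -⟩, -⟩ := h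
  have hroot : getSlot w (c.tab w) 0 = c.root := by
    have := slotsOk_spec _ _ hs 0 (by omega)
    rw [OrbCert.root, List.getD_eq_getElem _ _ (by omega)]
    simpa using this
  have key : ∀ k, k < c.orb.length → ∃ σ ∈ Subgroup.closure {τ | ∃ g ∈ gens, toPerm g = τ},
      σ • sem c.root = sem (getSlot w (c.tab w) k) := by
    intro k
    induction k using Nat.strong_induction_on with
    | _ k ih =>
      intro hk
      cases k with
      | zero => exact ⟨1, Subgroup.one_mem _, by rw [one_smul, hroot]⟩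
      | succ i =>
        obtain ⟨j, g, hj, hg, he⟩ := treeOk_spec c.tree 1 htree i (by omega)
        obtain ⟨σ, hσ, hσe⟩ := ih j (by omega) (by omega)
        refine ⟨toPerm g * σ, Subgroup.mul_mem _ (Subgroup.subset_closure ⟨g, hg, rfl⟩) hσ, ?_⟩
        rw [mul_smul, hσe, ← hact g (hgens g hg) _ (hslot j (by omega)), ← he, Nat.add_comm 1 i]
  obtain ⟨i, hi, rfl⟩ := List.mem_iff_getElem.1 hx
  have := slotsOk_spec _ _ hs i hi
  rw [Nat.zero_add] at this
  exact this ▸ key i hi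

theorem OrbCert.orbit_eq (h : c.ok act gens w = true) (hgens : ∀ g ∈ gens, inM24 g = true)
    (hact : ActsLike sem act c.orb) {K : Subgroup (Equiv.Perm GolayPt)}
    (hK : K = Subgroup.closure {τ | ∃ g ∈ gens, toPerm g = τ}) :
    MulAction.orbit K (sem c.root) = sem '' {x | x ∈ c.orb} := by
  classical
  have hreach := fun x (hx : x ∈ c.orb) => c.reach h hgens hact hx
  have hroot : c.root ∈ c.orb := by
    have hlen : 0 < c.orb.length := by
      simp only [OrbCert.ok, Bool.and_eq_true, beq_iff_eq] at h; omega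
    rw [OrbCert.root, List.getD_eq_getElem _ _ hlen]
    exact List.getElem_mem _
  have hle : K ≤ MulAction.stabilizer (Equiv.Perm GolayPt) (sem '' {x | x ∈ c.orb}) := by
    rw [hK, Subgroup.closure_le]
    rintro _ ⟨g, hg, rfl⟩
    rw [SetLike.mem_coe, MulAction.mem_stabilizer_iff]
    have hfin : (sem '' {x | x ∈ c.orb}).Finite :=
      Set.Finite.image _ (c.orb.finite_toSet)
    apply Set.eq_of_subset_of_ncard_le
    · rintro _ ⟨_, ⟨x, hx, rfl⟩, rfl⟩
      refine ⟨act g x, ?_, hact g (hgens g hg) x hx⟩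
      have hslot := fun k hk => c.slot_mem h (k := k) hk
      have h' := h
      simp only [OrbCert.ok, Bool.and_eq_true, List.all_eq_true, List.mem_range] at h'
      obtain ⟨i, hi, rfl⟩ := List.mem_iff_getElem.1 hg
      have hc := h'.1.1.1.2 i hi
      rw [List.getD_eq_getElem _ _ hi] at hc
      obtain ⟨k, hk, he⟩ := covTree_spec _ _ hc _ (List.mem_map.2 ⟨x, hx, rfl⟩)
      exact he ▸ hslot k hk
    · rw [← Set.image_smul, Set.ncard_image_of_injective _ (MulAction.injective (toPerm g))]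
    · exact hfin
  refine orbit_eq_of_reach ⟨_, hroot, rfl⟩ (fun g y hy => ?_) (fun y hy => ?_)
  · have := Set.smul_mem_smul_set (a := (g : Equiv.Perm GolayPt)) hy
    rwa [MulAction.mem_stabilizer_iff.1 (hle g.2)] at this
  · obtain ⟨x, hx, rfl⟩ := hy
    obtain ⟨σ, hσ, he⟩ := hreach x hx
    exact ⟨⟨σ, hK ▸ hσ⟩, he⟩

theorem OrbCert.ncard_image (h : c.ok act gens w = true) (hinj : Set.InjOn sem {x | x ∈ c.orb}) :
    (sem '' {x | x ∈ c.orb}).ncard = c.orb.length := by
  classical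
  rw [hinj.ncard_image, show {x | x ∈ c.orb} = (↑c.orb.toFinset : Set ℕ) by ext; simp,
    Set.ncard_coe_finset, List.toFinset_card_of_nodup (c.nodup h)]

/-- Conjugation moves orbits of stabilisers. -/
theorem orbit_stabilizer_smul {G : Subgroup (Equiv.Perm GolayPt)} {σ : Equiv.Perm GolayPt}
    (hσ : σ ∈ G) (s x : β) :
    MulAction.orbit ↥(MulAction.stabilizer G (σ • s)) (σ • x) =
      (σ • ·) '' MulAction.orbit ↥(G ⊓ MulAction.stabilizer (Equiv.Perm GolayPt) s) x := by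
  ext y
  constructor
  · rintro ⟨g, rfl⟩
    have hg : ((g : G) : Equiv.Perm GolayPt) • σ • s = σ • s := g.2
    refine ⟨(σ⁻¹ * ((g : G) : Equiv.Perm GolayPt) * σ) • x,
      ⟨⟨_, G.mul_mem (G.mul_mem (G.inv_mem hσ) g.1.2) hσ, ?_⟩, rfl⟩, ?_⟩
    · show (σ⁻¹ * ((g : G) : Equiv.Perm GolayPt) * σ) • s = s
      rw [mul_smul, mul_smul, hg, inv_smul_smul]
    · show σ • (σ⁻¹ * ((g : G) : Equiv.Perm GolayPt) * σ) • x = _
      rw [mul_smul, mul_smul, smul_inv_smul]
      rfl
  · rintro ⟨_, ⟨g, rfl⟩, rfl⟩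
    have hg : (g : Equiv.Perm GolayPt) • s = s := g.2.2
    refine ⟨⟨⟨σ * g * σ⁻¹, G.mul_mem (G.mul_mem hσ g.2.1) (G.inv_mem hσ)⟩, ?_⟩, ?_⟩
    · show (σ * g * σ⁻¹) • σ • s = σ • s
      rw [mul_smul, mul_smul, inv_smul_smul, hg]
    · show (σ * g * σ⁻¹) • σ • x = σ • (g : Equiv.Perm GolayPt) • x
      rw [mul_smul, mul_smul, inv_smul_smul]

/-- Checks that `g` moves the base name to `r` and, with `hs`, yields the known generators. -/
def growOk (act : ℕ → ℕ → ℕ) (hs : List ℕ) (r₀ r g : ℕ) (prog : List (ℕ × ℕ)) (ix : List ℕ) : Bool :=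
  inM24 g && (act g r₀ == r) && slpOk (hs.length + 1) prog &&
    ix.all (fun k => Nat.blt k (hs.length + 1 + prog.length)) &&
    (ix.map (fun k => (slp (hs ++ [g]) prog).getD k 0) == m24Gens)

/-- A subgroup above the stabiliser of the base, moving it into a certified suborbit, is everything. -/
theorem M24_le_of_grow (h : c.ok act gens w = true) (hgens : ∀ g ∈ gens, inM24 g = true)
    (hact : ActsLike sem act c.orb) {r₀ : ℕ} (hact₀ : ∀ g, inM24 g = true → sem (act g r₀) = toPerm g • sem r₀)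
    {g₀ : ℕ} {prog : List (ℕ × ℕ)} {ix : List ℕ} (hg₀ : growOk act gens r₀ c.root g₀ prog ix = true)
    {K : Subgroup (Equiv.Perm GolayPt)} (hfix : ∀ g ∈ gens, toPerm g • sem r₀ = sem r₀)
    (hK : M24 ⊓ MulAction.stabilizer (Equiv.Perm GolayPt) (sem r₀) ≤ K)
    {g : Equiv.Perm GolayPt} (hgK : g ∈ K) (hg : g ∈ M24)
    (hmem : g • sem r₀ ∈ sem '' {x | x ∈ c.orb}) : M24 ≤ K := by
  obtain ⟨x, hx, hxe⟩ := hmem
  obtain ⟨τ, hτ, hτe⟩ := c.reach h hgens hact hx
  have hcl : Subgroup.closure {τ | ∃ g ∈ gens, toPerm g = τ} ≤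
      M24 ⊓ MulAction.stabilizer (Equiv.Perm GolayPt) (sem r₀) := by
    rw [Subgroup.closure_le]
    rintro _ ⟨y, hy, rfl⟩
    exact ⟨toPerm_mem_M24 (hgens y hy), hfix y hy⟩
  simp only [growOk, Bool.and_eq_true, List.all_eq_true, beq_iff_eq, Nat.blt_eq] at hg₀
  obtain ⟨⟨⟨⟨hgi, hgm⟩, hslp⟩, hix⟩, he⟩ := hg₀
  have hu : g⁻¹ * τ * toPerm g₀ ∈ M24 ⊓ MulAction.stabilizer (Equiv.Perm GolayPt) (sem r₀) := by
    refine ⟨M24.mul_mem (M24.mul_mem (M24.inv_mem hg) (hcl hτ).1) (toPerm_mem_M24 hgi), ?_⟩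
    show (g⁻¹ * τ * toPerm g₀) • sem r₀ = sem r₀
    rw [mul_smul, mul_smul, ← hact₀ _ hgi, hgm, hτe, hxe, inv_smul_smul]
  have hgK' : toPerm g₀ ∈ K := by
    have := K.mul_mem (K.inv_mem (hK (hcl hτ))) (K.mul_mem hgK (hK hu))
    rwa [show τ⁻¹ * (g * (g⁻¹ * τ * toPerm g₀)) = toPerm g₀ by group] at this
  refine M24_le_of_gens fun y hy => ?_
  rw [← he] at hy
  obtain ⟨k, hk, rfl⟩ := List.mem_map.1 hy
  have hk' : k < (slp (gens ++ [g₀]) prog).length := by rw [slp_length]; simpa using hix k hk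
  rw [List.getD_eq_getElem _ _ hk']
  refine (slp_mem (K := K) prog _ (by simpa using hslp) (fun p hp => ?_) _ (List.getElem_mem hk')).2
  rcases List.mem_append.1 hp with hp | hp
  · exact ⟨valid_of_inM24 (hgens p hp), hK (hcl (Subgroup.subset_closure ⟨p, hp, rfl⟩))⟩
  · rw [List.mem_singleton] at hp
    exact ⟨hp ▸ valid_of_inM24 hgi, hp ▸ hgK'⟩

/-- Maximality of a stabiliser from the certified suborbits of the base. -/
theorem isCoatom_of_suborbits {s₀ : β} {σ : Equiv.Perm GolayPt} (hσ : σ ∈ M24)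
    (hne : ∃ g ∈ M24, g • s₀ ≠ s₀)
    (hall : ∀ (K : Subgroup (Equiv.Perm GolayPt)),
      M24 ⊓ MulAction.stabilizer (Equiv.Perm GolayPt) s₀ ≤ K →
      ∀ g ∈ K, g ∈ M24 → g • s₀ ≠ s₀ → M24 ≤ K) :
    IsCoatom (MulAction.stabilizer M24 (σ • s₀)) := by
  constructor
  · intro htop
    obtain ⟨g, hg, hgm⟩ := hne
    have := (Subgroup.eq_top_iff' _).1 htop
      ⟨σ * g * σ⁻¹, M24.mul_mem (M24.mul_mem hσ hg) (M24.inv_mem hσ)⟩
    change (σ * g * σ⁻¹) • σ • s₀ = σ • s₀ at this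
    rw [mul_smul, mul_smul, inv_smul_smul, smul_left_cancel_iff] at this
    exact hgm this
  intro K hlt
  obtain ⟨hle, x, hxK, hxs⟩ := SetLike.lt_iff_le_and_exists.1 hlt
  let K' : Subgroup (Equiv.Perm GolayPt) :=
    (K.map M24.subtype).comap (MulAut.conj σ).toMonoidHom
  have hmem : ∀ u : Equiv.Perm GolayPt, u ∈ K' ↔ σ * u * σ⁻¹ ∈ K.map M24.subtype := fun u => Iff.rfl
  have hfix : M24 ⊓ MulAction.stabilizer (Equiv.Perm GolayPt) s₀ ≤ K' := by
    intro u hu
    rw [hmem]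
    refine ⟨⟨σ * u * σ⁻¹, M24.mul_mem (M24.mul_mem hσ hu.1) (M24.inv_mem hσ)⟩, hle ?_, rfl⟩
    show (σ * u * σ⁻¹) • σ • s₀ = σ • s₀
    rw [mul_smul, mul_smul, inv_smul_smul]
    exact congrArg (σ • ·) hu.2
  set g := σ⁻¹ * (x : Equiv.Perm GolayPt) * σ with hgdef
  have hg : g ∈ M24 := M24.mul_mem (M24.mul_mem (M24.inv_mem hσ) x.2) hσ
  have hgK : g ∈ K' := by
    rw [hmem]
    exact ⟨x, hxK, by rw [hgdef]; simp [mul_assoc]⟩
  have hgm : g • s₀ ≠ s₀ := by
    intro e
    apply hxs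
    show (x : Equiv.Perm GolayPt) • σ • s₀ = σ • s₀
    rw [hgdef, mul_smul, mul_smul, inv_smul_eq_iff] at e
    exact e
  have hle' := hall K' hfix g hgK hg hgm
  rw [Subgroup.eq_top_iff']
  intro y
  obtain ⟨z, hz, hzy⟩ := (hmem _).1 (hle' (M24.mul_mem (M24.mul_mem (M24.inv_mem hσ) y.2) hσ))
  rwa [show y = z from Subtype.ext (by
    have : (z : Equiv.Perm GolayPt) = σ * (σ⁻¹ * (y : Equiv.Perm GolayPt) * σ) * σ⁻¹ := hzy
    rw [this]; group)]

end

end

end Cfsg.Agent.Golay24
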