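import Cfsg.Agent.Lib.Golay.SylowCert

/-! Certificate data for a Sylow 2-subgroup (produced by an offline script). -/

set_option autoImplicit false

namespace Cfsg.Agent.Golay24

noncomputable section

/-- Data. -/
def m11SylElems : List ℕ :=
  [
    984818244535754528103549039458486304, 817063818435691619682541939146163456,
    610933098178650810155900481226967136, 932838293333248952675499047733698656,
    317670324421085048190970577394666624, 858248558397942118330623227411564096,
    898499906621911583655640714649407040, 944576703234065857180591671912828960,
    962653433195980879725715260202043776, 226174978139368697859700820698833408,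
    588336453741888802646980634186500608, 897565280463996247581768231582511360,
    799237780230229906308457225456336960, 238345221137173961496301712242151808,
    840815095728520534584403458318745728, 316343122727129582488810950150598720]

/-- Data. -/
def m11SylTree : List (ℕ × ℕ) :=
  [
    (0, 0), (0, 1), (1, 0), (1, 1), (2, 0), (3, 0), (3, 1), (4, 0), (5, 0), (6, 0),
    (7, 0), (8, 0), (9, 1), (10, 0), (12, 1)]

/-- Data. -/
def m11SylSrt : List ℕ :=
  [
    9, 13, 15, 4, 10, 2, 12, 1, 14, 5, 11, 6, 3, 7,
    8, 0]

/-- Data. -/
def m11SylRowa : List ℕ :=
  [
    1, 3, 5, 6, 8, 9, 10, 11, 12, 4, 14, 2, 7, 15,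
    13, 0]

/-- Data. -/
def m11SylRowb : List ℕ :=
  [
    2, 4, 0, 7, 1, 6, 5, 3, 10, 13, 8, 14, 15, 9,
    11, 12]

/-- Certificate for a Sylow 2-subgroup. -/
def m11Syl : SylCert where
  gens := [
    817063818435691619682541939146163456,
    610933098178650810155900481226967136]
  elems := m11SylElems
  tree := m11SylTree
  srt := m11SylSrt
  mulIdx := [m11SylRowa, m11SylRowb]
  z := 588336453741888802646980634186500608
  ops := [
    (226163490421920935425105358177388576, 1, 0, 9),
    (984818244535754528103549039458486304, 2, 1, 7),
    (858248558397942118330623227411564096, 3, 0, 2),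
    (984818244535754528103549039458486304, 4, 2, 13),
    (234230977088952912759356983292273024, 5, 0, 4),
    (984818244535754528103549039458486304, 6, 2, 1)]
  levels := [
    (1, []),
    (6, []),
    (9, []),
    (13, [])]

/-- Rigidity data. -/
def m11SylStages : List (List ℕ) :=
  []

end

end Cfsg.Agent.Golay24
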