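import Cfsg.Agent.Lib.Golay.SylowQuotientCheck
import Cfsg.Agent.Lib.InvChar.UniqueAbelian64

/-!
The quotient of a Sylow 2-subgroup of M24 by its centre satisfies `Ab64.Good`.
-/

set_option autoImplicit false
set_option linter.style.haveILetI false

namespace Cfsg.Agent.Golay24.SylQuot

noncomputable section

open Cfsg
open scoped Pointwise

attribute [local irreducible] m24SylElems validP aList

theorem app_idP : ∀ n < 24, app idP n = n := by decide +kernel

theorem compP_canon {p q : ℕ} (_ : validP p = true) (_ : validP q = true) :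
    compP (compP p q) idP = compP p q := by
  have key : ∀ n ≤ 24, compTo (compP p q) idP n = compTo p q n := by
    intro n
    induction n with
    | zero => intro _; rfl
    | succ n ih =>
      intro hn
      show Nat.lor (Nat.shiftLeft (app (compP p q) (app idP n)) (5 * n)) (compTo (compP p q) idP n) =
        Nat.lor (Nat.shiftLeft (app p (app q n)) (5 * n)) (compTo p q n)
      rw [app_idP n (by omega), app_compP p q (by omega : n < 24), ih (by omega)]
  unfold compP
  exact key 24 le_rfl

/-- The certified Sylow subgroup. -/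
abbrev P₀ : Subgroup (Equiv.Perm GolayPt) := m24Syl.grp

theorem grp_ok : m24Syl.grpOk m24SylHyp.inH = true := m24SylHyp.grp

/-- The element of the Sylow subgroup with a given code. -/
def el (p : ℕ) : ↥P₀ :=
  if h : p ∈ m24Syl.elems then ⟨toPerm p, m24Syl.elem_mem grp_ok h⟩ else 1

theorem el_val {p : ℕ} (h : p ∈ m24Syl.elems) : (el p : Equiv.Perm GolayPt) = toPerm p := by
  simp [el, h]

theorem elems_valid {p : ℕ} (h : p ∈ m24Syl.elems) : validP p = true :=
  (m24Syl.valid grp_ok h).1

theorem z_mem : m24Syl.z ∈ m24Syl.elems := by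
  have h := m24SylHyp.closed
  simp only [SylCert.closedOk, Bool.and_eq_true, List.contains_iff_mem] at h
  exact h.1.1.1

theorem el_surjective (x : ↥P₀) : ∃ p ∈ m24Syl.elems, el p = x := by
  obtain ⟨p, hp, he⟩ := (m24Syl.mem_grp_iff grp_ok).mp x.2
  exact ⟨p, hp, Subtype.ext (by rw [el_val hp, he])⟩

theorem z_facts : (validP m24Syl.z = true ∧ compP m24Syl.z idP = m24Syl.z) ∧ m24Syl.z ≠ idP ∧
    ∀ g ∈ m24Syl.gens, compP g m24Syl.z = compP m24Syl.z g := by
  have h := z_check
  simp only [Bool.and_eq_true, beq_iff_eq, List.all_eq_true, bne_iff_ne, ne_eq] at h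
  exact ⟨h.1.1.1, h.1.1.2, h.2⟩

/-- The central involution. -/
def zz : ↥P₀ := el m24Syl.z

theorem zz_sq : zz * zz = 1 := by
  apply Subtype.ext
  rw [Subgroup.coe_mul, zz, el_val z_mem, Subgroup.coe_one,
    ← toPerm_compP (elems_valid z_mem) (elems_valid z_mem), z_sq, toPerm_idP]

theorem center_eq : Subgroup.center ↥P₀ = Subgroup.zpowers zz := by
  apply le_antisymm
  · intro x hx
    obtain ⟨p, hp, rfl⟩ := el_surjective x
    have h := m24SylHyp.closed
    simp only [SylCert.closedOk, Bool.and_eq_true, List.all_eq_true, Bool.or_eq_true, beq_iff_eq,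
      Bool.not_eq_true'] at h
    rcases h.1.1.2 p hp with (h1 | h1) | h1
    · have : el p = 1 := Subtype.ext (by rw [el_val hp, h1, toPerm_idP]; rfl)
      rw [this]; exact one_mem _
    · rw [h1]; exact Subgroup.mem_zpowers _
    · exfalso
      rw [Bool.eq_false_iff] at h1
      apply h1
      rw [List.all_eq_true]
      intro g hg
      rw [beq_iff_eq]
      have hgv := (m24Syl.gens_valid grp_ok hg).1
      have hgm : toPerm g ∈ P₀ := Subgroup.subset_closure ⟨g, hg, rfl⟩
      obtain ⟨q, hq, hqe⟩ := (m24Syl.mem_grp_iff grp_ok).mp hgm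
      have hc := congrArg Subtype.val (Subgroup.mem_center_iff.mp hx ⟨toPerm g, hgm⟩)
      rw [Subgroup.coe_mul, Subgroup.coe_mul, el_val hp] at hc
      simp only at hc
      have hpv := elems_valid hp
      rw [← toPerm_compP hgv hpv, ← toPerm_compP hpv hgv] at hc
      exact toPerm_inj (validP_compP hpv hgv) (validP_compP hgv hpv)
        (compP_canon hpv hgv) (compP_canon hgv hpv) hc.symm
  · rw [Subgroup.zpowers_le, Subgroup.mem_center_iff]
    intro x
    have key : P₀ ≤ Subgroup.centralizer {toPerm m24Syl.z} := by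
      refine (Subgroup.closure_le _).mpr ?_
      rintro _ ⟨g, hg, rfl⟩
      rw [SetLike.mem_coe, Subgroup.mem_centralizer_singleton_iff]
      have hgv := (m24Syl.gens_valid grp_ok hg).1
      rw [← toPerm_compP hgv (elems_valid z_mem), z_facts.2.2 g hg,
        toPerm_compP (elems_valid z_mem) hgv]
    apply Subtype.ext
    rw [Subgroup.coe_mul, Subgroup.coe_mul, zz, el_val z_mem]
    exact Subgroup.mem_centralizer_singleton_iff.mp (key x.2)

/-- The quotient by the centre. -/
abbrev S₀ := ↥P₀ ⧸ Subgroup.center ↥P₀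

/-- The class of a code. -/
def cl (p : ℕ) : S₀ := QuotientGroup.mk (el p)

theorem cl_z : cl m24Syl.z = 1 :=
  (QuotientGroup.eq_one_iff _).mpr (center_eq ▸ Subgroup.mem_zpowers zz)

theorem comp_mem {p q : ℕ} (hp : p ∈ m24Syl.elems) (hq : q ∈ m24Syl.elems) :
    compP p q ∈ m24Syl.elems := by
  have hm : toPerm p * toPerm q ∈ P₀ :=
    mul_mem (m24Syl.elem_mem grp_ok hp) (m24Syl.elem_mem grp_ok hq)
  obtain ⟨r, hr, hre⟩ := (m24Syl.mem_grp_iff grp_ok).mp hm
  rw [← toPerm_compP (elems_valid hp) (elems_valid hq)] at hre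
  have hrr := m24Syl.valid grp_ok hr
  rwa [← toPerm_inj hrr.1 (validP_compP (elems_valid hp) (elems_valid hq)) hrr.2
    (compP_canon (elems_valid hp) (elems_valid hq)) hre]

theorem el_comp {p q : ℕ} (hp : p ∈ m24Syl.elems) (hq : q ∈ m24Syl.elems) :
    el (compP p q) = el p * el q := by
  apply Subtype.ext
  rw [el_val (comp_mem hp hq), Subgroup.coe_mul, el_val hp, el_val hq,
    toPerm_compP (elems_valid hp) (elems_valid hq)]

theorem cl_comp {p q : ℕ} (hp : p ∈ m24Syl.elems) (hq : q ∈ m24Syl.elems) :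
    cl (compP p q) = cl p * cl q := by
  rw [cl, el_comp hp hq]; rfl

theorem idP_mem : idP ∈ m24Syl.elems := by
  obtain ⟨p, hp, he⟩ := el_surjective 1
  have h1 : toPerm p = toPerm idP := by
    rw [← el_val hp, he, toPerm_idP]; rfl
  have hv := m24Syl.valid grp_ok hp
  have hid : compP idP idP = idP := by decide +kernel
  rwa [toPerm_inj hv.1 idP_spec.1 hv.2 hid h1] at hp

theorem cl_idP : cl idP = 1 := by
  have : el idP = 1 := Subtype.ext (by rw [el_val idP_mem, toPerm_idP]; rfl)
  rw [cl, this]; rfl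

theorem eqz_iff {p q : ℕ} (hp : p ∈ m24Syl.elems) (hq : q ∈ m24Syl.elems) :
    eqz p q = true ↔ cl p = cl q := by
  simp only [eqz, Bool.or_eq_true, beq_iff_eq]
  constructor
  · rintro (rfl | rfl)
    · rfl
    · rw [cl_comp hq z_mem, cl_z, mul_one]
  · intro h
    have h1 : (el q)⁻¹ * el p ∈ Subgroup.center ↥P₀ := QuotientGroup.eq.mp h.symm
    rw [center_eq] at h1
    obtain ⟨n, hn⟩ := h1
    simp only at hn
    have hv := m24Syl.valid grp_ok hp
    rcases Int.even_or_odd n with ⟨m, rfl⟩ | ⟨m, rfl⟩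
    · left
      rw [← two_mul, zpow_mul, zpow_two, zz_sq, one_zpow] at hn
      have h2 := congrArg Subtype.val (inv_mul_eq_one.mp hn.symm)
      rw [el_val hq, el_val hp] at h2
      have hvq := m24Syl.valid grp_ok hq
      exact toPerm_inj hv.1 hvq.1 hv.2 hvq.2 h2.symm
    · right
      rw [zpow_add, zpow_mul, zpow_two, zz_sq, one_zpow, one_mul, zpow_one] at hn
      have h2 : el p = el q * zz := by rw [hn, mul_inv_cancel_left]
      rw [zz, ← el_comp hq z_mem] at h2
      have h3 := congrArg Subtype.val h2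
      rw [el_val hp, el_val (comp_mem hq z_mem)] at h3
      have hvq := elems_valid hq
      exact toPerm_inj hv.1 (validP_compP hvq (elems_valid z_mem)) hv.2
        (compP_canon hvq (elems_valid z_mem)) h3

theorem commz_iff {p q : ℕ} (hp : p ∈ m24Syl.elems) (hq : q ∈ m24Syl.elems) :
    commz p q = true ↔ Commute (cl p) (cl q) := by
  rw [commz, eqz_iff (comp_mem hp hq) (comp_mem hq hp), cl_comp hp hq, cl_comp hq hp]
  rfl

theorem aGens_mem {g : ℕ} (hg : g ∈ aGens) : g ∈ m24Syl.elems := by
  have h := List.all_eq_true.mp mem_check g (List.mem_append_left _ hg)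
  rwa [List.contains_iff_mem] at h

theorem uReps_mem {u : ℕ} (hu : u ∈ uReps) : u ∈ m24Syl.elems := by
  have h := List.all_eq_true.mp mem_check u (List.mem_append_right _ hu)
  rwa [List.contains_iff_mem] at h

theorem uReps_length : uReps.length = 8 := rfl

theorem u_mem (i : Fin 8) : uReps.getD i 0 ∈ m24Syl.elems := by
  apply uReps_mem
  rw [List.getD_eq_getElem _ _ (by rw [uReps_length]; exact i.2)]
  exact List.getElem_mem _

theorem aList_mem {a : ℕ} (ha : a ∈ aList) : a ∈ m24Syl.elems := by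
  unfold aList at ha
  have : ∀ l : List ℕ, (∀ g ∈ l, g ∈ m24Syl.elems) →
      ∀ a ∈ l.foldr (fun g l => l ++ l.map (compP g)) [idP], a ∈ m24Syl.elems := by
    intro l
    induction l with
    | nil => intro _ a ha; rw [List.foldr_nil, List.mem_singleton] at ha; rw [ha]; exact idP_mem
    | cons g l ih =>
      intro hl a ha
      rw [List.foldr_cons, List.mem_append] at ha
      rcases ha with ha | ha
      · exact ih (fun x hx => hl x (List.mem_cons_of_mem _ hx)) a ha
      · obtain ⟨b, hb, rfl⟩ := List.mem_map.mp ha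
        exact comp_mem (hl g List.mem_cons_self)
          (ih (fun x hx => hl x (List.mem_cons_of_mem _ hx)) b hb)
  exact this aGens (fun g hg => aGens_mem hg) a ha

theorem idP_aList : idP ∈ aList := by decide +kernel

/-- The abelian subgroup. -/
def A₀ : Subgroup S₀ := Subgroup.closure {x | ∃ g ∈ aGens, cl g = x}

theorem gens_comm {g h : ℕ} (hg : g ∈ aGens) (hh : h ∈ aGens) : Commute (cl g) (cl h) := by
  have h1 := gens_check
  simp only [List.all_eq_true, Bool.and_eq_true] at h1
  exact (commz_iff (aGens_mem hg) (aGens_mem hh)).mp ((h1 g hg).2 h hh)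

theorem gens_sq {g : ℕ} (hg : g ∈ aGens) : cl g * cl g = 1 := by
  have h1 := gens_check
  simp only [List.all_eq_true, Bool.and_eq_true] at h1
  have := (eqz_iff (comp_mem (aGens_mem hg) (aGens_mem hg)) idP_mem).mp (h1 g hg).1.2
  rwa [cl_comp (aGens_mem hg) (aGens_mem hg), cl_idP] at this

theorem A₀_comm : IsMulCommutative ↥A₀ := by
  refine Subgroup.isMulCommutative_closure ?_
  rintro x ⟨g, hg, rfl⟩ y ⟨h, hh, rfl⟩
  exact gens_comm hg hh

theorem A₀_elem : Cfsg.IsElementaryAbelian 2 A₀ := by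
  refine ⟨A₀_comm, fun x hx => ?_⟩
  induction hx using Subgroup.closure_induction with
  | mem x hx => obtain ⟨g, hg, rfl⟩ := hx; rw [pow_two]; exact gens_sq hg
  | one => exact one_pow _
  | mul x y hx hy h1 h2 =>
    have hxy : Commute x y := congrArg Subtype.val
      (A₀_comm.is_comm.comm (⟨x, hx⟩ : A₀) ⟨y, hy⟩)
    rw [hxy.mul_pow, h1, h2, one_mul]
  | inv x hx h1 => rw [inv_pow, h1, inv_one]

theorem aList_A₀ {a : ℕ} (ha : a ∈ aList) : cl a ∈ A₀ := by
  unfold aList at ha
  have : ∀ l : List ℕ, (∀ g ∈ l, g ∈ aGens) →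
      ∀ a ∈ l.foldr (fun g l => l ++ l.map (compP g)) [idP], a ∈ m24Syl.elems ∧ cl a ∈ A₀ := by
    intro l
    induction l with
    | nil =>
      intro _ a ha
      rw [List.foldr_nil, List.mem_singleton] at ha
      rw [ha, cl_idP]; exact ⟨idP_mem, one_mem _⟩
    | cons g l ih =>
      intro hl a ha
      rw [List.foldr_cons, List.mem_append] at ha
      rcases ha with ha | ha
      · exact ih (fun x hx => hl x (List.mem_cons_of_mem _ hx)) a ha
      · obtain ⟨b, hb, rfl⟩ := List.mem_map.mp ha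
        have hg := hl g List.mem_cons_self
        obtain ⟨hbm, hbA⟩ := ih (fun x hx => hl x (List.mem_cons_of_mem _ hx)) b hb
        refine ⟨comp_mem (aGens_mem hg) hbm, ?_⟩
        rw [cl_comp (aGens_mem hg) hbm]
        exact mul_mem (Subgroup.subset_closure ⟨g, hg, rfl⟩) hbA
  exact (this aGens (fun g hg => hg) a ha).2

theorem mem_A₀_iff {x : S₀} : x ∈ A₀ ↔ ∃ a ∈ aList, cl a = x := by
  refine ⟨fun hx => ?_, by rintro ⟨a, ha, rfl⟩; exact aList_A₀ ha⟩
  have hstep : ∀ g ∈ aGens, ∀ a ∈ aList, ∃ b ∈ aList, cl g * cl a = cl b := by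
    intro g hg a ha
    have h1 := closed_check
    simp only [List.all_eq_true, List.any_eq_true] at h1
    obtain ⟨b, hb, he⟩ := h1 g hg a ha
    refine ⟨b, hb, ?_⟩
    rw [← cl_comp (aGens_mem hg) (aList_mem ha)]
    exact (eqz_iff (comp_mem (aGens_mem hg) (aList_mem ha)) (aList_mem hb)).mp he
  induction hx using Subgroup.closure_induction_left with
  | one => exact ⟨idP, idP_aList, cl_idP⟩
  | mul_left x hx y hy ih =>
    obtain ⟨g, hg, rfl⟩ := hx
    obtain ⟨a, ha, rfl⟩ := ih
    obtain ⟨b, hb, he⟩ := hstep g hg a ha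
    exact ⟨b, hb, he.symm⟩
  | inv_mul_cancel x hx y hy ih =>
    obtain ⟨g, hg, rfl⟩ := hx
    obtain ⟨a, ha, rfl⟩ := ih
    rw [inv_eq_of_mul_eq_one_right (gens_sq hg)]
    obtain ⟨b, hb, he⟩ := hstep g hg a ha
    exact ⟨b, hb, he.symm⟩

theorem aList_length : aList.length = 64 := by decide +kernel

theorem card_A₀ : Nat.card A₀ = 64 := by
  let f : Fin aList.length → A₀ := fun i => ⟨cl aList[i], aList_A₀ (List.getElem_mem _)⟩
  have hb : Function.Bijective f := by
    refine ⟨fun i j hij => ?_, fun x => ?_⟩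
    · by_contra hne
      have h := distinct_check
      simp only [List.all_eq_true, List.mem_range, Bool.or_eq_true, beq_iff_eq, Bool.not_eq_true'] at h
      rcases h i i.2 j j.2 with h1 | h1
      · exact hne (Fin.ext h1)
      rw [List.getD_eq_getElem _ _ i.2, List.getD_eq_getElem _ _ j.2, Bool.eq_false_iff] at h1
      exact h1 ((eqz_iff (aList_mem (List.getElem_mem _)) (aList_mem (List.getElem_mem _))).mpr
        (congrArg Subtype.val hij))
    · obtain ⟨a, ha, hx⟩ := mem_A₀_iff.mp x.2
      obtain ⟨i, hi, rfl⟩ := List.mem_iff_getElem.mp ha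
      exact ⟨⟨i, hi⟩, Subtype.ext hx⟩
  rw [← Nat.card_congr (Equiv.ofBijective f hb), Nat.card_fin, aList_length]

theorem A₀_normal : A₀.Normal := by
  rw [← Subgroup.normalizer_eq_top_iff, eq_top_iff]
  intro x _
  obtain ⟨y, rfl⟩ := QuotientGroup.mk_surjective x
  have key : (⊤ : Subgroup ↥P₀) ≤
      (Subgroup.normalizer (A₀ : Set S₀)).comap (QuotientGroup.mk' (Subgroup.center ↥P₀)) := by
    rintro ⟨σ, hσ⟩ -
    revert hσ
    intro hσ
    have hgen : ∀ τ, ∀ hτ : τ ∈ P₀, (QuotientGroup.mk (⟨τ, hτ⟩ : ↥P₀) : S₀) ∈ Subgroup.normalizer (A₀ : Set S₀) := by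
      intro τ hτ
      induction hτ using Subgroup.closure_induction with
      | mem τ hτ =>
        obtain ⟨g, hg, rfl⟩ := hτ
        have hgm : toPerm g ∈ P₀ := Subgroup.subset_closure ⟨g, hg, rfl⟩
        obtain ⟨q, hq, hqe⟩ := (m24Syl.mem_grp_iff grp_ok).mp hgm
        have hgv := (m24Syl.gens_valid grp_ok hg).1
        have hgq : g = q ∨ compP g idP ≠ g := by
          by_cases h : compP g idP = g
          · exact Or.inl (toPerm_inj hgv (elems_valid hq) h (m24Syl.valid grp_ok hq).2 hqe.symm)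
          · exact Or.inr h
        have hgc : compP g idP = g := by
          have : m24Syl.gens.all (fun g => compP g idP == g) = true := by decide +kernel
          exact beq_iff_eq.mp (List.all_eq_true.mp this g hg)
        have hge : g ∈ m24Syl.elems := by
          rcases hgq with rfl | h
          · exact hq
          · exact absurd hgc h
        have hcl : (QuotientGroup.mk (⟨toPerm g, Subgroup.subset_closure ⟨g, hg, rfl⟩⟩ : ↥P₀) : S₀) =
            cl g := by
          rw [cl]
          congr 1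
          exact Subtype.ext (el_val hge).symm
        rw [hcl]
        have hle : A₀.map (MulAut.conj (cl g)).toMonoidHom ≤ A₀ := by
          rw [A₀, MonoidHom.map_closure, Subgroup.closure_le]
          rintro _ ⟨_, ⟨a, ha, rfl⟩, rfl⟩
          have h1 := normal_check
          simp only [List.all_eq_true, List.any_eq_true] at h1
          obtain ⟨b, hb, he⟩ := h1 g hg a ha
          have h2 := (eqz_iff (comp_mem hge (aGens_mem ha)) (comp_mem (aList_mem hb) hge)).mp he
          rw [cl_comp hge (aGens_mem ha), cl_comp (aList_mem hb) hge] at h2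
          show cl g * cl a * (cl g)⁻¹ ∈ _
          rw [h2, mul_inv_cancel_right]
          exact aList_A₀ hb
        have he : A₀.map (MulAut.conj (cl g)).toMonoidHom = A₀ := Subgroup.eq_of_le_of_card_ge hle
          (by rw [Subgroup.card_map_of_injective (MulAut.conj (cl g)).injective])
        rw [Subgroup.mem_normalizer_iff]
        intro w
        refine ⟨fun hw => he ▸ ⟨w, hw, rfl⟩, fun hw => ?_⟩
        obtain ⟨a, ha, hae⟩ : cl g * w * (cl g)⁻¹ ∈ A₀.map (MulAut.conj (cl g)).toMonoidHom := by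
          rw [he]; exact hw
        rwa [(MulAut.conj (cl g)).injective (hae : MulAut.conj (cl g) a = MulAut.conj (cl g) w)] at ha
      | one => exact one_mem _
      | mul a b ha hb h1 h2 => exact mul_mem h1 h2
      | inv a ha h1 => exact inv_mem h1
    exact hgen σ hσ
  exact key (Subgroup.mem_top y)

theorem card_S₀ : Nat.card S₀ = 512 := by
  have h1 := (Subgroup.center ↥P₀).card_eq_card_quotient_mul_card_subgroup
  rw [m24Syl.card_grp grp_ok, m24SylHyp.len] at h1
  have h2 : Nat.card (Subgroup.center ↥P₀) = 2 := by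
    haveI : Fact (Nat.Prime 2) := ⟨Nat.prime_two⟩
    rw [center_eq, Nat.card_zpowers, orderOf_eq_prime (by rw [pow_two]; exact zz_sq)]
    intro he
    have h3 := congrArg Subtype.val he
    rw [zz, el_val z_mem, Subgroup.coe_one, ← toPerm_idP] at h3
    exact z_facts.2.1 (toPerm_inj (elems_valid z_mem) idP_spec.1 z_facts.1.2
      (by decide +kernel) h3)
  rw [h2] at h1
  have h10 : (2 : ℕ) ^ m24SylHyp.k = 1024 := rfl
  rw [h10] at h1
  show Nat.card (↥P₀ ⧸ Subgroup.center ↥P₀) = 512
  omega

theorem card_filter_le (Pr : S₀ → Prop) (f : ℕ → Bool)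
    (hf : ∀ a ∈ aList, Pr (cl a) → f a = true) :
    Nat.card {a : A₀ // Pr (a : S₀)} ≤ (aList.filter f).length := by
  let l := aList.filter f
  have h : ∀ x : {a : A₀ // Pr (a : S₀)}, ∃ i : Fin l.length, cl l[i] = ((x : A₀) : S₀) := by
    intro x
    obtain ⟨a, ha, hx⟩ := mem_A₀_iff.mp (x : A₀).2
    obtain ⟨i, hi, hie⟩ := List.mem_iff_getElem.mp
      (List.mem_filter.mpr ⟨ha, hf a ha (hx ▸ x.2)⟩ : a ∈ l)
    exact ⟨⟨i, hi⟩, by rw [← hx, ← hie]; rfl⟩
  choose F hF using h
  have := Nat.card_le_card_of_injective F (fun x y hxy => Subtype.ext (Subtype.ext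
    (by rw [← hF x, ← hF y, hxy])))
  rwa [Nat.card_fin] at this

/-- The hypotheses hold. -/
def hyp : InvChar.Ab64.Hyp S₀ where
  A := A₀
  u i := cl (uReps.getD i 0)
  normal := A₀_normal
  elem := A₀_elem
  cardA := card_A₀
  cardS := card_S₀
  inj i j h := by
    by_contra hne
    obtain ⟨a, ha, he⟩ := mem_A₀_iff.mp h
    have h1 := cosets_check
    simp only [List.all_eq_true, List.mem_range, Bool.or_eq_true, beq_iff_eq, Bool.not_eq_true'] at h1
    rcases h1 i i.2 j j.2 with h2 | h2
    · exact hne (Fin.ext h2)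
    have h3 := h2 a ha
    rw [Bool.eq_false_iff] at h3
    apply h3
    rw [eqz_iff (u_mem j) (comp_mem (u_mem i) (aList_mem ha)), cl_comp (u_mem i) (aList_mem ha), he,
      mul_inv_cancel_left]
  mem0 := by
    have : aList.any (fun a => eqz (uReps.getD 0 0) a) = true := by decide +kernel
    obtain ⟨a, ha, he⟩ := List.any_eq_true.mp this
    have he' := (eqz_iff (u_mem 0) (aList_mem ha)).mp he
    show cl (uReps.getD ((0 : Fin 8) : ℕ) 0) ∈ A₀
    rw [he']
    exact aList_A₀ ha
  one i hi := by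
    have h1 := one_check
    simp only [List.all_eq_true, List.mem_range, Bool.or_eq_true, beq_iff_eq, Nat.blt_eq] at h1
    rcases h1 i i.2 with h2 | h2
    · exact absurd (Fin.ext h2) hi
    refine lt_of_le_of_lt (card_filter_le _ _ fun a ha hc => ?_) h2
    exact (commz_iff (u_mem i) (aList_mem ha)).mpr hc
  two i j hi hj hij := by
    have h1 := pair_check
    simp only [List.all_eq_true, List.mem_range, Bool.or_eq_true, beq_iff_eq, Nat.blt_eq] at h1
    rcases h1 i i.2 with h2 | h2
    · exact absurd (Fin.ext h2) hi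
    rcases h2 j j.2 with (h3 | h3) | h3
    · exact absurd (Fin.ext h3) hj
    · exact absurd (Fin.ext h3) hij
    refine lt_of_le_of_lt (card_filter_le
      (fun a => Commute (cl (uReps.getD i 0)) a ∧ Commute (cl (uReps.getD j 0)) a) _
      fun a ha hc => ?_) h3
    rw [Bool.and_eq_true]
    exact ⟨(commz_iff (u_mem i) (aList_mem ha)).mpr hc.1, (commz_iff (u_mem j) (aList_mem ha)).mpr hc.2⟩
  all := by
    have h1 := all_check
    rw [Nat.blt_eq] at h1
    refine Nat.le_of_lt_succ (lt_of_le_of_lt (card_filter_le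
      (fun a => ∀ i : Fin 8, Commute (cl (uReps.getD i 0)) a) _ fun a ha hc => ?_) h1)
    simp only [List.all_eq_true, List.mem_range]
    exact fun i hi => (commz_iff (u_mem ⟨i, hi⟩) (aList_mem ha)).mpr (hc ⟨i, hi⟩)

theorem good (P : Sylow 2 ↥Cfsg.M24) :
    InvChar.Ab64.Good (↥(P : Subgroup ↥Cfsg.M24) ⧸ Subgroup.center ↥(P : Subgroup ↥Cfsg.M24)) := by
  obtain ⟨g, hg⟩ := MulAction.exists_smul_eq ↥Cfsg.M24 m24SylHyp.sylow P
  let e₁ : ↥P₀ ≃* ↥(m24SylHyp.sylow : Subgroup ↥Cfsg.M24) :=
    (Subgroup.subgroupOfEquivOfLe (m24Syl.grp_le grp_ok m24SylHyp.mem)).symm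
  let e₂ : ↥(m24SylHyp.sylow : Subgroup ↥Cfsg.M24) ≃* ↥(P : Subgroup ↥Cfsg.M24) :=
    (m24SylHyp.sylow.equivSMul g).trans (MulEquiv.subgroupCongr (congrArg Sylow.toSubgroup hg))
  have hmap : (Subgroup.center ↥P₀).map (e₁.trans e₂).toMonoidHom =
      Subgroup.center ↥(P : Subgroup ↥Cfsg.M24) := by
    ext x
    constructor
    · rintro ⟨c, hc, rfl⟩
      rw [Subgroup.mem_center_iff]
      intro y
      obtain ⟨y, rfl⟩ := (e₁.trans e₂).surjective y
      show (e₁.trans e₂) y * (e₁.trans e₂) c = (e₁.trans e₂) c * (e₁.trans e₂) y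
      rw [← map_mul, ← map_mul, Subgroup.mem_center_iff.mp hc y]
    · intro hx
      obtain ⟨c, rfl⟩ := (e₁.trans e₂).surjective x
      refine ⟨c, Subgroup.mem_center_iff.mpr fun y => (e₁.trans e₂).injective ?_, rfl⟩
      rw [map_mul, map_mul]
      exact Subgroup.mem_center_iff.mp hx _
  exact hyp.good.of_equiv (QuotientGroup.congr _ _ (e₁.trans e₂) hmap)

end

end Cfsg.Agent.Golay24.SylQuot
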