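import Cfsg.Agent.Lib.Golay.SylowM24

/-!
The quotient of a Sylow 2-subgroup of M24 by its centre: its abelian subgroup of order 64.
-/

set_option autoImplicit false
set_option linter.style.haveILetI false

namespace Cfsg.Agent.Golay24.SylQuot

noncomputable section

open Cfsg
open scoped Pointwise

/-- Generators of the abelian subgroup. -/
def aGens : List ℕ :=
  [393529461137811889672094259050054739,
   944538627742660781242037951888164896,
   227538616347374368319792960528333227,
   635089605268090669710769950761891274,
   506947478195025181005428580363174498,
   218461128346451766351799765175937389]

/-- Representatives of its cosets. -/
def uReps : List ℕ :=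
  [984818244535754528103549039458486304,
   313095249916655483477199944049539115,
   384451833106582944035162967867274314,
   148634575975169860640878243161197633,
   751767955472773562259180079237445066,
   506947822340567173568365614815751598,
   384452267625115959274333596962966977,
   858949054293402842744279075535323554]

/-- All products of generators. -/
def aList : List ℕ := aGens.foldr (fun g l => l ++ l.map (compP g)) [idP]

/-- Equality up to the central involution. -/
def eqz (p q : ℕ) : Bool := p == q || p == compP q m24Syl.z

/-- Commuting up to the central involution. -/
def commz (p q : ℕ) : Bool := eqz (compP p q) (compP q p)

attribute [local irreducible] m24SylElems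

theorem gens_check : aGens.all (fun g => commz g g && eqz (compP g g) idP &&
    aGens.all (fun h => commz g h)) = true := by decide +kernel

theorem list_check : aList.all (fun a => validP a && compP a idP == a) = true := by decide +kernel

theorem z_check : (validP m24Syl.z && compP m24Syl.z idP == m24Syl.z && m24Syl.z != idP &&
    eqz (compP m24Syl.z m24Syl.z) idP &&
    m24Syl.gens.all (fun g => compP g m24Syl.z == compP m24Syl.z g)) = true := by decide +kernel

theorem z_sq : compP m24Syl.z m24Syl.z = idP := by decide +kernel

theorem mem_check : (aGens ++ uReps).all (fun p => m24Syl.elems.contains p) = true := by
  decide +kernel

theorem closed_check : aGens.all (fun g => aList.all fun a => aList.any fun b => eqz (compP g a) b)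
    = true := by decide +kernel

theorem distinct_check : (List.range aList.length).all (fun i => (List.range aList.length).all
    fun j => i == j || !eqz (aList.getD i 0) (aList.getD j 0)) = true := by decide +kernel

theorem normal_check : m24Syl.gens.all (fun s => aGens.all fun g => aList.any fun b =>
    eqz (compP s g) (compP b s)) = true := by decide +kernel

theorem cosets_check : (List.range 8).all (fun i => (List.range 8).all fun j => i == j ||
    aList.all fun a => !eqz (uReps.getD j 0) (compP (uReps.getD i 0) a)) = true := by decide +kernel

theorem pair_check : (List.range 8).all (fun i => i == 0 || (List.range 8).all fun j =>
    j == 0 || i == j ||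
      Nat.blt (aList.filter fun a => commz (uReps.getD i 0) a && commz (uReps.getD j 0) a).length 16)
    = true := by decide +kernel

theorem one_check : (List.range 8).all (fun i => i == 0 ||
    Nat.blt (aList.filter fun a => commz (uReps.getD i 0) a).length 32) = true := by decide +kernel

theorem all_check : Nat.blt
    (aList.filter fun a => (List.range 8).all fun i => commz (uReps.getD i 0) a).length 5 = true := by
  decide +kernel

end

end Cfsg.Agent.Golay24.SylQuot
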