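import Cfsg.Agent.Lib.Golay.TrioStab
import Cfsg.Agent.Lib.Golay.IsoCert
import Mathlib.LinearAlgebra.Matrix.GeneralLinearGroup.Card
import Mathlib.Algebra.Field.ZMod

/-!
The image group of the trio stabiliser, decoded from numerals.
-/

set_option autoImplicit false

namespace Cfsg.Agent.Golay24

noncomputable section

/-- The three by three matrix of a numeral. -/
def matOfBits (m : ℕ) : Matrix (Fin 3) (Fin 3) (ZMod 2) :=
  Matrix.of fun i j => if Nat.testBit m (3 * i.val + j.val) then 1 else 0

/-- The map of three points of a numeral. -/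
def funOfBits (p : ℕ) (i : Fin 3) : Fin 3 :=
  ⟨Nat.mod (Nat.mod (Nat.shiftRight p (2 * i.val)) 4) 3, Nat.mod_lt _ (by norm_num)⟩

/-- Determinant on bits. -/
def detBits (m : ℕ) : Bool :=
  let t := Nat.testBit m
  ((t 0 && t 4 && t 8) ^^ (t 0 && t 5 && t 7)) ^^ ((t 1 && t 3 && t 8) ^^ (t 1 && t 5 && t 6)) ^^
    ((t 2 && t 3 && t 7) ^^ (t 2 && t 4 && t 6))

/-- Valid name of an element of the product. -/
def imgOk (c : ℕ) : Bool :=
  let p := Nat.shiftRight c 9
  detBits c && ((List.range 3).all fun i => Nat.blt (Nat.mod (Nat.shiftRight p (2 * i)) 4) 3) &&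
    !(Nat.mod p 4 == Nat.mod (Nat.shiftRight p 2) 4) &&
    !(Nat.mod p 4 == Nat.mod (Nat.shiftRight p 4) 4) &&
    !(Nat.mod (Nat.shiftRight p 2) 4 == Nat.mod (Nat.shiftRight p 4) 4) &&
    Nat.blt c 32768

/-- The name of a product. -/
def imgMulOk (g x r : ℕ) : Bool :=
  ((List.range 3).all fun i => (List.range 3).all fun k =>
    Nat.testBit r (3 * i + k) ==
      (((Nat.testBit g (3 * i) && Nat.testBit x k) ^^ (Nat.testBit g (3 * i + 1) && Nat.testBit x (3 + k))) ^^
        (Nat.testBit g (3 * i + 2) && Nat.testBit x (6 + k)))) &&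
  (List.range 3).all fun i =>
    Nat.mod (Nat.shiftRight (Nat.shiftRight r 9) (2 * i)) 4 ==
      Nat.mod (Nat.shiftRight (Nat.shiftRight g 9)
        (2 * Nat.mod (Nat.shiftRight (Nat.shiftRight x 9) (2 * i)) 4)) 4

theorem det_bool : ∀ a b c d e f g h k : Bool,
    let v : Bool → ZMod 2 := fun x => if x = true then 1 else 0
    v a * v e * v k - v a * v f * v h - v b * v d * v k + v b * v f * v g + v c * v d * v h -
        v c * v e * v g =
      v ((((a && e && k) ^^ (a && f && h)) ^^ ((b && d && k) ^^ (b && f && g))) ^^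
        ((c && d && h) ^^ (c && e && g))) := by
  decide +kernel

theorem det_matOfBits (m : ℕ) : (matOfBits m).det = if detBits m then 1 else 0 := by
  rw [Matrix.det_fin_three]
  simp only [matOfBits, Matrix.of_apply, detBits, Fin.val_zero, Fin.val_one, Fin.val_two]
  exact det_bool _ _ _ _ _ _ _ _ _

theorem matOfBits_mul {g x r : ℕ} (h : imgMulOk g x r = true) :
    matOfBits r = matOfBits g * matOfBits x := by
  simp only [imgMulOk, Bool.and_eq_true, List.all_eq_true, List.mem_range, beq_iff_eq] at h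
  refine Matrix.ext fun i k => ?_
  rw [Matrix.mul_apply, Fin.sum_univ_three]
  simp only [matOfBits, Matrix.of_apply, Fin.val_zero, Fin.val_one, Fin.val_two, Nat.mul_zero,
    Nat.zero_add, Nat.add_zero, Nat.mul_one]
  rw [h.1 i.val i.isLt k.val k.isLt]
  generalize Nat.testBit g (3 * i.val) = a0
  generalize Nat.testBit g (3 * i.val + 1) = a1
  generalize Nat.testBit g (3 * i.val + 2) = a2
  generalize Nat.testBit x k.val = c0
  generalize Nat.testBit x (3 + k.val) = c1
  generalize Nat.testBit x (6 + k.val) = c2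
  revert a0 a1 a2 c0 c1 c2
  decide +kernel

theorem funOfBits_val {c : ℕ} (h : imgOk c = true) (i : Fin 3) :
    (funOfBits (Nat.shiftRight c 9) i).val = Nat.mod (Nat.shiftRight (Nat.shiftRight c 9) (2 * i.val)) 4 := by
  simp only [imgOk, Bool.and_eq_true, List.all_eq_true, List.mem_range, Nat.blt_eq] at h
  exact Nat.mod_eq_of_lt (h.1.1.1.1.2 i.val i.isLt)

theorem funOfBits_injective {c : ℕ} (h : imgOk c = true) :
    Function.Injective (funOfBits (Nat.shiftRight c 9)) := by
  intro i j hij
  have e := congrArg Fin.val hij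
  rw [funOfBits_val h, funOfBits_val h] at e
  simp only [imgOk, Bool.and_eq_true, Bool.not_eq_true', beq_eq_false_iff_ne] at h
  obtain ⟨⟨⟨⟨⟨-, -⟩, h01⟩, h02⟩, h12⟩, -⟩ := h
  have e0 : Nat.shiftRight (Nat.shiftRight c 9) 0 = Nat.shiftRight c 9 := rfl
  fin_cases i <;> fin_cases j <;> simp only [Fin.zero_eta, Fin.mk_one, Fin.reduceFinMk,
      Fin.val_zero, Fin.val_one, Fin.val_two, Nat.mul_zero, Nat.mul_one, e0] at e <;>
    first
    | rfl
    | exact absurd e h01
    | exact absurd e.symm h01
    | exact absurd e h02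
    | exact absurd e.symm h02
    | exact absurd e h12
    | exact absurd e.symm h12

open Classical in
/-- The element of the product named by a numeral. -/
def decImg (c : ℕ) : GL (Fin 3) (ZMod 2) × Equiv.Perm (Fin 3) :=
  if h : imgOk c = true then
    (Matrix.GeneralLinearGroup.mkOfDetNeZero (matOfBits c) (by
        rw [det_matOfBits]
        simp only [imgOk, Bool.and_eq_true] at h
        simp [h.1.1.1.1.1]),
      Equiv.ofBijective _ (funOfBits_injective h).bijective_of_finite)
  else 1

theorem decImg_mat {c : ℕ} (h : imgOk c = true) :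
    ((decImg c).1 : Matrix (Fin 3) (Fin 3) (ZMod 2)) = matOfBits c := by
  rw [decImg, dif_pos h]; rfl

theorem decImg_fun {c : ℕ} (h : imgOk c = true) (i : Fin 3) :
    (decImg c).2 i = funOfBits (Nat.shiftRight c 9) i := by
  rw [decImg, dif_pos h]; rfl

theorem decImg_mul {g x r : ℕ} (hg : imgOk g = true) (hx : imgOk x = true) (hr : imgOk r = true)
    (h : imgMulOk g x r = true) : decImg r = decImg g * decImg x := by
  refine Prod.ext ?_ ?_
  · apply Units.ext
    rw [Prod.fst_mul, Units.val_mul, decImg_mat hg, decImg_mat hx, decImg_mat hr, matOfBits_mul h]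
  · refine Equiv.ext fun i => ?_
    rw [Prod.snd_mul, Equiv.Perm.mul_apply, decImg_fun hg, decImg_fun hx, decImg_fun hr]
    apply Fin.ext
    simp only [imgMulOk, Bool.and_eq_true, List.all_eq_true, List.mem_range, beq_iff_eq] at h
    rw [funOfBits_val hr, funOfBits_val hg, funOfBits_val hx, h.2 i.val i.isLt]

theorem decImg_id : decImg (273 + 36 * 512) = 1 := by
  have h : imgOk (273 + 36 * 512) = true := by decide +kernel
  refine Prod.ext ?_ ?_
  · apply Units.ext
    rw [decImg_mat h]
    show matOfBits _ = 1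
    decide +kernel
  · refine Equiv.ext fun i => ?_
    rw [decImg_fun h]
    revert i
    decide +kernel

theorem decImg_inj {c d : ℕ} (hc : imgOk c = true) (hd : imgOk d = true) (h : decImg c = decImg d) :
    c = d := by
  have hm := congrArg (fun x => ((x.1 : GL (Fin 3) (ZMod 2)) : Matrix (Fin 3) (Fin 3) (ZMod 2))) h
  simp only [decImg_mat hc, decImg_mat hd] at hm
  have hbit : ∀ k, k < 9 → Nat.testBit c k = Nat.testBit d k := by
    intro k hk
    have := congrFun (congrFun hm ⟨k / 3, by omega⟩) ⟨k % 3, by omega⟩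
    simp only [matOfBits, Matrix.of_apply, Nat.div_add_mod] at this
    revert this
    cases Nat.testBit c k <;> cases Nat.testBit d k <;> decide
  have hval : ∀ i : Fin 3, Nat.mod (Nat.shiftRight (Nat.shiftRight c 9) (2 * i.val)) 4 =
      Nat.mod (Nat.shiftRight (Nat.shiftRight d 9) (2 * i.val)) 4 := by
    intro i
    rw [← funOfBits_val hc, ← funOfBits_val hd, ← decImg_fun hc, ← decImg_fun hd, h]
  simp only [imgOk, Bool.and_eq_true, Nat.blt_eq] at hc hd
  have lo : c % 2 ^ 9 = d % 2 ^ 9 := by
    apply Nat.eq_of_testBit_eq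
    intro k
    rw [Nat.testBit_mod_two_pow, Nat.testBit_mod_two_pow]
    by_cases hk : k < 9
    · rw [hbit k hk]
    · simp [hk]
  have v0 := hval 0
  have v1 := hval 1
  have v2 := hval 2
  simp only [Fin.val_zero, Fin.val_one, Fin.val_two, Nat.mul_zero, Nat.mul_one] at v0 v1 v2
  change (c >>> 9 >>> 0) % 4 = (d >>> 9 >>> 0) % 4 at v0
  change (c >>> 9 >>> 2) % 4 = (d >>> 9 >>> 2) % 4 at v1
  change (c >>> 9 >>> (2 * 2)) % 4 = (d >>> 9 >>> (2 * 2)) % 4 at v2
  simp only [Nat.shiftRight_eq_div_pow] at v0 v1 v2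
  omega

theorem card_imgGroup : Nat.card (GL (Fin 3) (ZMod 2) × Equiv.Perm (Fin 3)) = 1008 := by
  rw [Nat.card_prod, Matrix.card_GL_field, Nat.card_perm]
  simp [Fin.prod_univ_three, ZMod.card, Nat.factorial]

theorem trioImgs_ok : (trioImgs.all imgOk && trioGenImgs.all imgOk && (trioImgs.length == 1008) &&
    (trioImgs.getD 0 0 == 273 + 36 * 512) && (trioGenImgs.length == 2) &&
    (trioRow0.length == 1008) && (trioRow1.length == 1008)) = true := by decide +kernel

/-- Strictly increasing values along a sorting permutation. -/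
def incrOk (tab : ℕ) : List ℕ → Bool
  | a :: b :: l => Nat.blt (getSlot 16 tab a) (getSlot 16 tab b) && incrOk tab (b :: l)
  | _ => true

theorem incrOk_pairwise (tab : ℕ) : ∀ l : List ℕ, incrOk tab l = true →
    (l.map (getSlot 16 tab)).Pairwise (· < ·)
  | [], _ => List.Pairwise.nil
  | [_], _ => by simp
  | a :: b :: l, h => by
      simp only [incrOk, Bool.and_eq_true, Nat.blt_eq] at h
      have ih := incrOk_pairwise tab (b :: l) h.2
      simp only [List.map_cons, List.pairwise_cons] at ih ⊢
      refine ⟨fun x hx => ?_, ih⟩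
      rcases List.mem_cons.1 hx with rfl | hx'
      · exact h.1
      · exact lt_trans h.1 (ih.1 x hx')

end

/-- The two tables against one generator. -/
noncomputable def quotRowOk (h g rt it nt : ℕ) : List ℕ → List ℕ → List ℕ → List ℕ → Bool
  | x :: xs, y :: ys, r :: rs, k :: ks =>
    Nat.blt r 1008 && Nat.blt k 64 && (compP h x == compP (getSlot 120 rt r) (getSlot 120 nt k)) &&
      imgMulOk g y (getSlot 16 it r) && quotRowOk h g rt it nt xs ys rs ks
  | [], [], [], [] => true
  | _, _, _, _ => false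

theorem quotRowOk_spec {h g rt it nt : ℕ} : ∀ {xs ys rs ks : List ℕ},
    quotRowOk h g rt it nt xs ys rs ks = true → ∀ i, i < xs.length → ∀ hy : i < ys.length,
      ∀ hr : i < rs.length, ∀ hk : i < ks.length, ∀ hx : i < xs.length,
      rs[i] < 1008 ∧ ks[i] < 64 ∧
        compP h xs[i] = compP (getSlot 120 rt rs[i]) (getSlot 120 nt ks[i]) ∧
        imgMulOk g ys[i] (getSlot 16 it rs[i]) = true
  | [], _, _, _, _, i, hi, _, _, _, _ => absurd hi (Nat.not_lt_zero i)
  | x :: xs, [], rs, ks, h', _, _, _, _, _, _ => by simp [quotRowOk] at h'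
  | x :: xs, y :: ys, [], ks, h', _, _, _, _, _, _ => by simp [quotRowOk] at h'
  | x :: xs, y :: ys, r :: rs, [], h', _, _, _, _, _, _ => by simp [quotRowOk] at h'
  | x :: xs, y :: ys, r :: rs, k :: ks, h', i, hi, hy, hr, hk, hx => by
      simp only [quotRowOk, Bool.and_eq_true, Nat.blt_eq, beq_iff_eq] at h'
      match i with
      | 0 => exact ⟨h'.1.1.1.1, h'.1.1.1.2, h'.1.1.2, h'.1.2⟩
      | i + 1 =>
        exact quotRowOk_spec h'.2 i (by simpa using hi) (by simpa using hy) (by simpa using hr) (by simpa using hk) (by simpa using hx)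

/-- Every representative fixes the standard trio. -/
theorem trioReps_ok : (trioReps.all (fun g => inM24 g && (trioAct g trioRoot == trioRoot)) &&
    (trioReps.length == 1008) && slotsOk 120 (packSlots 120 trioReps) 0 trioReps &&
    slotsOk 16 (packSlots 16 trioImgs) 0 trioImgs &&
    incrOk (packSlots 16 trioImgs) trioImgSrt && (trioImgSrt.length == 1008) &&
    (trioImgSrt.all fun k => Nat.blt k 1008) && (trioReps.getD 0 0 == idP)) = true := by
  decide +kernel

theorem trioRows_ok : (quotRowOk (trioGC.gens.getD 0 0) (trioGenImgs.getD 0 0) (packSlots 120 trioReps)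
      (packSlots 16 trioImgs) trioN.tab trioReps trioImgs trioRow0 trioRem0 &&
    quotRowOk (trioGC.gens.getD 1 0) (trioGenImgs.getD 1 0) (packSlots 120 trioReps)
      (packSlots 16 trioImgs) trioN.tab trioReps trioImgs trioRow1 trioRem1 &&
    (trioRem0.length == 1008) && (trioRem1.length == 1008)) = true := by
  decide +kernel

theorem trioImgs_inj {i j : ℕ} (hi : i < 1008) (hj : j < 1008)
    (h : trioImgs.getD i 0 = trioImgs.getD j 0) : i = j := by
  have hr := trioReps_ok
  have hl := trioImgs_ok
  simp only [Bool.and_eq_true, beq_iff_eq, List.all_eq_true, Nat.blt_eq] at hr hl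
  have hlen : trioImgs.length = 1008 := by simp_all
  obtain ⟨⟨⟨⟨⟨-, hsl⟩, hinc⟩, hsn⟩, hsb⟩, -⟩ := hr
  have hpw := incrOk_pairwise _ _ hinc
  have heq : trioImgSrt.map (getSlot 16 (packSlots 16 trioImgs)) =
      trioImgSrt.map (fun k => trioImgs.getD k 0) := by
    refine List.map_congr_left fun k hk => ?_
    have hk' : k < trioImgs.length := by rw [hlen]; exact hsb k hk
    have := slotsOk_spec _ _ hsl k hk'
    rw [Nat.zero_add] at this
    rw [List.getD_eq_getElem _ _ hk', this]
  rw [heq] at hpw
  have hnd : trioImgSrt.Nodup := List.Nodup.of_map _ (hpw.imp fun h => ne_of_lt h)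
  have hall : trioImgSrt.toFinset = Finset.range 1008 := Finset.eq_of_subset_of_card_le
    (fun k hk => Finset.mem_range.2 (hsb k (List.mem_toFinset.1 hk)))
    (by rw [Finset.card_range, List.toFinset_card_of_nodup hnd, hsn])
  have hmem : ∀ k, k < 1008 → k ∈ trioImgSrt := fun k hk =>
    List.mem_toFinset.1 (hall ▸ Finset.mem_range.2 hk)
  obtain ⟨a, ha, rfl⟩ := List.mem_iff_getElem.1 (hmem i hi)
  obtain ⟨b, hb, rfl⟩ := List.mem_iff_getElem.1 (hmem j hj)
  have : a = b := by
    refine (List.Nodup.getElem_inj_iff (hpw.imp fun h => ne_of_lt h)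
      (hi := by simpa using ha) (hj := by simpa using hb)).1 ?_
    simpa using h
  subst this
  rfl

end Cfsg.Agent.Golay24
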